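import Groth.Agent.Lib.Helper41.LCTorsion

/-!
# Intrinsic characterisations of the vanishing of local cohomology (dimension shifting)
-/

set_option autoImplicit false
universe u
open CategoryTheory CategoryTheory.Limits Opposite CategoryTheory.Abelian

namespace Groth.Agent.Lib.Helper41.LC

variable {R : Type u} [CommRing R] (I : Ideal R)

/-- `H^0_I(M) = 0` iff `M` has no nonzero `I`-power torsion. -/
theorem subsingleton_zero_iff (M : ModuleCat.{u} R) :
    Subsingleton ((localCohomology I 0).obj M) ↔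
      ∀ m : M, (∃ n : ℕ, ∀ a ∈ I ^ n, a • m = 0) → m = 0 := by
  constructor
  · intro h m hm
    obtain ⟨x, rfl⟩ := (mem_range_toMod_iff I M m).2 hm
    rw [Subsingleton.elim x 0, map_zero]
  · intro h
    refine ⟨fun x y => ?_⟩
    apply toMod_injective I M
    rw [h _ ((mem_range_toMod_iff I M _).1 ⟨x, rfl⟩), h _ ((mem_range_toMod_iff I M _).1 ⟨y, rfl⟩)]

variable {S : ShortComplex (ModuleCat.{u} R)} (hS : S.ShortExact)

include hS in
/-- For `0 → X₁ → X₂ → X₃ → 0` with `H^1_I(X₂) = 0`: `H^1_I(X₁) = 0` iff `Γ_I(X₂) → Γ_I(X₃)` is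
surjective. -/
theorem subsingleton_one_iff (h2 : Subsingleton ((localCohomology I 1).obj S.X₂)) :
    Subsingleton ((localCohomology I 1).obj S.X₁) ↔
      ∀ c : S.X₃, (∃ n : ℕ, ∀ a ∈ I ^ n, a • c = 0) →
        ∃ e : S.X₂, (∃ n : ℕ, ∀ a ∈ I ^ n, a • e = 0) ∧ S.g.hom e = c := by
  constructor
  · intro h c hc
    obtain ⟨y, rfl⟩ := (mem_range_toMod_iff I S.X₃ c).2 hc
    obtain ⟨z, rfl⟩ := exact₃ I hS 0 1 rfl y (Subsingleton.elim _ _)
    exact ⟨toMod I S.X₂ z, (mem_range_toMod_iff I S.X₂ _).1 ⟨z, rfl⟩,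
      (toMod_naturality I S.g z).symm⟩
  · intro h
    refine ⟨fun x y => ?_⟩
    have key : ∀ x : (localCohomology I 1).obj S.X₁, x = 0 := by
      intro x
      obtain ⟨y, rfl⟩ := exact₁ I hS 0 1 rfl x (Subsingleton.elim _ _)
      obtain ⟨e, he, hec⟩ := h (toMod I S.X₃ y) ((mem_range_toMod_iff I S.X₃ _).1 ⟨y, rfl⟩)
      obtain ⟨z, rfl⟩ := (mem_range_toMod_iff I S.X₂ e).2 he
      have hy : ((localCohomology I 0).map S.g).hom z = y := by
        apply toMod_injective I S.X₃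
        rw [toMod_naturality, hec]
      rw [← hy]
      exact δ_map_eq_zero I hS 0 1 rfl z
    rw [key x, key y]

include hS in
/-- Dimension shifting: for `0 → X₁ → X₂ → X₃ → 0` with `H^i_I(X₂) = 0 = H^{i+1}_I(X₂)`:
`H^{i+1}_I(X₁) = 0` iff `H^i_I(X₃) = 0`. -/
theorem subsingleton_succ_iff (i : ℕ) (h2 : Subsingleton ((localCohomology I i).obj S.X₂))
    (h2' : Subsingleton ((localCohomology I (i + 1)).obj S.X₂)) :
    Subsingleton ((localCohomology I (i + 1)).obj S.X₁) ↔
      Subsingleton ((localCohomology I i).obj S.X₃) :=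
  (Equiv.ofBijective _ (δ_bijective_of_subsingleton I hS i h2 h2')).subsingleton_congr.symm

end Groth.Agent.Lib.Helper41.LC
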