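import Groth.Agent.Lib.Helper41.LCVanish
import Groth.Agent.Lib.Helper41.LCChar

/-!
# Finiteness of low local cohomology versus annihilation by a power of the ideal
-/

set_option autoImplicit false
universe u
open CategoryTheory CategoryTheory.Limits Opposite CategoryTheory.Abelian

namespace Groth.Agent.Lib.Helper41.LC

variable {R : Type u} [CommRing R]

/-- `H^0_I(M)` is finite for a finite module over a Noetherian ring. -/
theorem finite_zero [IsNoetherianRing R] (I : Ideal R) (M : Type u) [AddCommGroup M] [Module R M]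
    [Module.Finite R M] : Module.Finite R ((localCohomology I 0).obj (ModuleCat.of R M)) :=
  Module.Finite.of_injective (toMod I (ModuleCat.of R M)) (toMod_injective I _)

/-- Every element of `H^i_I(M)` is killed by a power of `I`. -/
lemma isTorsion_H (I : Ideal R) (i : ℕ) (M : ModuleCat.{u} R) :
    IsTorsion I ((localCohomology I i).obj M) := by
  intro x
  obtain ⟨n, e, rfl⟩ := exists_rep x
  exact ⟨n, fun a ha => smul_ιH_eq_zero I i M n e a ha⟩

section General

variable (I : Ideal R) {S : ShortComplex (ModuleCat.{u} R)} (hS : S.ShortExact)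

include hS in
lemma smul_eq_zero_X₃_of_surjective (i : ℕ) (a : R)
    (h2 : ∀ z : (localCohomology I i).obj S.X₂, a • z = 0)
    (hsurj : Function.Surjective ((localCohomology I i).map S.g).hom)
    (y : (localCohomology I i).obj S.X₃) : a • y = 0 := by
  obtain ⟨z, rfl⟩ := hsurj y
  rw [← map_smul, h2, map_zero]

include hS in
lemma mul_smul_eq_zero_X₃ (i : ℕ) (a b : R)
    (h1 : ∀ y : (localCohomology I (i + 1)).obj S.X₁, b • y = 0)
    (h2 : ∀ z : (localCohomology I i).obj S.X₂, a • z = 0)
    (z : (localCohomology I i).obj S.X₃) : (a * b) • z = 0 := by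
  have hδ : δ I hS i (i + 1) rfl (b • z) = 0 := by
    rw [map_smul]
    exact h1 _
  obtain ⟨w, hw⟩ := exact₃ I hS i (i + 1) rfl (b • z) hδ
  rw [mul_smul, ← hw, ← map_smul, h2, map_zero]

include hS in
lemma δ_surjective_of_map_f_eq_zero (i : ℕ)
    (h : ∀ y : (localCohomology I (i + 1)).obj S.X₁, ((localCohomology I (i + 1)).map S.f).hom y = 0) :
    Function.Surjective (δ I hS i (i + 1) rfl) :=
  fun y => exact₁ I hS i (i + 1) rfl y (h y)

end General

/-- If `I^k` kills `H^i_I(M)` for all `i ≤ n` (`M` finite over a Noetherian ring), then these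
modules are finite. -/
theorem finite_of_pow_smul_eq_zero [IsNoetherianRing R] (I : Ideal R) (n : ℕ) :
    ∀ (M : Type u) [AddCommGroup M] [Module R M] [Module.Finite R M] (k : ℕ),
      (∀ i ≤ n, ∀ a ∈ I ^ k, ∀ x : (localCohomology I i).obj (ModuleCat.of R M), a • x = 0) →
      ∀ i ≤ n, Module.Finite R ((localCohomology I i).obj (ModuleCat.of R M)) := by
  induction n with
  | zero =>
    intro M _ _ _ k _ i hi
    obtain rfl : i = 0 := by omega
    exact finite_zero I M
  | succ n ih =>
    intro M _ _ _ k₀ hk₀ i hi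
    rcases Nat.eq_zero_or_pos i with rfl | hipos
    · exact finite_zero I M
    obtain ⟨j, rfl⟩ : ∃ j, i = j + 1 := ⟨i - 1, by omega⟩
    -- replace `k₀` by `k = k₀ + 1 ≥ 1`
    set k := k₀ + 1 with hkdef
    have hk : ∀ i ≤ n + 1, ∀ a ∈ I ^ k, ∀ x : (localCohomology I i).obj (ModuleCat.of R M),
        a • x = 0 := fun i hi a ha x => hk₀ i hi a (Ideal.pow_le_pow_right (Nat.le_succ k₀) ha) x
    let T : Submodule R M := powTorsion I M
    have hS₁ := subQuotSC_shortExact T
    have hT : ∀ i, 0 < i → Subsingleton ((localCohomology I i).obj (subQuotSC T).X₁) :=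
      fun i hi => subsingleton_of_isTorsion I i hi (ModuleCat.of R T) (isTorsion_powTorsion I M)
    have hN0 : powTorsion I (M ⧸ T) = ⊥ := powTorsion_quotient_eq_bot I M
    have hN0' : powTorsion (I ^ k) (M ⧸ T) = ⊥ := by
      rw [eq_bot_iff]
      intro m hm
      rw [← hN0]
      obtain ⟨l, hl⟩ := hm
      refine ⟨k * l, fun a ha => hl a ?_⟩
      rw [← pow_mul]
      exact ha
    obtain ⟨x, hxI, hreg⟩ := exists_isSMulRegular_mem (I ^ k) (M ⧸ T) hN0'
    have hS₂ := hreg.smulShortComplex_shortExact (M := ModuleCat.of R (M ⧸ T))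
    -- `I^k` kills `H^i(N)` for `i ≤ n + 1`
    have hkN : ∀ i ≤ n + 1, ∀ a ∈ I ^ k,
        ∀ y : (localCohomology I i).obj (ModuleCat.of R (M ⧸ T)), a • y = 0 := by
      intro i hi a ha y
      rcases Nat.eq_zero_or_pos i with rfl | hipos
      · have : Subsingleton ((localCohomology I 0).obj (ModuleCat.of R (M ⧸ T))) := by
          rw [subsingleton_zero_iff]
          intro m hm
          have : m ∈ powTorsion I (M ⧸ T) := hm
          rw [hN0] at this
          exact this
        exact Subsingleton.elim _ _
      · exact smul_eq_zero_X₃_of_surjective I hS₁ i a (hk i hi a ha)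
          (map_g_surjective_of_subsingleton I hS₁ i (hT (i + 1) (by omega))) y
    -- the quotient `Q = N / xN`
    have hkQ : ∀ i ≤ n, ∀ c ∈ I ^ (k + k),
        ∀ z : (localCohomology I i).obj (ModuleCat.of R (QuotSMulTop x (M ⧸ T))), c • z = 0 := by
      intro i hi c hc z
      have hle : I ^ k * I ^ k ≤ Module.annihilator R
          ((localCohomology I i).obj (ModuleCat.of R (QuotSMulTop x (M ⧸ T)))) := by
        rw [Ideal.mul_le]
        intro a ha b hb
        rw [Module.mem_annihilator]
        intro z
        exact mul_smul_eq_zero_X₃ I hS₂ i a b (hkN (i + 1) (by omega) b hb)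
          (hkN i (by omega) a ha) z
      rw [pow_add] at hc
      exact (Module.mem_annihilator.1 (hle hc)) z
    have hfinQ : Module.Finite R ((localCohomology I j).obj
        ((ModuleCat.of R (M ⧸ T)).smulShortComplex x).X₃) :=
      ih (QuotSMulTop x (M ⧸ T)) (k + k) hkQ j (by omega)
    -- `δ : H^j(Q) → H^{j+1}(N)` is surjective
    have hδ : Function.Surjective (δ I hS₂ j (j + 1) rfl) := by
      apply δ_surjective_of_map_f_eq_zero I hS₂ j
      intro y
      change ((localCohomology I (j + 1)).map (x • 𝟙 (ModuleCat.of R (M ⧸ T)))).hom y = 0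
      rw [map_smul_id]
      exact hkN (j + 1) hi x hxI y
    have hfinN : Module.Finite R ((localCohomology I (j + 1)).obj (subQuotSC T).X₃) :=
      Module.Finite.of_surjective (δ I hS₂ j (j + 1) rfl) hδ
    have hinj := map_g_injective_of_subsingleton I hS₁ (j + 1) (hT (j + 1) (by omega))
    exact Module.Finite.of_injective ((localCohomology I (j + 1)).map (subQuotSC T).g).hom hinj

end Groth.Agent.Lib.Helper41.LC
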