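import Groth.Agent.Lib.Helper41.LCArtinian
import Groth.Agent.Lib.Helper41.LCFaltings
import Mathlib.RingTheory.HopkinsLevitzki

/-!
# Artinian modules killed by a power of the maximal ideal have finite length
-/

set_option autoImplicit false
universe u
open IsLocalRing

namespace Groth.Agent.Lib.Helper41.ArtinianFL

open Groth.Agent.Lib.Helper41.LC

theorem isNoetherian_of_pow_le (R : Type u) [CommRing R] [IsLocalRing R] (n : ℕ) :
    ∀ (T : Type u) [AddCommGroup T] [Module R T] [IsArtinian R T],
      maximalIdeal R ^ n ≤ Module.annihilator R T → IsNoetherian R T := by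
  have base : ∀ (T : Type u) [AddCommGroup T] [Module R T] [IsArtinian R T],
      maximalIdeal R ≤ Module.annihilator R T → IsNoetherian R T := by
    intro T _ _ _ h
    rw [← SetLike.coe_subset_coe, ← Module.isTorsionBySet_iff_subset_annihilator] at h
    letI := h.module
    letI : Field (R ⧸ maximalIdeal R) := Ideal.Quotient.field (maximalIdeal R)
    have : IsSemisimpleModule R T :=
      (h.semilinearMap.isSemisimpleModule_iff_of_bijective Function.bijective_id).2 inferInstance
    have key : IsNoetherian R T ↔ IsArtinian R T := IsSemisimpleModule.finite_tfae.out 1 2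
    exact key.mpr inferInstance
  induction n with
  | zero =>
    intro T _ _ _ hn
    rw [pow_zero, Ideal.one_eq_top] at hn
    exact base T (le_top.trans hn)
  | succ n ih =>
    intro T _ _ _ hn
    obtain _ | n := n
    · rw [zero_add, pow_one] at hn
      exact base T hn
    rw [isNoetherian_iff_submodule_quotient (maximalIdeal R • (⊤ : Submodule R T))]
    refine ⟨ih _ ?_, ih _ ?_⟩
    · rwa [← Submodule.annihilator_top, Submodule.le_annihilator_iff, pow_succ,
        Submodule.mul_smul, ← Submodule.le_annihilator_iff] at hn
    · rw [← SetLike.coe_subset_coe, ← Module.isTorsionBySet_iff_subset_annihilator,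
        Module.isTorsionBySet_quotient_iff]
      exact fun m i hi ↦ Submodule.smul_mem_smul (Ideal.pow_le_self n.succ_ne_zero hi) trivial

/-- `H^i_m(M)` has finite length iff `m ≤ √Ann H^i_m(M)`. -/
theorem isFiniteLength_H_iff (R : Type u) [CommRing R] [IsLocalRing R] [IsNoetherianRing R]
    (M : Type u) [AddCommGroup M] [Module R M] [Module.Finite R M] (i : ℕ) :
    IsFiniteLength R (LocCoh.H (maximalIdeal R) i M) ↔
      maximalIdeal R ≤ (Module.annihilator R (LocCoh.H (maximalIdeal R) i M)).radical := by
  haveI : IsArtinian R (LocCoh.H (maximalIdeal R) i M) := isArtinian_maximalIdeal i M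
  constructor
  · intro h
    have hN : IsNoetherian R (LocCoh.H (maximalIdeal R) i M) :=
      (isFiniteLength_iff_isNoetherian_isArtinian.mp h).1
    obtain ⟨k, hk⟩ := exists_pow_smul_eq_zero_of_fg (maximalIdeal R)
      (isTorsion_H (maximalIdeal R) i (ModuleCat.of R M)) ⊤ (IsNoetherian.noetherian _)
    have hle : maximalIdeal R ^ k ≤ Module.annihilator R (LocCoh.H (maximalIdeal R) i M) := by
      intro a ha
      rw [Module.mem_annihilator]
      exact fun y => hk a ha y Submodule.mem_top
    intro a ha
    exact ⟨k, hle (Ideal.pow_mem_pow ha k)⟩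
  · intro h
    obtain ⟨k, hk⟩ := Ideal.exists_pow_le_of_le_radical_of_fg h
      (IsNoetherian.noetherian (maximalIdeal R))
    have hN := isNoetherian_of_pow_le R k (LocCoh.H (maximalIdeal R) i M) hk
    exact isFiniteLength_iff_isNoetherian_isArtinian.mpr ⟨hN, inferInstance⟩

end Groth.Agent.Lib.Helper41.ArtinianFL
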