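import Groth.Agent.Lib.Helper41.LC
import Mathlib.Algebra.Homology.DerivedCategory.Ext.EnoughInjectives

/-!
# `H^0_I(M) = Γ_I(M)` and vanishing of local cohomology on injectives
-/

set_option autoImplicit false
universe u
open CategoryTheory CategoryTheory.Limits Opposite CategoryTheory.Abelian

namespace Groth.Agent.Lib.Helper41.LC

variable {R : Type u} [CommRing R] (I : Ideal R)

/-- Evaluation at `1` of a map `R/I^n → M`. -/
noncomputable def ev1 (M : ModuleCat.{u} R) (n : ℕ) : Ext.{u} (Q I n) M 0 →ₗ[R] M where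
  toFun e := (Ext.linearEquiv₀ (R := R) e).hom (Submodule.Quotient.mk 1)
  map_add' e e' := by rw [map_add]; rfl
  map_smul' r e := by rw [map_smul]; rfl

lemma ev1_mk₀ (M : ModuleCat.{u} R) (n : ℕ) (f : Q I n ⟶ M) :
    ev1 I M n (Ext.mk₀ f) = f.hom (Submodule.Quotient.mk 1) := by
  have : Ext.linearEquiv₀ (R := R) (Ext.mk₀ f) = f := Ext.addEquiv₀.right_inv f
  change (Ext.linearEquiv₀ (R := R) (Ext.mk₀ f)).hom _ = _
  rw [this]

lemma hom_ext_Q {M : ModuleCat.{u} R} {n : ℕ} {f g : Q I n ⟶ M}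
    (h : f.hom (Submodule.Quotient.mk 1) = g.hom (Submodule.Quotient.mk 1)) : f = g := by
  apply ModuleCat.hom_ext
  apply LinearMap.ext
  intro x
  obtain ⟨x, rfl⟩ := Submodule.Quotient.mk_surjective _ x
  have hx : (Submodule.Quotient.mk x : R ⧸ I ^ n) = x • (Submodule.Quotient.mk 1) := by
    rw [← Submodule.Quotient.mk_smul, smul_eq_mul, mul_one]
  rw [hx, map_smul, map_smul, h]

lemma ev1_injective (M : ModuleCat.{u} R) (n : ℕ) : Function.Injective (ev1 I M n) := by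
  intro e e' h
  obtain ⟨f, rfl⟩ := Ext.addEquiv₀.symm.surjective e
  obtain ⟨f', rfl⟩ := Ext.addEquiv₀.symm.surjective e'
  change ev1 I M n (Ext.mk₀ f) = ev1 I M n (Ext.mk₀ f') at h
  change Ext.mk₀ f = Ext.mk₀ f'
  rw [ev1_mk₀, ev1_mk₀] at h
  rw [hom_ext_Q I h]

lemma ev1_comp_proj (M : ModuleCat.{u} R) {n m : ℕ} (h : n ≤ m) (e : Ext.{u} (Q I n) M 0) :
    ev1 I M m ((Ext.mk₀ (proj I h)).comp e (zero_add 0)) = ev1 I M n e := by
  obtain ⟨f, rfl⟩ := Ext.addEquiv₀.symm.surjective e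
  change ev1 I M m ((Ext.mk₀ (proj I h)).comp (Ext.mk₀ f) (zero_add 0)) = ev1 I M n (Ext.mk₀ f)
  rw [Ext.mk₀_comp_mk₀, ev1_mk₀, ev1_mk₀]
  rfl

lemma ev1_comp_mk₀ {M M' : ModuleCat.{u} R} (g : M ⟶ M') (n : ℕ) (e : Ext.{u} (Q I n) M 0) :
    ev1 I M' n (e.comp (Ext.mk₀ g) (add_zero 0)) = g.hom (ev1 I M n e) := by
  obtain ⟨f, rfl⟩ := Ext.addEquiv₀.symm.surjective e
  change ev1 I M' n ((Ext.mk₀ f).comp (Ext.mk₀ g) (add_zero 0)) = g.hom (ev1 I M n (Ext.mk₀ f))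
  rw [Ext.mk₀_comp_mk₀, ev1_mk₀, ev1_mk₀]
  rfl

lemma smul_ev1_eq_zero (M : ModuleCat.{u} R) (n : ℕ) (e : Ext.{u} (Q I n) M 0) (a : R) (ha : a ∈ I ^ n) :
    a • ev1 I M n e = 0 := by
  obtain ⟨f, rfl⟩ := Ext.addEquiv₀.symm.surjective e
  change a • ev1 I M n (Ext.mk₀ f) = 0
  rw [ev1_mk₀, ← map_smul, ← Submodule.Quotient.mk_smul, smul_eq_mul, mul_one,
    (Submodule.Quotient.mk_eq_zero _).2 ha, map_zero]

/-- The map `R/I^n → M` sending `1` to an element killed by `I^n`. -/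
noncomputable def ofTorsion (M : ModuleCat.{u} R) (n : ℕ) (m : M) (hm : ∀ a ∈ I ^ n, a • m = 0) : Q I n ⟶ M :=
  ModuleCat.ofHom ((I ^ n).liftQ (LinearMap.toSpanSingleton R M m) (by
    intro a ha
    rw [LinearMap.mem_ker, LinearMap.toSpanSingleton_apply]
    exact hm a ha))

lemma ofTorsion_one (M : ModuleCat.{u} R) (n : ℕ) (m : M) (hm : ∀ a ∈ I ^ n, a • m = 0) :
    (ofTorsion I M n m hm).hom (Submodule.Quotient.mk 1) = m := by
  change (I ^ n).liftQ (LinearMap.toSpanSingleton R M m) _ (Submodule.Quotient.mk 1) = m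
  rw [Submodule.liftQ_apply, LinearMap.toSpanSingleton_apply, one_smul]

/-- The canonical map `H^0_I(M) → M`. -/
noncomputable def toMod (M : ModuleCat.{u} R) : (localCohomology I 0).obj M →ₗ[R] M :=
  descH (fun n => ev1 I M n) (fun _ _ h e => ev1_comp_proj I M h e)

lemma toMod_ιH (M : ModuleCat.{u} R) (n : ℕ) (e : Ext.{u} (Q I n) M 0) :
    toMod I M (ιH I 0 M n e) = ev1 I M n e := descH_ιH _ _ n e

lemma toMod_injective (M : ModuleCat.{u} R) : Function.Injective (toMod I M) := by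
  rw [injective_iff_map_eq_zero]
  intro x hx
  obtain ⟨n, e, rfl⟩ := exists_rep x
  rw [toMod_ιH] at hx
  have : e = 0 := ev1_injective I M n (by rw [hx, map_zero])
  rw [this, map_zero]

lemma mem_range_toMod_iff (M : ModuleCat.{u} R) (m : M) :
    m ∈ LinearMap.range (toMod I M) ↔ ∃ n : ℕ, ∀ a ∈ I ^ n, a • m = 0 := by
  constructor
  · rintro ⟨x, rfl⟩
    obtain ⟨n, e, rfl⟩ := exists_rep x
    refine ⟨n, fun a ha => ?_⟩
    rw [toMod_ιH]
    exact smul_ev1_eq_zero I M n e a ha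
  · rintro ⟨n, hn⟩
    refine ⟨ιH I 0 M n (Ext.mk₀ (ofTorsion I M n m hn)), ?_⟩
    rw [toMod_ιH, ev1_mk₀, ofTorsion_one]

lemma toMod_naturality {M M' : ModuleCat.{u} R} (g : M ⟶ M') (x : (localCohomology I 0).obj M) :
    toMod I M' (((localCohomology I 0).map g).hom x) = g.hom (toMod I M x) := by
  obtain ⟨n, e, rfl⟩ := exists_rep x
  rw [map_ιH, toMod_ιH, toMod_ιH, ev1_comp_mk₀]

/-- Local cohomology of an injective module vanishes in positive degrees. -/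
theorem subsingleton_of_injective (M : ModuleCat.{u} R) [Injective M] (i : ℕ) (hi : 0 < i) :
    Subsingleton ((localCohomology I i).obj M) := by
  refine ⟨fun x y => ?_⟩
  obtain ⟨n, e, rfl⟩ := exists_rep x
  obtain ⟨n', e', rfl⟩ := exists_rep y
  obtain ⟨k, rfl⟩ : ∃ k, i = k + 1 := ⟨i - 1, by omega⟩
  rw [Ext.eq_zero_of_injective e, Ext.eq_zero_of_injective e', map_zero, map_zero]

end Groth.Agent.Lib.Helper41.LC
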