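import Groth.Agent.Lib.Helper41.LCAdjDepth
import Groth.Agent.Lib.Helper93.ReflexiveDepth
import Groth.Agent.S0318

/-!
# Local cohomology vanishes below the depth (no nonzero hypothesis)
-/

set_option autoImplicit false
universe u
open IsLocalRing

namespace Groth.Agent.Lib.Helper41.DepthVanish

open Groth.Agent.Lib.Helper41.LC

theorem subsingleton_H_of_lt_depth (B : Type u) [CommRing B] [IsLocalRing B] [IsNoetherianRing B]
    (N : Type u) [AddCommGroup N] [Module B N] [Module.Finite B N] (j : ℕ)
    (hj : (j : ℕ∞) < LocCoh.depth B N) : Subsingleton (LocCoh.H (maximalIdeal B) j N) := by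
  by_cases hIM : maximalIdeal B • (⊤ : Submodule B N) = ⊤
  · have hbot : (⊤ : Submodule B N) = ⊥ :=
      Submodule.eq_bot_of_le_smul_of_le_jacobson_bot (maximalIdeal B) ⊤ Module.Finite.fg_top
        hIM.ge (IsLocalRing.maximalIdeal_le_jacobson _)
    have hsub : Subsingleton N := by
      refine ⟨fun a b => ?_⟩
      have ha : a ∈ (⊥ : Submodule B N) := hbot ▸ Submodule.mem_top
      have hb : b ∈ (⊥ : Submodule B N) := hbot ▸ Submodule.mem_top
      rw [Submodule.mem_bot] at ha hb
      rw [ha, hb]
    apply subsingleton_of_supportDim_lt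
    rw [Module.supportDim_eq_bot_of_subsingleton]
    exact WithBot.bot_lt_coe _
  · have hk : ((j + 1 : ℕ) : ℕ∞) ≤ LocCoh.idealDepth (maximalIdeal B) N := by
      have : ((j + 1 : ℕ) : ℕ∞) = (j : ℕ∞) + 1 := by push_cast; rfl
      rw [this]
      exact Order.add_one_le_of_lt hj
    obtain ⟨rs, hreg, hmem, hlen⟩ :=
      Groth.Agent.Lib.Helper93.ReflexiveDepth.exists_regular_of_le_idealDepth (maximalIdeal B) N
        (j + 1) hk hIM
    exact Groth.Agent.S0318.vanish_below (maximalIdeal B) N rs hreg hmem j (by omega)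

end Groth.Agent.Lib.Helper41.DepthVanish
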