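import Groth.Agent.Lib.Helper41.LCUnion
import Mathlib.RingTheory.Ideal.AssociatedPrime.Finiteness
import Mathlib.RingTheory.KrullDimension.Regular
import Mathlib.RingTheory.Regular.Category

/-!
# Grothendieck's vanishing theorem for local cohomology (Noetherian case)
-/

set_option autoImplicit false
universe u
open CategoryTheory CategoryTheory.Limits Opposite CategoryTheory.Abelian

namespace Groth.Agent.Lib.Helper41.LC

variable {R : Type u} [CommRing R]

lemma exists_pow_smul_eq_zero_of_fg_le (I : Ideal R) {M : Type u} [AddCommGroup M] [Module R M]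
    (S : Submodule R M) (hS : S.FG) (hle : S ≤ powTorsion I M) :
    ∃ k : ℕ, ∀ a ∈ I ^ k, ∀ y ∈ S, a • y = 0 := by
  induction S, hS using Submodule.fg_induction with
  | singleton y =>
    obtain ⟨k, hk⟩ := hle (Submodule.mem_span_singleton_self y)
    refine ⟨k, fun a ha z hz => ?_⟩
    obtain ⟨r, rfl⟩ := Submodule.mem_span_singleton.mp hz
    rw [smul_comm, hk a ha, smul_zero]
  | sup S₁ S₂ _ _ h₁ h₂ =>
    obtain ⟨k₁, hk₁⟩ := h₁ (le_sup_left.trans hle)
    obtain ⟨k₂, hk₂⟩ := h₂ (le_sup_right.trans hle)
    refine ⟨k₁ + k₂, fun a ha z hz => ?_⟩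
    obtain ⟨y₁, hy₁, y₂, hy₂, rfl⟩ := Submodule.mem_sup.mp hz
    rw [smul_add, hk₁ a (Ideal.pow_le_pow_right (Nat.le_add_right _ _) ha) y₁ hy₁,
      hk₂ a (Ideal.pow_le_pow_right (Nat.le_add_left _ _) ha) y₂ hy₂, add_zero]

/-- Over a Noetherian ring, `M/Γ_I(M)` has no `I`-power torsion. -/
theorem powTorsion_quotient_eq_bot [IsNoetherianRing R] (I : Ideal R) (M : Type u) [AddCommGroup M] [Module R M] :
    powTorsion I (M ⧸ powTorsion I M) = ⊥ := by
  rw [eq_bot_iff]
  rintro y ⟨k, hk⟩
  obtain ⟨m, rfl⟩ := Submodule.Quotient.mk_surjective _ y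
  rw [Submodule.mem_bot, Submodule.Quotient.mk_eq_zero]
  -- the submodule I^k • m
  let S : Submodule R M := Submodule.map (LinearMap.toSpanSingleton R M m) (I ^ k)
  have hSfg : S.FG := (IsNoetherian.noetherian (I ^ k)).map _
  have hSle : S ≤ powTorsion I M := by
    rintro _ ⟨a, ha, rfl⟩
    have := hk a ha
    rw [← Submodule.Quotient.mk_smul, Submodule.Quotient.mk_eq_zero] at this
    exact this
  obtain ⟨n, hn⟩ := exists_pow_smul_eq_zero_of_fg_le I S hSfg hSle
  refine ⟨n + k, fun c hc => ?_⟩
  rw [pow_add] at hc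
  refine Submodule.mul_induction_on hc ?_ ?_
  · intro b hb a ha
    rw [mul_smul]
    exact hn b hb _ ⟨a, ha, rfl⟩
  · intro x y hx hy
    rw [add_smul, hx, hy, add_zero]

/-- If `Γ_I(M) = 0` for a finite module over a Noetherian ring, `I` contains an `M`-regular element. -/
theorem exists_isSMulRegular_mem [IsNoetherianRing R] (I : Ideal R) (M : Type u) [AddCommGroup M] [Module R M]
    [Module.Finite R M] (h0 : powTorsion I M = ⊥) : ∃ r ∈ I, IsSMulRegular M r := by
  by_contra hcon
  push Not at hcon
  have hsub : (I : Set R) ⊆ ⋃ p ∈ associatedPrimes R M, (p : Set R) := by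
    intro r hr
    rw [biUnion_associatedPrimes_eq_zero_divisors]
    have := hcon r hr
    rw [isSMulRegular_iff_right_eq_zero_of_smul] at this
    push Not at this
    obtain ⟨x, hx, hx0⟩ := this
    exact ⟨x, hx0, hx⟩
  have hfin := associatedPrimes.finite R M
  rw [← hfin.coe_toFinset] at hsub
  have hsub' : (I : Set R) ⊆ ⋃ p ∈ (hfin.toFinset : Set (Ideal R)), ((fun q : Ideal R => q) p : Set R) := by
    simpa using hsub
  rw [Ideal.subset_union_prime (f := fun q : Ideal R => q) ⊥ ⊥] at hsub'
  · obtain ⟨p, hp, hIp⟩ := hsub'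
    rw [Set.Finite.mem_toFinset] at hp
    obtain ⟨hprime, x, hx⟩ := (isAssociatedPrime_iff).1 hp
    have hxmem : x ∈ powTorsion I M := by
      refine ⟨1, fun a ha => ?_⟩
      rw [pow_one] at ha
      have := hIp ha
      rw [hx, Submodule.mem_colon_singleton, Submodule.mem_bot] at this
      exact this
    rw [h0, Submodule.mem_bot] at hxmem
    apply hprime.ne_top
    rw [hx, hxmem, Ideal.eq_top_iff_one, Submodule.mem_colon_singleton, smul_zero]
    exact Submodule.zero_mem _
  · intro p hp _ _
    rw [Set.Finite.mem_toFinset] at hp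
    exact hp.isPrime

lemma withBot_enat_aux (a : WithBot ℕ∞) (n : ℕ) (h : a + 1 ≤ (n : WithBot ℕ∞)) :
    a = ⊥ ∨ ∃ k : ℕ, n = k + 1 ∧ a ≤ (k : WithBot ℕ∞) := by
  induction a using WithBot.recBotCoe with
  | bot => exact Or.inl rfl
  | coe a' =>
    right
    have h1 : ((a' + 1 : ℕ∞) : WithBot ℕ∞) ≤ ((n : ℕ∞) : WithBot ℕ∞) := by exact_mod_cast h
    rw [WithBot.coe_le_coe] at h1
    induction a' using ENat.recTopCoe with
    | top => simp at h1
    | coe m =>
      have h2 : m + 1 ≤ n := by exact_mod_cast h1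
      refine ⟨n - 1, by omega, ?_⟩
      have : m ≤ n - 1 := by omega
      have h3 : ((m : ℕ∞) : WithBot ℕ∞) ≤ (((n - 1 : ℕ) : ℕ∞) : WithBot ℕ∞) := by
        rw [WithBot.coe_le_coe]
        exact_mod_cast this
      exact h3

/-- **Grothendieck vanishing** for finitely generated modules over a Noetherian ring:
`H^i_I(M) = 0` for `i > dim Supp M`. -/
theorem subsingleton_of_supportDim_le_fg [IsNoetherianRing R] (I : Ideal R) (n : ℕ) :
    ∀ (M : Type u) [AddCommGroup M] [Module R M] [Module.Finite R M],
      Module.supportDim R M ≤ (n : WithBot ℕ∞) → ∀ i, n < i →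
        Subsingleton ((localCohomology I i).obj (ModuleCat.of R M)) := by
  induction n using Nat.strong_induction_on with
  | _ n ih =>
    intro M _ _ _ hdim i hi
    let T : Submodule R M := powTorsion I M
    have hS₁ := subQuotSC_shortExact T
    have hT : Subsingleton ((localCohomology I i).obj (subQuotSC T).X₁) :=
      subsingleton_of_isTorsion I i (by omega) (ModuleCat.of R T) (isTorsion_powTorsion I M)
    have hinj := map_g_injective_of_subsingleton I hS₁ i hT
    suffices hbar : Subsingleton ((localCohomology I i).obj (ModuleCat.of R (M ⧸ T))) by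
      have hbar' : Subsingleton ((localCohomology I i).obj (subQuotSC T).X₃) := hbar
      exact hinj.subsingleton
    have hdimbar : Module.supportDim R (M ⧸ T) ≤ (n : WithBot ℕ∞) :=
      (Module.supportDim_le_of_surjective T.mkQ T.mkQ_surjective).trans hdim
    obtain ⟨r, hrI, hreg⟩ := exists_isSMulRegular_mem I (M ⧸ T) (powTorsion_quotient_eq_bot I M)
    have hS₂ := hreg.smulShortComplex_shortExact (M := ModuleCat.of R (M ⧸ T))
    have hdimQ : Module.supportDim R (QuotSMulTop r (M ⧸ T)) + 1 ≤ (n : WithBot ℕ∞) :=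
      (Module.supportDim_quotSMulTop_succ_le_of_notMem_minimalPrimes
        (fun _ => hreg.notMem_of_mem_minimalPrimes)).trans hdimbar
    obtain ⟨j, rfl⟩ : ∃ j, i = j + 1 := ⟨i - 1, by omega⟩
    have hQ : Subsingleton ((localCohomology I j).obj ((ModuleCat.of R (M ⧸ T)).smulShortComplex r).X₃) := by
      rcases withBot_enat_aux _ n hdimQ with h | ⟨k, hk, hle⟩
      · have : Subsingleton (QuotSMulTop r (M ⧸ T)) := (Module.supportDim_eq_bot_iff_subsingleton R _).1 h
        exact subsingleton_of_subsingleton I j (ModuleCat.of R (QuotSMulTop r (M ⧸ T)))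
      · exact ih k (by omega) (QuotSMulTop r (M ⧸ T)) hle j (by omega)
    have hinj2 := map_f_injective_of_subsingleton I hS₂ j hQ
    apply subsingleton_of_injective_smul I (j + 1) (ModuleCat.of R (M ⧸ T)) r hrI
    intro x y hxy
    apply hinj2
    change ((localCohomology I (j + 1)).map (r • 𝟙 (ModuleCat.of R (M ⧸ T)))).hom x =
      ((localCohomology I (j + 1)).map (r • 𝟙 (ModuleCat.of R (M ⧸ T)))).hom y
    rw [map_smul_id, map_smul_id]
    exact hxy

/-- **Grothendieck vanishing** for arbitrary modules: `H^i_I(M) = 0` for `i > dim Supp M`. -/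
theorem subsingleton_of_supportDim_lt [IsNoetherianRing R] (I : Ideal R) (M : Type u) [AddCommGroup M] [Module R M]
    (i : ℕ) (hi : Module.supportDim R M < (i : WithBot ℕ∞)) :
    Subsingleton ((localCohomology I i).obj (ModuleCat.of R M)) := by
  apply subsingleton_of_forall_fg
  intro M' hM'
  have : Module.Finite R M' := Module.Finite.iff_fg.2 hM'
  have hle : Module.supportDim R M' ≤ Module.supportDim R M :=
    Module.supportDim_le_of_injective M'.subtype M'.injective_subtype
  have hlt := hle.trans_lt hi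
  -- supportDim M' is ⊥ or a natural number < i
  obtain ⟨j, rfl⟩ | hi0 : (∃ j, i = j + 1) ∨ i = 0 := by
    rcases Nat.eq_zero_or_pos i with h | h
    · exact Or.inr h
    · exact Or.inl ⟨i - 1, by omega⟩
  · have h2 : Module.supportDim R M' ≤ (j : WithBot ℕ∞) := by
      have h3 : Module.supportDim R M' + 1 ≤ ((j + 1 : ℕ) : WithBot ℕ∞) := by
        induction hd : Module.supportDim R M' using WithBot.recBotCoe with
        | bot => simp
        | coe a =>
          rw [hd] at hlt
          have h4 : (a : WithBot ℕ∞) < (((j + 1 : ℕ) : ℕ∞) : WithBot ℕ∞) := by exact_mod_cast hlt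
          rw [WithBot.coe_lt_coe] at h4
          have h5 : a + 1 ≤ ((j + 1 : ℕ) : ℕ∞) := Order.add_one_le_of_lt h4
          exact_mod_cast h5
      rcases withBot_enat_aux _ (j + 1) h3 with h | ⟨k, hk, hle'⟩
      · rw [h]; exact bot_le
      · have : k = j := by omega
        rw [← this]; exact hle'
    exact subsingleton_of_supportDim_le_fg I j M' h2 (j + 1) (by omega)
  · subst hi0
    have hb : Module.supportDim R M' = ⊥ := by
      induction hd : Module.supportDim R M' using WithBot.recBotCoe with
      | bot => rfl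
      | coe a =>
        rw [hd] at hlt
        have h4 : (a : WithBot ℕ∞) < (((0 : ℕ) : ℕ∞) : WithBot ℕ∞) := by exact_mod_cast hlt
        rw [WithBot.coe_lt_coe] at h4
        simp at h4
    have : Subsingleton M' := (Module.supportDim_eq_bot_iff_subsingleton R _).1 hb
    exact subsingleton_of_subsingleton I 0 (ModuleCat.of R M')

end Groth.Agent.Lib.Helper41.LC
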