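import Groth.Agent.Lib.Helper41.LCFaltings
import Groth.Agent.Lib.Helper41.LCVanish
import Groth.Statements.S11644

/-!
# Finiteness dimensions: annihilation of local cohomology by powers of an ideal

`KillPow b X` says that some power of `b` kills `X`; `LZ p X` says that `X` is locally zero at the
prime `p`.  Both are "Serre-type" properties, and we record their behaviour along the long exact
sequence of local cohomology.
-/

set_option autoImplicit false
universe u
open CategoryTheory CategoryTheory.Limits Opposite CategoryTheory.Abelian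

namespace Groth.Agent.Lib.Helper41.LC

variable {R : Type u} [CommRing R]

/-- Some power of `b` kills `X`. -/
def KillPow (b : Ideal R) (X : Type u) [AddCommGroup X] [Module R X] : Prop :=
  ∃ k : ℕ, ∀ r ∈ b ^ k, ∀ x : X, r • x = 0

/-- `X` is locally zero at `p`: every element is killed by some `s ∉ p`. -/
def LZ (p : Ideal R) (X : Type u) [AddCommGroup X] [Module R X] : Prop :=
  ∀ x : X, ∃ s : R, s ∉ p ∧ s • x = 0

section Exact

variable {X Y Z : Type u} [AddCommGroup X] [Module R X] [AddCommGroup Y] [Module R Y]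
  [AddCommGroup Z] [Module R Z]

lemma KillPow.of_exact (b : Ideal R) (f : X →ₗ[R] Y) (g : Y →ₗ[R] Z)
    (hex : ∀ y, g y = 0 → ∃ x, f x = y) (hX : KillPow b X) (hZ : KillPow b Z) : KillPow b Y := by
  obtain ⟨k, hk⟩ := hX
  obtain ⟨l, hl⟩ := hZ
  refine ⟨l + k, fun r hr y => ?_⟩
  rw [add_comm, pow_add] at hr
  refine Submodule.mul_induction_on hr ?_ ?_
  · intro c hc d hd
    obtain ⟨x, hx⟩ := hex (d • y) (by rw [map_smul, hl d hd])
    rw [mul_smul, ← hx, ← map_smul, hk c hc, map_zero]
  · intro c d hc hd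
    rw [add_smul, hc, hd, add_zero]

lemma KillPow.mono {b b' : Ideal R} (h : b' ≤ b) (hX : KillPow b X) : KillPow b' X := by
  obtain ⟨k, hk⟩ := hX
  exact ⟨k, fun r hr x => hk r (Ideal.pow_right_mono h k hr) x⟩

lemma KillPow.of_subsingleton (b : Ideal R) [Subsingleton X] : KillPow b X :=
  ⟨0, fun _ _ _ => Subsingleton.elim _ _⟩

lemma LZ.of_exact (p : Ideal R) [p.IsPrime] (f : X →ₗ[R] Y) (g : Y →ₗ[R] Z)
    (hex : ∀ y, g y = 0 → ∃ x, f x = y) (hX : LZ p X) (hZ : LZ p Z) : LZ p Y := by
  intro y
  obtain ⟨s, hs, hsy⟩ := hZ (g y)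
  obtain ⟨x, hx⟩ := hex (s • y) (by rw [map_smul, hsy])
  obtain ⟨s', hs', hs'x⟩ := hX x
  refine ⟨s' * s, fun h => (Ideal.IsPrime.mem_or_mem ‹_› h).elim hs' hs, ?_⟩
  rw [mul_smul, ← hx, ← map_smul, hs'x, map_zero]

lemma LZ.of_subsingleton (p : Ideal R) [p.IsPrime] [Subsingleton X] : LZ p X :=
  fun x => ⟨1, fun h => (Ideal.IsPrime.ne_top ‹_›) ((Ideal.eq_top_iff_one p).2 h), Subsingleton.elim _ _⟩

/-- `b ≤ rad(Ann X)` iff a power of `b` kills `X` (Noetherian case). -/
lemma le_radical_annihilator_iff [IsNoetherianRing R] (b : Ideal R) :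
    b ≤ (Module.annihilator R X).radical ↔ KillPow b X := by
  constructor
  · intro h
    obtain ⟨k, hk⟩ := Ideal.exists_pow_le_of_le_radical_of_fg h (IsNoetherian.noetherian b)
    exact ⟨k, fun r hr x => Module.mem_annihilator.1 (hk hr) x⟩
  · rintro ⟨k, hk⟩ r hr
    refine ⟨k, ?_⟩
    rw [Module.mem_annihilator]
    exact fun x => hk _ (Ideal.pow_mem_pow hr k) x

end Exact

section LES

variable (I : Ideal R) {S : ShortComplex (ModuleCat.{u} R)} (hS : S.ShortExact)

include hS in
lemma killPow_X₂ (b : Ideal R) (i : ℕ) (h1 : KillPow b ((localCohomology I i).obj S.X₁))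
    (h3 : KillPow b ((localCohomology I i).obj S.X₃)) : KillPow b ((localCohomology I i).obj S.X₂) :=
  KillPow.of_exact b ((localCohomology I i).map S.f).hom ((localCohomology I i).map S.g).hom
    (fun y hy => exact₂ I hS i y hy) h1 h3

include hS in
lemma killPow_X₃ (b : Ideal R) (i : ℕ) (h2 : KillPow b ((localCohomology I i).obj S.X₂))
    (h1 : KillPow b ((localCohomology I (i + 1)).obj S.X₁)) : KillPow b ((localCohomology I i).obj S.X₃) :=
  KillPow.of_exact b ((localCohomology I i).map S.g).hom (δ I hS i (i + 1) rfl)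
    (fun y hy => exact₃ I hS i (i + 1) rfl y hy) h2 h1

include hS in
lemma lz_X₂ (p : Ideal R) [p.IsPrime] (i : ℕ) (h1 : LZ p ((localCohomology I i).obj S.X₁))
    (h3 : LZ p ((localCohomology I i).obj S.X₃)) : LZ p ((localCohomology I i).obj S.X₂) :=
  LZ.of_exact p ((localCohomology I i).map S.f).hom ((localCohomology I i).map S.g).hom
    (fun y hy => exact₂ I hS i y hy) h1 h3

include hS in
lemma lz_X₃ (p : Ideal R) [p.IsPrime] (i : ℕ) (h2 : LZ p ((localCohomology I i).obj S.X₂))
    (h1 : LZ p ((localCohomology I (i + 1)).obj S.X₁)) : LZ p ((localCohomology I i).obj S.X₃) :=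
  LZ.of_exact p ((localCohomology I i).map S.g).hom (δ I hS i (i + 1) rfl)
    (fun y hy => exact₃ I hS i (i + 1) rfl y hy) h2 h1

include hS in
lemma lz_X₁ (p : Ideal R) [p.IsPrime] (i : ℕ) (h3 : LZ p ((localCohomology I i).obj S.X₃))
    (h2 : LZ p ((localCohomology I (i + 1)).obj S.X₂)) : LZ p ((localCohomology I (i + 1)).obj S.X₁) :=
  LZ.of_exact p (δ I hS i (i + 1) rfl) ((localCohomology I (i + 1)).map S.f).hom
    (fun y hy => exact₁ I hS i (i + 1) rfl y hy) h3 h2

end LES

/-- If `r` kills `M` then `r` kills `H^i_I(M)`. -/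
lemma smul_eq_zero_of_smul_eq_zero (I : Ideal R) (i : ℕ) (M : ModuleCat.{u} R) (r : R)
    (hr : ∀ m : M, r • m = 0) (x : (localCohomology I i).obj M) : r • x = 0 := by
  rw [← map_smul_id]
  have h0 : r • 𝟙 M = 0 := by
    apply ModuleCat.hom_ext
    apply LinearMap.ext
    intro m
    exact hr m
  obtain ⟨n, e, rfl⟩ := exists_rep x
  rw [map_ιH, h0, Ext.mk₀_zero, Ext.comp_zero, map_zero]

/-- Local cohomology of a module killed by `b^n` is killed by `b^n`. -/
lemma killPow_of_killPow (I b : Ideal R) (i : ℕ) (M : ModuleCat.{u} R) (h : KillPow b M) :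
    KillPow b ((localCohomology I i).obj M) := by
  obtain ⟨k, hk⟩ := h
  exact ⟨k, fun r hr x => smul_eq_zero_of_smul_eq_zero I i M r (hk r hr) x⟩

/-- Passing to the quotient by a submodule killed by a power of `b` does not change whether
`H^i_I` is killed by a power of `b`. -/
theorem killPow_quotient_iff (I b : Ideal R) {M : Type u} [AddCommGroup M] [Module R M]
    (T : Submodule R M) (hT : KillPow b T) (i : ℕ) :
    KillPow b ((localCohomology I i).obj (ModuleCat.of R M)) ↔
      KillPow b ((localCohomology I i).obj (ModuleCat.of R (M ⧸ T))) := by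
  have hS := subQuotSC_shortExact T
  constructor
  · intro h
    exact killPow_X₃ I hS b i h (killPow_of_killPow I b (i + 1) (ModuleCat.of R T) hT)
  · intro h
    exact killPow_X₂ I hS b i (killPow_of_killPow I b i (ModuleCat.of R T) hT) h

/-- The `b`-finiteness dimension is at most `i` when `b` is not in the radical of the
annihilator of `H^i_a(M)`. -/
lemma finDimRel_le_of_not (a b : Ideal R) (M : Type u) [AddCommGroup M] [Module R M] (i : ℕ)
    (h : ¬ b ≤ (Module.annihilator R (LocCoh.H a i M)).radical) : LocCoh.finDimRel a b M ≤ i := by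
  unfold LocCoh.finDimRel
  exact iInf₂_le i h

lemma finDimRel_congr (a b : Ideal R) (M M' : Type u) [AddCommGroup M] [Module R M]
    [AddCommGroup M'] [Module R M']
    (h : ∀ i, b ≤ (Module.annihilator R (LocCoh.H a i M)).radical ↔
      b ≤ (Module.annihilator R (LocCoh.H a i M')).radical) :
    LocCoh.finDimRel a b M = LocCoh.finDimRel a b M' := by
  unfold LocCoh.finDimRel
  refine iInf_congr fun i => ?_
  rw [h i]

/-- `⨆ n, M[c^n]` is the `c`-power torsion submodule. -/
lemma iSup_torsionBy_eq_powTorsion (c : Ideal R) (M : Type u) [AddCommGroup M] [Module R M] :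
    (⨆ n : ℕ, LocCoh.torsionBy (c ^ n) M) = powTorsion c M := by
  apply le_antisymm
  · refine iSup_le fun n x hx => ?_
    rw [Submodule.mem_torsionBySet_iff] at hx
    exact ⟨n, fun r hr => hx ⟨r, hr⟩⟩
  · rintro x ⟨n, hn⟩
    refine Submodule.mem_iSup_of_mem n ?_
    rw [Submodule.mem_torsionBySet_iff]
    rintro ⟨r, hr⟩
    exact hn r hr

end Groth.Agent.Lib.Helper41.LC

namespace Groth.Agent.Lib.Helper41.LC

variable {R : Type u} [CommRing R]

/-- `f_a^b(M) = f_a^b(M/T)` when `T` is killed by a power of `b`. -/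
theorem finDimRel_quotient_eq [IsNoetherianRing R] (a b : Ideal R) {M : Type u} [AddCommGroup M] [Module R M]
    (T : Submodule R M) (hT : KillPow b T) :
    LocCoh.finDimRel a b M = LocCoh.finDimRel a b (M ⧸ T) := by
  apply finDimRel_congr
  intro i
  rw [le_radical_annihilator_iff, le_radical_annihilator_iff]
  exact killPow_quotient_iff a b T hT i

/-- A finitely generated `c`-power torsion submodule is killed by a power of `b ≤ c`. -/
lemma killPow_of_le_powTorsion [IsNoetherianRing R] (b c : Ideal R) (hbc : b ≤ c) {M : Type u} [AddCommGroup M]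
    [Module R M] [Module.Finite R M] (T : Submodule R M) (hT : T ≤ powTorsion c M) : KillPow b T := by
  have hfg : T.FG := IsNoetherian.noetherian T
  obtain ⟨k, hk⟩ := exists_pow_smul_eq_zero_of_fg_le c T hfg hT
  refine ⟨k, fun r hr x => ?_⟩
  apply Subtype.ext
  exact hk r (Ideal.pow_right_mono hbc k hr) x x.2

/-- If a power of `b` kills `H^0_a(M)` then it kills `Γ_a(M)`. -/
lemma killPow_powTorsion_of_killPow_H0 (a b : Ideal R) (M : Type u) [AddCommGroup M] [Module R M]
    (T : Submodule R M) (hT : T ≤ powTorsion a M)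
    (h : KillPow b ((localCohomology a 0).obj (ModuleCat.of R M))) : KillPow b T := by
  obtain ⟨k, hk⟩ := h
  refine ⟨k, fun r hr x => ?_⟩
  apply Subtype.ext
  obtain ⟨y, hy⟩ := (mem_range_toMod_iff a (ModuleCat.of R M) (x : M)).2 (hT x.2)
  change r • (x : M) = 0
  rw [← hy, ← map_smul, hk r hr, map_zero]

end Groth.Agent.Lib.Helper41.LC
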