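import Groth.Agent.S11618
import Groth.Agent.Lib.Helper58.CmpSeq3
import Groth.Agent.Lib.Helper41.LCFaltings
import Groth.Agent.Lib.Helper41.LCFinDim

/-!
# From annihilation at the local rings of primes to global annihilation of `H^i_a(M)`

If `H^i_{pR_p}(M_p) = 0` for all primes of height `> h₀` and `b^N` kills `H^i_{pR_p}(M_p)` for all
primes `p ⊇ a₀`, then `b^{N(h₀+1)}` kills `H^i_{a₀}(M)`.
-/

set_option autoImplicit false
universe u
open CategoryTheory CategoryTheory.Limits Opposite CategoryTheory.Abelian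

namespace Groth.Agent.Lib.Helper41.Coniveau

open Groth.Agent.Lib.Helper41.LC Groth.Agent.Lib.Helper58.CmpSeq

variable {R : Type u} [CommRing R] [IsNoetherianRing R]

/-- `β` kills `H^i_{pR_p}(M_p)`. -/
def KillAt (M : Type u) [AddCommGroup M] [Module R M] (i : ℕ) (p : Ideal R) [p.IsPrime] (β : R) :
    Prop :=
  ∀ x : LocCoh.H (IsLocalRing.maximalIdeal (Localization.AtPrime p)) i
    (LocalizedModule p.primeCompl M), algebraMap R (Localization.AtPrime p) β • x = 0

theorem exists_smul_eq_zero_of_killAt (a p : Ideal R) [p.IsPrime] (hmin : p ∈ a.minimalPrimes)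
    (M : Type u) [AddCommGroup M] [Module R M] (i : ℕ) (β : R) (hβ : KillAt M i p β)
    (x : LocCoh.H a i M) : ∃ c, c ∉ p ∧ (c * β) • x = 0 := by
  obtain ⟨ε⟩ := Groth.Agent.S11618.result R a p.primeCompl M i
  have hrad : (Ideal.map (algebraMap R (Localization p.primeCompl)) a).radical =
      (IsLocalRing.maximalIdeal (Localization.AtPrime p)).radical := by
    rw [IsLocalization.AtPrime.radical_map_of_mem_minimalPrimes (Localization.AtPrime p) p a hmin,
      Localization.AtPrime.map_eq_maximalIdeal,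
      (IsLocalRing.maximalIdeal.isMaximal _).isPrime.radical]
  have e := ((localCohomology.isoOfSameRadical hrad i).app
    (ModuleCat.of (Localization.AtPrime p) (LocalizedModule p.primeCompl M))).toLinearEquiv
  have h0 : algebraMap R (Localization.AtPrime p) β •
      (LocalizedModule.mk x (1 : p.primeCompl)) = 0 := by
    apply ε.injective
    apply e.injective
    rw [map_smul, map_smul, map_zero, map_zero]
    exact hβ _
  rw [algebraMap_smul, LocalizedModule.smul'_mk, ← LocalizedModule.zero_mk (1 : p.primeCompl),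
    LocalizedModule.mk_eq] at h0
  obtain ⟨u, hu⟩ := h0
  rw [smul_zero, smul_zero, one_smul] at hu
  refine ⟨u, u.2, ?_⟩
  rw [mul_smul]
  exact hu

theorem subsingleton_H_top (M : Type u) [AddCommGroup M] [Module R M] (i : ℕ) :
    Subsingleton (LocCoh.H (⊤ : Ideal R) i M) := by
  refine subsingleton_of_forall_eq 0 fun x => ?_
  obtain ⟨n, hn⟩ := isTorsion_H (⊤ : Ideal R) i (ModuleCat.of R M) x
  have := hn 1 (by rw [Ideal.top_pow]; trivial)
  rwa [one_smul] at this

theorem height_add_one_le_sup_span (a : Ideal R) (c : R) (hc : ∀ p ∈ a.minimalPrimes, c ∉ p) :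
    a.height + 1 ≤ (a ⊔ Ideal.span {c}).height := by
  rw [Ideal.height_eq_inf_minimalPrimes (a ⊔ Ideal.span {c})]
  refine le_iInf₂ fun P hP => ?_
  haveI := hP.1.1
  obtain ⟨p, hp, hpP⟩ := Ideal.exists_minimalPrimes_le (le_sup_left.trans hP.1.2)
  haveI := hp.1.1
  have hlt : p < P := by
    refine lt_of_le_of_ne hpP ?_
    rintro rfl
    exact hc p hp (hP.1.2 (Ideal.mem_sup_right (Ideal.mem_span_singleton_self c)))
  calc a.height + 1 ≤ p.height + 1 := by gcongr; exact hp.1.2
    _ ≤ P.height := Ideal.height_add_one_le_of_lt_of_isPrime hlt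

/-- One step of the coniveau induction. -/
theorem step (a : Ideal R) (M : Type u) [AddCommGroup M] [Module R M] (i : ℕ) (K L : Ideal R)
    (hK : ∀ (p : Ideal R) [p.IsPrime], p ∈ a.minimalPrimes → ∀ β ∈ K, KillAt M i p β)
    (hL : ∀ c : R, (∀ p ∈ a.minimalPrimes, c ∉ p) → ∀ γ ∈ L,
      ∀ y : LocCoh.H (a ⊔ Ideal.span {c}) i M, γ • y = 0)
    (γ : R) (hγ : γ ∈ L) (β : R) (hβ : β ∈ K) (x : LocCoh.H a i M) : (γ * β) • x = 0 := by
  classical
  have hfin : a.minimalPrimes.Finite := Ideal.finite_minimalPrimes_of_isNoetherianRing R a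
  let Ann : Ideal R := LinearMap.ker (LinearMap.toSpanSingleton R (LocCoh.H a i M) (β • x))
  have hAnn : ∀ r, r ∈ Ann ↔ r • (β • x) = 0 := fun r => by
    change LinearMap.toSpanSingleton R _ (β • x) r = 0 ↔ _
    rw [LinearMap.toSpanSingleton_apply]
  have hnot : ¬ ((Ann : Set R) ⊆ ⋃ p ∈ (hfin.toFinset : Set (Ideal R)), (p : Set R)) := by
    intro hsub
    have hprime : ∀ p ∈ hfin.toFinset, p ≠ a → p ≠ a → (id p : Ideal R).IsPrime := by
      intro p hp _ _
      exact ((hfin.mem_toFinset).mp hp).1.1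
    have := (Ideal.subset_union_prime (f := fun p : Ideal R => p) a a hprime).mp hsub
    obtain ⟨p, hp, hAp⟩ := this
    have hpmin := (hfin.mem_toFinset).mp hp
    haveI := hpmin.1.1
    obtain ⟨c, hcp, hc0⟩ := exists_smul_eq_zero_of_killAt a p hpmin M i β (hK p hpmin β hβ) x
    apply hcp
    apply hAp
    rw [hAnn, smul_smul]
    exact hc0
  rw [Set.not_subset] at hnot
  obtain ⟨c, hcAnn, hcU⟩ := hnot
  have hc : ∀ p ∈ a.minimalPrimes, c ∉ p := by
    intro p hp hcp
    apply hcU
    simp only [Set.mem_iUnion]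
    exact ⟨p, by simpa using hp, hcp⟩
  have hcx : c • (β • x) = 0 := (hAnn c).mp hcAnn
  have hmem : (β • x) ∈ LinearMap.range (cmpH (le_sup_left : a ≤ a ⊔ Ideal.span {c}) i
      (ModuleCat.of R M)) := by
    rw [mem_range_cmpH_iff]
    exact ⟨1, by rw [pow_one]; exact hcx⟩
  obtain ⟨y, hy⟩ := hmem
  rw [mul_smul, ← hy, ← map_smul, hL c hc γ hγ y, map_zero]

/-- **Coniveau induction.** -/
theorem kill_of_height (M : Type u) [AddCommGroup M] [Module R M] (i : ℕ) (b a₀ : Ideal R)
    (N h₀ : ℕ)
    (H1 : ∀ (p : Ideal R) [p.IsPrime], (h₀ : ℕ∞) < p.height →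
      Subsingleton (LocCoh.H (IsLocalRing.maximalIdeal (Localization.AtPrime p)) i
        (LocalizedModule p.primeCompl M)))
    (H2 : ∀ (p : Ideal R) [p.IsPrime], a₀ ≤ p → ∀ β ∈ b ^ N, KillAt M i p β) :
    ∀ (a : Ideal R), a₀ ≤ a → ∀ t : ℕ, ((h₀ + 1 : ℕ) : ℕ∞) ≤ a.height + t →
      ∀ γ ∈ b ^ (N * t), ∀ x : LocCoh.H a i M, γ • x = 0 := by
  intro a
  induction a using WellFoundedGT.induction with
  | ind a IH =>
    intro ha₀ t ht γ hγ x
    by_cases hatop : a = ⊤
    · subst hatop
      haveI := subsingleton_H_top (R := R) M i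
      exact Subsingleton.elim _ _
    have hlt : ∀ c : R, (∀ p ∈ a.minimalPrimes, c ∉ p) → a < a ⊔ Ideal.span {c} := by
      intro c hc
      refine lt_of_le_of_ne le_sup_left ?_
      intro heq
      obtain ⟨p, hp⟩ := Ideal.nonempty_minimalPrimes hatop
      apply hc p hp
      apply hp.1.2
      rw [heq]
      exact Ideal.mem_sup_right (Ideal.mem_span_singleton_self c)
    rcases t with _ | t'
    · -- everything vanishes
      have key := step a M i ⊤ ⊤
        (fun p _ hp β _ y => by
          haveI := H1 p (lt_of_lt_of_le (by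
            have : ((h₀ : ℕ) : ℕ∞) < ((h₀ + 1 : ℕ) : ℕ∞) := by exact_mod_cast Nat.lt_succ_self h₀
            exact this) (le_trans (by simpa using ht) (Ideal.height_mono hp.1.2)))
          exact Subsingleton.elim _ _)
        (fun c hc γ' _ y => IH (a ⊔ Ideal.span {c}) (hlt c hc) (ha₀.trans le_sup_left) 0
          (le_trans ht (by
            simp only [Nat.cast_zero, add_zero]
            exact Ideal.height_mono le_sup_left)) γ' (by simp) y)
        γ trivial 1 trivial x
      rwa [mul_one] at key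
    · have hpow : b ^ (N * (t' + 1)) = b ^ (N * t') * b ^ N := by
        rw [mul_add, mul_one, pow_add]
      rw [hpow] at hγ
      refine Submodule.mul_induction_on hγ ?_ ?_
      · intro γ' hγ' β hβ
        exact step a M i (b ^ N) (b ^ (N * t'))
          (fun p _ hp β' hβ' => H2 p (ha₀.trans hp.1.2) β' hβ')
          (fun c hc γ'' hγ'' y => IH (a ⊔ Ideal.span {c}) (hlt c hc) (ha₀.trans le_sup_left) t'
            (by
              have h1 := height_add_one_le_sup_span a c hc
              calc ((h₀ + 1 : ℕ) : ℕ∞) ≤ a.height + ((t' + 1 : ℕ) : ℕ∞) := ht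
                _ = (a.height + 1) + (t' : ℕ∞) := by push_cast; ring
                _ ≤ (a ⊔ Ideal.span {c}).height + (t' : ℕ∞) := by gcongr) γ'' hγ'' y)
          γ' hγ' β hβ x
      · intro r s hr hs
        rw [add_smul, hr, hs, add_zero]

end Groth.Agent.Lib.Helper41.Coniveau
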