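import Mathlib.RingTheory.Ideal.Height
import Mathlib.RingTheory.Ideal.Quotient.Operations

/-!
# Heights of primes in quotient rings `R/p`

Additivity (super-additivity) of relative heights `ht(q/p)`.
-/

set_option autoImplicit false
universe u

namespace Groth.Agent.Lib.Helper41.QuotHeight

variable {R : Type u} [CommRing R]

lemma map_mk_isPrime {p P : Ideal R} (hpP : p ≤ P) [hP : P.IsPrime] :
    (P.map (Ideal.Quotient.mk p)).IsPrime :=
  Ideal.map_isPrime_of_surjective Ideal.Quotient.mk_surjective (by rw [Ideal.mk_ker]; exact hpP)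

lemma comap_map_mk {p P : Ideal R} (hpP : p ≤ P) :
    (P.map (Ideal.Quotient.mk p)).comap (Ideal.Quotient.mk p) = P := by
  rw [Ideal.comap_map_of_surjective _ Ideal.Quotient.mk_surjective, ← RingHom.ker_eq_comap_bot,
    Ideal.mk_ker, sup_eq_left]
  exact hpP

lemma map_mk_lt_map_mk {p P Q : Ideal R} (hpP : p ≤ P) (hPQ : P < Q) :
    P.map (Ideal.Quotient.mk p) < Q.map (Ideal.Quotient.mk p) := by
  refine lt_of_le_of_ne (Ideal.map_mono hPQ.le) fun h => ?_
  have h1 := comap_map_mk hpP
  have h2 := comap_map_mk (hpP.trans hPQ.le)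
  rw [h] at h1
  exact hPQ.ne (h1.symm.trans h2)

lemma map_mk_ne_bot {p P : Ideal R} (hpP : p < P) : P.map (Ideal.Quotient.mk p) ≠ ⊥ := by
  intro h0
  have h1 := comap_map_mk hpP.le
  rw [h0, ← RingHom.ker_eq_comap_bot, Ideal.mk_ker] at h1
  exact hpP.ne h1

/-- Auxiliary form of super-additivity. -/
lemma height_map_add_le_aux {p t : Ideal R} [p.IsPrime] [t.IsPrime] (hpt : p ≤ t) (k : ℕ) :
    ∀ q : Ideal R, q.IsPrime → t ≤ q → (k : ℕ∞) ≤ (q.map (Ideal.Quotient.mk t)).height →
      (t.map (Ideal.Quotient.mk p)).height + k ≤ (q.map (Ideal.Quotient.mk p)).height := by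
  induction k with
  | zero =>
    intro q _ htq _
    rw [Nat.cast_zero, add_zero]
    exact Ideal.height_mono (Ideal.map_mono htq)
  | succ k ih =>
    intro q hq htq hk
    have hqbar : (q.map (Ideal.Quotient.mk t)).IsPrime := map_mk_isPrime htq
    have hnot : ¬ (q.map (Ideal.Quotient.mk t)).height ≤ (k : ℕ) := by
      intro hle
      have : ((k + 1 : ℕ) : ℕ∞) ≤ (k : ℕ∞) := hk.trans hle
      exact absurd (by exact_mod_cast this : k + 1 ≤ k) (by omega)
    rw [Ideal.height_le_iff] at hnot
    push Not at hnot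
    obtain ⟨J', hJ'prime, hJ'lt, hJ'ht⟩ := hnot
    -- the prime `q' = comap J'`
    have hq'prime : (J'.comap (Ideal.Quotient.mk t)).IsPrime := Ideal.comap_isPrime _ J'
    have htq' : t ≤ J'.comap (Ideal.Quotient.mk t) := by
      intro x hx
      rw [Ideal.mem_comap, Ideal.Quotient.eq_zero_iff_mem.2 hx]
      exact J'.zero_mem
    have hmap : (J'.comap (Ideal.Quotient.mk t)).map (Ideal.Quotient.mk t) = J' :=
      Ideal.map_comap_of_surjective _ Ideal.Quotient.mk_surjective J'
    have hq'q : J'.comap (Ideal.Quotient.mk t) < q := by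
      have hle : J'.comap (Ideal.Quotient.mk t) ≤ q := by
        rw [← comap_map_mk htq]
        exact Ideal.comap_mono hJ'lt.le
      refine lt_of_le_of_ne hle fun h => ?_
      rw [← hmap, h] at hJ'lt
      exact lt_irrefl _ hJ'lt
    have h1 := ih (J'.comap (Ideal.Quotient.mk t)) hq'prime htq' (by rw [hmap]; exact hJ'ht)
    have hP1 : ((J'.comap (Ideal.Quotient.mk t)).map (Ideal.Quotient.mk p)).IsPrime :=
      map_mk_isPrime (hpt.trans htq')
    have hP2 : (q.map (Ideal.Quotient.mk p)).IsPrime := map_mk_isPrime (hpt.trans htq)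
    have h2 := Ideal.height_add_one_le_of_lt_of_isPrime
      (map_mk_lt_map_mk (p := p) (hpt.trans htq') hq'q)
    calc (t.map (Ideal.Quotient.mk p)).height + ((k + 1 : ℕ) : ℕ∞)
        = (t.map (Ideal.Quotient.mk p)).height + k + 1 := by push_cast; rw [add_assoc]
      _ ≤ ((J'.comap (Ideal.Quotient.mk t)).map (Ideal.Quotient.mk p)).height + 1 := by gcongr
      _ ≤ (q.map (Ideal.Quotient.mk p)).height := h2

/-- Super-additivity of relative heights: `ht(t/p) + ht(q/t) ≤ ht(q/p)`. -/
theorem height_map_add_le {p t q : Ideal R} [p.IsPrime] [t.IsPrime] [hq : q.IsPrime] (hpt : p ≤ t)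
    (htq : t ≤ q) :
    (t.map (Ideal.Quotient.mk p)).height + (q.map (Ideal.Quotient.mk t)).height ≤
      (q.map (Ideal.Quotient.mk p)).height := by
  induction h : (q.map (Ideal.Quotient.mk t)).height using ENat.recTopCoe with
  | top =>
    have hall : ∀ k : ℕ, (k : ℕ∞) ≤ (q.map (Ideal.Quotient.mk p)).height := by
      intro k
      have := height_map_add_le_aux hpt k q hq htq (by rw [h]; exact le_top)
      exact le_trans (le_add_self) this
    have : (q.map (Ideal.Quotient.mk p)).height = ⊤ := by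
      rw [ENat.eq_top_iff_forall_ge]
      exact hall
    rw [this]
    exact le_top
  | coe k =>
    exact height_map_add_le_aux hpt k q hq htq (by rw [h])

end Groth.Agent.Lib.Helper41.QuotHeight
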