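import Groth.Agent.Lib.Helper41.LCTop

/-!
# Vanishing of top local cohomology from one module with large support
-/

set_option autoImplicit false
universe u
open CategoryTheory CategoryTheory.Limits Opposite CategoryTheory.Abelian
open scoped TensorProduct

namespace Groth.Agent.Lib.Helper41.LC

variable {R : Type u} [CommRing R]

/-- For a prime `p` in the support of a finite module `M` there is a nonzero linear map
`M → R/p`. -/
theorem exists_linearMap_quotient_ne_zero (M : Type u) [AddCommGroup M] [Module R M]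
    [Module.Finite R M] (p : PrimeSpectrum R) (hp : p ∈ Module.support R M) :
    ∃ φ : M →ₗ[R] R ⧸ p.asIdeal, φ ≠ 0 := by
  classical
  let K := p.asIdeal.ResidueField
  have hnt : Nontrivial (K ⊗[R] M) :=
    (Module.mem_support_iff_nontrivial_residueField_tensorProduct p).1 hp
  obtain ⟨v, hv⟩ := exists_ne (0 : K ⊗[R] M)
  obtain ⟨ψ, hψ⟩ := Module.Projective.exists_dual_ne_zero K hv
  let θ : M →ₗ[R] K := (ψ.restrictScalars R).comp (TensorProduct.mk R K M 1)
  have hθ : θ ≠ 0 := by
    intro h0
    apply hψ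
    have hall : ∀ w : K ⊗[R] M, ψ w = 0 := by
      intro w
      induction w using TensorProduct.induction_on with
      | zero => simp
      | tmul k m =>
        have h1 : k ⊗ₜ[R] m = k • ((1 : K) ⊗ₜ[R] m) := by
          rw [TensorProduct.smul_tmul', smul_eq_mul, mul_one]
        have h2 : ψ ((1 : K) ⊗ₜ[R] m) = 0 := LinearMap.congr_fun h0 m
        rw [h1, map_smul, h2, smul_zero]
      | add x y hx hy => rw [map_add, hx, hy, add_zero]
    exact hall v
  obtain ⟨s, hs⟩ := (Module.Finite.fg_top : (⊤ : Submodule R M).FG)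
  obtain ⟨c, hc⟩ := IsLocalization.exist_integer_multiples
    (nonZeroDivisors (R ⧸ p.asIdeal)) s (fun m => θ m)
  obtain ⟨c', hc'⟩ := Ideal.Quotient.mk_surjective (c : R ⧸ p.asIdeal)
  have hc0 : algebraMap R K c' ≠ 0 := by
    intro h0
    have h1 : algebraMap (R ⧸ p.asIdeal) K (c : R ⧸ p.asIdeal) = 0 := by
      rw [← hc']
      exact h0
    have h2 := (map_eq_zero_iff _ (Ideal.injective_algebraMap_quotient_residueField p.asIdeal)).1 h1
    exact nonZeroDivisors.ne_zero c.2 h2
  let j : (R ⧸ p.asIdeal) →ₗ[R] K := (IsScalarTower.toAlgHom R (R ⧸ p.asIdeal) K).toLinearMap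
  have hj : Function.Injective j := Ideal.injective_algebraMap_quotient_residueField p.asIdeal
  let θ' : M →ₗ[R] K := c' • θ
  have hrange : ∀ m, θ' m ∈ LinearMap.range j := by
    have h1 : (⊤ : Submodule R M) ≤ (LinearMap.range j).comap θ' := by
      rw [← hs, Submodule.span_le]
      intro m hm
      obtain ⟨y, hy⟩ := hc m hm
      refine ⟨y, ?_⟩
      change algebraMap (R ⧸ p.asIdeal) K y = c' • θ m
      rw [hy, Algebra.smul_def, Algebra.smul_def, ← hc']
      rfl
    intro m
    exact h1 Submodule.mem_top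
  let φ : M →ₗ[R] R ⧸ p.asIdeal :=
    (LinearEquiv.ofInjective j hj).symm.toLinearMap.comp (θ'.codRestrict (LinearMap.range j) hrange)
  refine ⟨φ, ?_⟩
  intro hφ
  apply hθ
  apply LinearMap.ext
  intro m
  have h1 : j (φ m) = θ' m := by
    change ((LinearEquiv.ofInjective j hj) ((LinearEquiv.ofInjective j hj).symm
      (θ'.codRestrict (LinearMap.range j) hrange m)) : K) = θ' m
    rw [LinearEquiv.apply_symm_apply]
    rfl
  rw [hφ, LinearMap.zero_apply, map_zero] at h1
  have h2 : algebraMap R K c' * θ m = 0 := by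
    rw [← Algebra.smul_def]
    exact h1.symm
  rcases mul_eq_zero.1 h2 with h3 | h3
  · exact absurd h3 hc0
  · exact h3

/-- Every prime in the support of a quotient of `R/p` contains `p`. -/
lemma le_of_mem_support_quotient (p : Ideal R) (J : Submodule R (R ⧸ p)) (q : PrimeSpectrum R)
    (hq : q ∈ Module.support R ((R ⧸ p) ⧸ J)) : p ≤ q.asIdeal := by
  obtain ⟨x, hx⟩ := Module.mem_support_iff_exists_annihilator.1 hq
  intro r hr
  apply hx
  rw [Submodule.mem_annihilator_span_singleton]
  obtain ⟨y, rfl⟩ := J.mkQ_surjective x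
  obtain ⟨y, rfl⟩ := Ideal.Quotient.mk_surjective y
  rw [← map_smul]
  have : r • (Ideal.Quotient.mk p y) = 0 := by
    rw [← Ideal.Quotient.mk_eq_mk, ← Submodule.Quotient.mk_smul, Submodule.Quotient.mk_eq_zero,
      smul_eq_mul]
    exact p.mul_mem_right y hr
  rw [this, map_zero]

variable (I : Ideal R)

/-- If `H^d_I(M) = 0` (`d = dim R`) for a finite module `M` and `p` is a prime in the
support of `M`, then `H^d_I(R/p) = 0`. -/
theorem subsingleton_top_of_mem_support [IsNoetherianRing R] (d : ℕ) (hd : ringKrullDim R = d)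
    (M : Type u) [AddCommGroup M] [Module R M] [Module.Finite R M]
    (hvan : Subsingleton ((localCohomology I d).obj (ModuleCat.of R M)))
    (p : PrimeSpectrum R) (hpM : p ∈ Module.support R M) :
    Subsingleton ((localCohomology I d).obj (ModuleCat.of R (R ⧸ p.asIdeal))) := by
  have hP : ∀ N : ModuleCat.{u} R, Subsingleton ((localCohomology I (d + 1)).obj N) := fun N =>
    subsingleton_of_ringKrullDim_lt I d hd (d + 1) (by omega) N
  obtain ⟨φ, hφ⟩ := exists_linearMap_quotient_ne_zero M p hpM
  obtain ⟨m0, hm0⟩ : ∃ m0, φ m0 ≠ 0 := by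
    by_contra h
    push Not at h
    exact hφ (LinearMap.ext h)
  obtain ⟨a, ha⟩ := Ideal.Quotient.mk_surjective (φ m0)
  have hap : a ∉ p.asIdeal := by
    intro hmem
    apply hm0
    rw [← ha]
    exact Ideal.Quotient.eq_zero_iff_mem.2 hmem
  let J : Submodule R (R ⧸ p.asIdeal) := LinearMap.range φ
  let g : ModuleCat.of R M ⟶ ModuleCat.of R J := ModuleCat.ofHom φ.rangeRestrict
  have hg : Function.Surjective g.hom := LinearMap.surjective_rangeRestrict _
  have hJ : Subsingleton ((localCohomology I d).obj (ModuleCat.of R J)) :=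
    (map_surjective_of_surjective I d hP g hg).subsingleton
  have hS := subQuotSC_shortExact J
  have hQ : Subsingleton ((localCohomology I d).obj (subQuotSC J).X₃) := by
    apply subsingleton_of_supportDim_lt I ((R ⧸ p.asIdeal) ⧸ J) d
    apply supportDim_lt_of_forall d hd
    intro q hq hqmin _
    have hpq : p.asIdeal ≤ q.asIdeal := le_of_mem_support_quotient p.asIdeal J q hq
    have hqp : q.asIdeal ≤ p.asIdeal := hqmin.2 ⟨p.2, bot_le⟩ hpq
    apply hap
    apply hqp
    obtain ⟨x, hx⟩ := Module.mem_support_iff_exists_annihilator.1 hq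
    apply hx
    rw [Submodule.mem_annihilator_span_singleton]
    obtain ⟨y, rfl⟩ := J.mkQ_surjective x
    obtain ⟨y, rfl⟩ := Ideal.Quotient.mk_surjective y
    rw [← map_smul, Submodule.mkQ_apply, Submodule.Quotient.mk_eq_zero]
    refine ⟨y • m0, ?_⟩
    rw [map_smul, ← ha]
    change y • (Ideal.Quotient.mk p.asIdeal a) = a • (Ideal.Quotient.mk p.asIdeal y)
    rw [← Ideal.Quotient.mk_eq_mk, ← Submodule.Quotient.mk_smul, ← Ideal.Quotient.mk_eq_mk,
      ← Submodule.Quotient.mk_smul, smul_eq_mul, smul_eq_mul, mul_comm]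
  refine ⟨fun x y => ?_⟩
  have key : ∀ x : (localCohomology I d).obj (subQuotSC J).X₂, x = 0 := by
    intro x
    have hJ' : Subsingleton ((localCohomology I d).obj (subQuotSC J).X₁) := hJ
    obtain ⟨x₁, rfl⟩ := exact₂ I hS d x (Subsingleton.elim _ _)
    rw [Subsingleton.elim x₁ 0, map_zero]
  exact (key x).trans (key y).symm

/-- **Stacks-style criterion**: over a Noetherian ring of dimension `d`, if `H^d_I(M) = 0` for one
finite module `M` whose support contains all `d`-dimensional minimal primes, then `H^d_I` vanishes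
on all modules. -/
theorem forall_subsingleton_top_of_support [IsNoetherianRing R] (d : ℕ) (hd : ringKrullDim R = d)
    (M : Type u) [AddCommGroup M] [Module R M] [Module.Finite R M]
    (hsupp : ∀ p ∈ minimalPrimes R, ringKrullDim (R ⧸ p) = d → ∀ hp : p.IsPrime,
      (⟨p, hp⟩ : PrimeSpectrum R) ∈ Module.support R M)
    (hvan : Subsingleton ((localCohomology I d).obj (ModuleCat.of R M))) :
    ∀ N : ModuleCat.{u} R, Subsingleton ((localCohomology I d).obj N) := by
  apply forall_subsingleton_of_quotient_prime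
  intro p
  by_cases hp : p.asIdeal ∈ minimalPrimes R ∧ ringKrullDim (R ⧸ p.asIdeal) = d
  · exact subsingleton_top_of_mem_support I d hd M hvan p (hsupp p.asIdeal hp.1 hp.2 p.2)
  · apply subsingleton_of_supportDim_lt I (R ⧸ p.asIdeal) d
    apply supportDim_lt_of_forall d hd
    intro q hq hqmin hqd
    have hpq : p.asIdeal ≤ q.asIdeal := by
      have e : ((R ⧸ p.asIdeal) ⧸ (⊥ : Submodule R (R ⧸ p.asIdeal))) ≃ₗ[R] (R ⧸ p.asIdeal) :=
        Submodule.quotEquivOfEqBot ⊥ rfl
      apply le_of_mem_support_quotient p.asIdeal ⊥ q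
      rw [e.support_eq]
      exact hq
    have hqp : q.asIdeal ≤ p.asIdeal := hqmin.2 ⟨p.2, bot_le⟩ hpq
    have heq : q = p := PrimeSpectrum.ext (le_antisymm hqp hpq)
    apply hp
    rw [← heq]
    exact ⟨hqmin, hqd⟩

end Groth.Agent.Lib.Helper41.LC
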