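import Groth.Agent.Lib.Helper41.LCChar
import Groth.Agent.Lib.Helper41.LCTopSupp
import Groth.Agent.Lib.Helper41.LCVanish
import Mathlib.RingTheory.Ideal.AssociatedPrime.Basic

/-!
# Vanishing of `H^i_I(G)` for `i < n` versus vanishing of `Ext^i(F, G)` for `i < n`
(`F` supported on `V(I)`), by dimension shifting along embeddings into torsion-free injectives.
-/

set_option autoImplicit false
universe u
open CategoryTheory CategoryTheory.Limits Opposite CategoryTheory.Abelian

namespace Groth.Agent.Lib.Helper41.LC

variable {R : Type u} [CommRing R] (I : Ideal R)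

/-- `M` has no nonzero `I`-power torsion. -/
def TorsionFree (M : Type u) [AddCommGroup M] [Module R M] : Prop :=
  ∀ m : M, (∃ n : ℕ, ∀ a ∈ I ^ n, a • m = 0) → m = 0

/-- A module without `I`-power torsion embeds in an injective module without `I`-power torsion
(Noetherian case): take `E/Γ_I(E)` for an injective `E ⊇ M`. -/
theorem exists_torsionFree_injective_embedding [IsNoetherianRing R] (M : ModuleCat.{u} R)
    (hM : TorsionFree I M) :
    ∃ (E : ModuleCat.{u} R) (_ : Injective E) (_ : TorsionFree I E) (f : M ⟶ E), Mono f := by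
  obtain ⟨E₀, hE₀inj, ι₀, hι₀⟩ : ∃ (E₀ : ModuleCat.{u} R) (_ : Injective E₀) (ι₀ : M ⟶ E₀), Mono ι₀ :=
    ⟨Injective.under M, inferInstance, Injective.ι M, inferInstance⟩
  have hι : Function.Injective ι₀.hom := (ModuleCat.mono_iff_injective _).1 hι₀
  let T : Submodule R E₀ := powTorsion I E₀
  have hE₀ : Module.Injective R E₀ := Module.injective_module_of_injective_object R E₀
  have hT : Module.Injective R T := (baer_powTorsion I E₀).injective
  obtain ⟨r, hr⟩ := hT.out T.subtype T.injective_subtype LinearMap.id
  -- the section `E₀/T → E₀`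
  let s : (E₀ ⧸ T) →ₗ[R] E₀ := T.liftQ (LinearMap.id - T.subtype.comp r) (by
    intro t ht
    rw [LinearMap.mem_ker, LinearMap.sub_apply, LinearMap.id_apply, LinearMap.comp_apply]
    have := hr ⟨t, ht⟩
    rw [Submodule.subtype_apply] at this
    rw [this]
    simp)
  have hs : T.mkQ.comp s = LinearMap.id := by
    apply LinearMap.ext
    intro y
    obtain ⟨x, rfl⟩ := Submodule.Quotient.mk_surjective _ y
    change T.mkQ (x - (r x : E₀)) = _
    rw [map_sub]
    have : T.mkQ (r x : E₀) = 0 := by
      rw [Submodule.mkQ_apply, Submodule.Quotient.mk_eq_zero]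
      exact (r x).2
    rw [this, sub_zero]
    rfl
  let E : ModuleCat.{u} R := ModuleCat.of R (E₀ ⧸ T)
  have hEinj : Injective E := by
    let ret : Retract E E₀ :=
      { i := ModuleCat.ofHom s
        r := ModuleCat.ofHom T.mkQ
        retract := by
          apply ModuleCat.hom_ext
          exact hs }
    exact ret.injective
  have hEtf : TorsionFree I E := by
    intro y hy
    have h0 := powTorsion_quotient_eq_bot I E₀
    have : y ∈ powTorsion I (E₀ ⧸ powTorsion I E₀) := hy
    rw [h0] at this
    exact this
  refine ⟨E, hEinj, hEtf, ι₀ ≫ ModuleCat.ofHom T.mkQ, ?_⟩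
  rw [ModuleCat.mono_iff_injective]
  rw [injective_iff_map_eq_zero]
  intro m hm
  have h1 : T.mkQ (ι₀.hom m) = 0 := hm
  rw [Submodule.mkQ_apply, Submodule.Quotient.mk_eq_zero] at h1
  obtain ⟨n, hn⟩ := h1
  apply hM m
  refine ⟨n, fun a ha => ?_⟩
  apply hι
  rw [map_smul, map_zero]
  exact hn a ha

/-- Local cohomology of a torsion-free injective module vanishes in all degrees. -/
theorem subsingleton_of_torsionFree_injective (E : ModuleCat.{u} R) [Injective E]
    (hE : TorsionFree I E) (i : ℕ) : Subsingleton ((localCohomology I i).obj E) := by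
  rcases Nat.eq_zero_or_pos i with rfl | hi
  · exact (subsingleton_zero_iff I E).2 hE
  · exact subsingleton_of_injective I E i hi

/-- There is no nonzero map from a torsion module to a torsion-free module. -/
theorem hom_eq_zero_of_isTorsion_of_torsionFree {F G : ModuleCat.{u} R} (hF : IsTorsion I F)
    (hG : TorsionFree I G) (f : F ⟶ G) : f = 0 := by
  apply ModuleCat.hom_ext
  apply LinearMap.ext
  intro x
  obtain ⟨n, hn⟩ := hF x
  exact hG _ ⟨n, fun a ha => by rw [← map_smul, hn a ha, map_zero]⟩

/-- `Ext^0(F, G) = 0` iff every map `F → G` vanishes. -/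
theorem ext_zero_subsingleton_iff (F G : ModuleCat.{u} R) :
    Subsingleton (Ext.{u} F G 0) ↔ ∀ f : F ⟶ G, f = 0 := by
  constructor
  · intro h f
    apply (Ext.mk₀_bijective F G).1
    exact Subsingleton.elim _ _
  · intro h
    refine ⟨fun x y => ?_⟩
    obtain ⟨f, rfl⟩ := (Ext.mk₀_bijective F G).2 x
    obtain ⟨g, rfl⟩ := (Ext.mk₀_bijective F G).2 y
    rw [h f, h g]

/-- `Ext^i(F, E) = 0` for all `i` when `F` is torsion and `E` is torsion-free injective. -/
theorem ext_subsingleton_of_torsionFree_injective {F E : ModuleCat.{u} R} [Injective E]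
    (hF : IsTorsion I F) (hE : TorsionFree I E) (i : ℕ) : Subsingleton (Ext.{u} F E i) := by
  rcases i with _ | i
  · exact (ext_zero_subsingleton_iff F E).2 (hom_eq_zero_of_isTorsion_of_torsionFree I hF hE)
  · exact Ext.subsingleton_of_injective F E i

/-- Dimension shifting for `Ext^•(F, -)`. -/
theorem ext_subsingleton_succ_iff {S : ShortComplex (ModuleCat.{u} R)} (hS : S.ShortExact)
    (F : ModuleCat.{u} R) (i : ℕ) (h2 : Subsingleton (Ext.{u} F S.X₂ i))
    (h2' : Subsingleton (Ext.{u} F S.X₂ (i + 1))) :
    Subsingleton (Ext.{u} F S.X₁ (i + 1)) ↔ Subsingleton (Ext.{u} F S.X₃ i) := by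
  constructor
  · intro h
    refine subsingleton_of_forall_eq 0 fun x₃ => ?_
    obtain ⟨x₂, rfl⟩ := Ext.covariant_sequence_exact₃ F hS x₃ rfl (Subsingleton.elim _ _)
    rw [Subsingleton.elim x₂ 0, Ext.zero_comp]
  · intro h
    refine subsingleton_of_forall_eq 0 fun x₁ => ?_
    obtain ⟨x₃, rfl⟩ := Ext.covariant_sequence_exact₁ F hS x₁ (Subsingleton.elim _ _) rfl
    rw [Subsingleton.elim x₃ 0, Ext.zero_comp]

/-- If `H^i_I(G) = 0` for `i < n` then `Ext^i(F, G) = 0` for `i < n` and every `I`-power torsion
module `F`. -/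
theorem ext_vanishing_of_lc_vanishing [IsNoetherianRing R] (n : ℕ) :
    ∀ (G : ModuleCat.{u} R), (∀ i < n, Subsingleton ((localCohomology I i).obj G)) →
      ∀ (F : ModuleCat.{u} R), IsTorsion I F → ∀ i < n, Subsingleton (Ext.{u} F G i) := by
  induction n with
  | zero => intro G _ F _ i hi; omega
  | succ n ih =>
    intro G h F hF i hi
    have hG : TorsionFree I G := (subsingleton_zero_iff I G).1 (h 0 (by omega))
    obtain ⟨E, hEinj, hEtf, f, hf⟩ := exists_torsionFree_injective_embedding I G hG
    have hS := shortExact_of_mono f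
    have hC : ∀ j < n, Subsingleton ((localCohomology I j).obj (cokernel f)) := by
      intro j hj
      exact (subsingleton_succ_iff I hS j (subsingleton_of_torsionFree_injective I E hEtf j)
        (subsingleton_of_torsionFree_injective I E hEtf (j + 1))).1 (h (j + 1) (by omega))
    rcases i with _ | j
    · exact (ext_zero_subsingleton_iff F G).2 (hom_eq_zero_of_isTorsion_of_torsionFree I hF hG)
    · exact (ext_subsingleton_succ_iff hS F j (ext_subsingleton_of_torsionFree_injective I hF hEtf j)
        (ext_subsingleton_of_torsionFree_injective I hF hEtf (j + 1))).2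
        (ih (cokernel f) hC F hF j (by omega))

/-- If `Hom(F, G) = 0` for a finite module `F` whose support contains `V(I)`, then `G` has no
`I`-power torsion. -/
theorem torsionFree_of_hom_eq_zero [IsNoetherianRing R] (F : Type u) [AddCommGroup F] [Module R F]
    [Module.Finite R F] (hF : PrimeSpectrum.zeroLocus (I : Set R) ⊆ Module.support R F)
    (G : Type u) [AddCommGroup G] [Module R G] (h : ∀ f : F →ₗ[R] G, f = 0) :
    TorsionFree I G := by
  intro m ⟨n, hn⟩
  by_contra hm
  obtain ⟨P, hP, hle⟩ := exists_le_isAssociatedPrime_of_isNoetherianRing R m hm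
  rw [isAssociatedPrime_iff] at hP
  obtain ⟨hPprime, y, hy⟩ := hP
  have hIP : I ≤ P := by
    have : I ^ n ≤ P := by
      intro a ha
      apply hle
      rw [Submodule.mem_colon_singleton, Submodule.mem_bot]
      exact hn a ha
    exact hPprime.le_of_pow_le this
  let p : PrimeSpectrum R := ⟨P, hPprime⟩
  have hp : p ∈ Module.support R F := hF (by
    rw [PrimeSpectrum.mem_zeroLocus]
    exact hIP)
  obtain ⟨φ, hφ⟩ := exists_linearMap_quotient_ne_zero F p hp
  -- the embedding `R/P → G`, `1 ↦ y`
  let ψ : (R ⧸ P) →ₗ[R] G := Submodule.liftQ P (LinearMap.toSpanSingleton R G y) (by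
    intro a ha
    rw [LinearMap.mem_ker, LinearMap.toSpanSingleton_apply]
    rw [hy, Submodule.mem_colon_singleton, Submodule.mem_bot] at ha
    exact ha)
  have hψ : Function.Injective ψ := by
    rw [injective_iff_map_eq_zero]
    intro z hz
    obtain ⟨a, rfl⟩ := Submodule.Quotient.mk_surjective _ z
    have h1 : a • y = 0 := hz
    rw [Submodule.Quotient.mk_eq_zero, hy, Submodule.mem_colon_singleton, Submodule.mem_bot]
    exact h1
  apply hφ
  apply LinearMap.ext
  intro x
  apply hψ
  rw [LinearMap.zero_apply, map_zero]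
  have := h (ψ.comp φ)
  exact LinearMap.congr_fun this x

/-- If `Ext^i(F, G) = 0` for `i < n` for one finite `F` with support `V(I)`, then `H^i_I(G) = 0`
for `i < n`. -/
theorem lc_vanishing_of_ext_vanishing [IsNoetherianRing R] (F : ModuleCat.{u} R) [Module.Finite R F]
    (hFT : IsTorsion I F) (hF : PrimeSpectrum.zeroLocus (I : Set R) ⊆ Module.support R F) (n : ℕ) :
    ∀ (G : ModuleCat.{u} R), (∀ i < n, Subsingleton (Ext.{u} F G i)) →
      ∀ i < n, Subsingleton ((localCohomology I i).obj G) := by
  induction n with
  | zero => intro G _ i hi; omega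
  | succ n ih =>
    intro G h i hi
    have hG : TorsionFree I G := by
      apply torsionFree_of_hom_eq_zero I F hF G
      intro f
      have := (ext_zero_subsingleton_iff F G).1 (h 0 (by omega)) (ModuleCat.ofHom f)
      exact congrArg ModuleCat.Hom.hom this
    obtain ⟨E, hEinj, hEtf, f, hf⟩ := exists_torsionFree_injective_embedding I G hG
    have hS := shortExact_of_mono f
    have hC : ∀ j < n, Subsingleton (Ext.{u} F (cokernel f) j) := by
      intro j hj
      exact (ext_subsingleton_succ_iff hS F j (ext_subsingleton_of_torsionFree_injective I hFT hEtf j)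
        (ext_subsingleton_of_torsionFree_injective I hFT hEtf (j + 1))).1 (h (j + 1) (by omega))
    rcases i with _ | j
    · exact (subsingleton_zero_iff I G).2 hG
    · exact (subsingleton_succ_iff I hS j (subsingleton_of_torsionFree_injective I E hEtf j)
        (subsingleton_of_torsionFree_injective I E hEtf (j + 1))).2 (ih (cokernel f) hC j (by omega))

/-- A finite module supported in `V(I)` is `I`-power torsion (Noetherian case). -/
theorem isTorsion_of_support_subset [IsNoetherianRing R] (F : Type u) [AddCommGroup F] [Module R F]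
    [Module.Finite R F] (hF : Module.support R F ⊆ PrimeSpectrum.zeroLocus (I : Set R)) :
    IsTorsion I F := by
  rw [Module.support_eq_zeroLocus] at hF
  have h1 : I ≤ (Module.annihilator R F).radical := by
    rw [← PrimeSpectrum.vanishingIdeal_zeroLocus_eq_radical]
    intro a ha
    rw [PrimeSpectrum.mem_vanishingIdeal]
    intro p hp
    have := hF hp
    rw [PrimeSpectrum.mem_zeroLocus] at this
    exact this ha
  obtain ⟨k, hk⟩ := Ideal.exists_pow_le_of_le_radical_of_fg h1 (IsNoetherian.noetherian I)
  intro x
  refine ⟨k, fun a ha => ?_⟩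
  exact Module.mem_annihilator.1 (hk ha) x

end Groth.Agent.Lib.Helper41.LC
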