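import Groth.Agent.Lib.Helper41.LCCompare
import Mathlib.Algebra.Category.ModuleCat.Projective
import Mathlib.RingTheory.Finiteness.Cardinality
import Mathlib.Algebra.Homology.DerivedCategory.Ext.EnoughProjectives

/-!
# `Ext` out of a finitely generated module and local cohomology are "supported on f.g. submodules"
(Noetherian case): every class comes from a finitely generated submodule of the coefficient module.
-/

set_option autoImplicit false
universe u
open CategoryTheory CategoryTheory.Limits Opposite CategoryTheory.Abelian

namespace Groth.Agent.Lib.Helper41.LC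

variable {R : Type u} [CommRing R]

/-- Over a Noetherian ring, every class in `Ext^i(N, M)` with `N` finitely generated comes from a
finitely generated submodule of `M`. -/
theorem ext_exists_fg_submodule [IsNoetherianRing R] (i : ℕ) :
    ∀ (N : ModuleCat.{u} R) [Module.Finite R N] (M : ModuleCat.{u} R) (e : Ext.{u} N M i),
      ∃ (M' : Submodule R M) (_ : M'.FG) (e' : Ext.{u} N (ModuleCat.of R M') i),
        e'.comp (Ext.mk₀ (ModuleCat.ofHom M'.subtype)) (add_zero i) = e := by
  induction i with
  | zero =>
    intro N _ M e
    obtain ⟨f, rfl⟩ := Ext.addEquiv₀.symm.surjective e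
    refine ⟨LinearMap.range f.hom, ?_, Ext.mk₀ (ModuleCat.ofHom f.hom.rangeRestrict), ?_⟩
    · rw [LinearMap.range_eq_map]
      exact (Module.finite_def.1 inferInstance).map f.hom
    · change _ = Ext.mk₀ f
      rw [Ext.mk₀_comp_mk₀]
      rfl
  | succ i ih =>
    intro N _ M e
    obtain ⟨k, g, hg⟩ := Module.Finite.exists_fin' R N
    have hS := LinearMap.shortExact_shortComplexKer hg
    have hproj : Projective (ModuleCat.of R (Fin k → R)) := inferInstance
    have h0 : (Ext.mk₀ (g.shortComplexKer).g).comp e (zero_add (i + 1)) = 0 :=
      Ext.eq_zero_of_projective _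
    obtain ⟨e₁, he₁⟩ := Ext.contravariant_sequence_exact₃ hS M e h0 (show 1 + i = i + 1 by omega)
    have hfin : Module.Finite R (LinearMap.ker g) := inferInstance
    obtain ⟨M', hM', e₁', he₁'⟩ := ih (ModuleCat.of R (LinearMap.ker g)) M e₁
    refine ⟨M', hM', hS.extClass.comp e₁' (by omega), ?_⟩
    rw [Ext.comp_assoc_of_third_deg_zero, he₁', he₁]

/-- Every local cohomology class of `M` comes from a finitely generated submodule of `M`
(Noetherian case). -/
theorem exists_fg_submodule_rep [IsNoetherianRing R] (I : Ideal R) (i : ℕ) (M : ModuleCat.{u} R)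
    (x : (localCohomology I i).obj M) :
    ∃ (M' : Submodule R M) (_ : M'.FG) (x' : (localCohomology I i).obj (ModuleCat.of R M')),
      ((localCohomology I i).map (ModuleCat.ofHom M'.subtype)).hom x' = x := by
  obtain ⟨n, e, rfl⟩ := exists_rep x
  have : Module.Finite R (Q I n) := Module.Finite.quotient R _
  obtain ⟨M', hM', e', he'⟩ := ext_exists_fg_submodule i (Q I n) M e
  exact ⟨M', hM', ιH I i _ n e', by rw [map_ιH, he']⟩

/-- If local cohomology vanishes on all finitely generated submodules, it vanishes. -/
theorem subsingleton_of_forall_fg [IsNoetherianRing R] (I : Ideal R) (i : ℕ) (M : ModuleCat.{u} R)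
    (h : ∀ M' : Submodule R M, M'.FG → Subsingleton ((localCohomology I i).obj (ModuleCat.of R M'))) :
    Subsingleton ((localCohomology I i).obj M) := by
  refine ⟨fun x y => ?_⟩
  have key : ∀ x : (localCohomology I i).obj M, x = 0 := by
    intro x
    obtain ⟨M', hM', x', rfl⟩ := exists_fg_submodule_rep I i M x
    have := h M' hM'
    rw [Subsingleton.elim x' 0, map_zero]
  rw [key x, key y]

/-- Local cohomology of a zero module is zero. -/
theorem subsingleton_of_subsingleton (I : Ideal R) (i : ℕ) (M : ModuleCat.{u} R) [Subsingleton M] :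
    Subsingleton ((localCohomology I i).obj M) := by
  refine ⟨fun x y => ?_⟩
  have key : ∀ x : (localCohomology I i).obj M, x = 0 := by
    intro x
    obtain ⟨n, e, rfl⟩ := exists_rep x
    have h1 : (𝟙 M : M ⟶ M) = 0 := by
      apply ModuleCat.hom_ext
      apply LinearMap.ext
      intro m
      exact Subsingleton.elim _ _
    have h2 : e = e.comp (Ext.mk₀ (𝟙 M)) (add_zero i) := (Ext.comp_mk₀_id e).symm
    rw [h2, h1, Ext.mk₀_zero, Ext.comp_zero, map_zero]
  rw [key x, key y]

/-- If some `x ∈ I` acts injectively on `H^i_I(M)` then `H^i_I(M) = 0`. -/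
theorem subsingleton_of_injective_smul (I : Ideal R) (i : ℕ) (M : ModuleCat.{u} R) (x : R) (hx : x ∈ I)
    (hinj : Function.Injective (fun y : (localCohomology I i).obj M => x • y)) :
    Subsingleton ((localCohomology I i).obj M) := by
  have hpow : ∀ k : ℕ, Function.Injective (fun y : (localCohomology I i).obj M => x ^ k • y) := by
    intro k
    induction k with
    | zero => intro y y' h; simpa using h
    | succ k ihk =>
      intro y y' h
      apply ihk
      apply hinj
      simp only [pow_succ, mul_smul] at h
      simp only
      rw [smul_comm x, smul_comm x (x ^ k)]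
      exact h
  refine ⟨fun y y' => ?_⟩
  have key : ∀ y : (localCohomology I i).obj M, y = 0 := by
    intro y
    obtain ⟨n, e, rfl⟩ := exists_rep y
    apply hpow n
    simp only [smul_zero]
    exact smul_ιH_eq_zero I i M n e (x ^ n) (Ideal.pow_mem_pow hx n)
  rw [key y, key y']

end Groth.Agent.Lib.Helper41.LC
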