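import Groth.Agent.S0318
import Groth.Agent.S11618
import Groth.Agent.Lib.Helper41.LCChar
import Groth.Agent.Lib.Helper41.LCUnion
import Groth.Agent.Lib.Helper41.LCExtVanish

/-!
# A non-annihilation lemma for `H^1`

If `e ∈ 𝔞` is `D`-regular and `D/eD` is `𝔞`-power torsion (for a finite module `D` with `𝔞 D ≠ D`
over a Noetherian ring), then `e` does not kill `H^1_𝔞(D)`.
-/

set_option autoImplicit false
universe u
open CategoryTheory CategoryTheory.Limits Opposite CategoryTheory.Abelian

namespace Groth.Agent.Lib.Helper41.LC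

variable {A : Type u} [CommRing A]

/-- If `e ∈ 𝔞` is regular on the finite module `D` (`𝔞 D ≠ D`) and `D/eD` is `𝔞`-power torsion,
then `e` does not annihilate `H^1_𝔞(D)`. -/
theorem not_forall_smul_eq_zero_H1 [IsNoetherianRing A] (𝔞 : Ideal A) (D : Type u) [AddCommGroup D]
    [Module A D] [Module.Finite A D] (hIM : 𝔞 • (⊤ : Submodule A D) ≠ ⊤) (e : A) (he : e ∈ 𝔞)
    (hreg : IsSMulRegular D e) (htors : IsTorsion 𝔞 (QuotSMulTop e D)) :
    ¬ ∀ y : (localCohomology 𝔞 1).obj (ModuleCat.of A D), e • y = 0 := by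
  intro hkill
  have hS := hreg.smulShortComplex_shortExact (M := ModuleCat.of A D)
  -- `H^i(D/eD) = 0` for `i ≥ 1`
  have hQ : ∀ i, 0 < i → Subsingleton ((localCohomology 𝔞 i).obj ((ModuleCat.of A D).smulShortComplex e).X₃) :=
    fun i hi => subsingleton_of_isTorsion 𝔞 i hi (ModuleCat.of A (QuotSMulTop e D)) htors
  -- all local cohomology of `D` vanishes
  have hall : ∀ i, Subsingleton ((localCohomology 𝔞 i).obj (ModuleCat.of A D)) := by
    intro i
    rcases i with _ | _ | i
    · rw [subsingleton_zero_iff]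
      rintro m ⟨n, hn⟩
      have h1 : e ^ n • m = 0 := hn _ (Ideal.pow_mem_pow he n)
      exact (hreg.pow n).right_eq_zero_of_smul h1
    · -- `e` is surjective and zero on `H^1`
      refine subsingleton_of_forall_eq 0 fun y => ?_
      have hsurj := map_f_surjective_of_subsingleton 𝔞 hS 1 (hQ 1 (by omega))
      obtain ⟨z, rfl⟩ := hsurj y
      change ((localCohomology 𝔞 1).map (e • 𝟙 (ModuleCat.of A D))).hom z = 0
      rw [map_smul_id]
      exact hkill z
    · -- `e` is injective on `H^{i+2}`
      apply subsingleton_of_injective_smul 𝔞 (i + 1 + 1) (ModuleCat.of A D) e he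
      have hinj := map_f_injective_of_subsingleton 𝔞 hS (i + 1) (hQ (i + 1) (by omega))
      intro x y hxy
      apply hinj
      change ((localCohomology 𝔞 (i + 1 + 1)).map (e • 𝟙 (ModuleCat.of A D))).hom x =
        ((localCohomology 𝔞 (i + 1 + 1)).map (e • 𝟙 (ModuleCat.of A D))).hom y
      rw [map_smul_id, map_smul_id]
      exact hxy
  obtain ⟨hext, -⟩ := Groth.Agent.S5151.result A 𝔞 D hIM
  obtain ⟨rs, -, hreg', hI, hmax⟩ := hext [] (RingTheory.Sequence.IsWeaklyRegular.nil A D) (by simp)
  have hnt := Groth.Agent.S0318.nonvanish_at 𝔞 D hIM rs hreg' hI hmax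
  exact not_subsingleton _ (hall rs.length)

end Groth.Agent.Lib.Helper41.LC

namespace Groth.Agent.Lib.Helper41.LC

variable {R : Type u} [CommRing R]

/-- If `(a + p)/p` has height one in `R/p`, there is a prime `q ⊇ a + p` such that no prime lies
strictly between `p` and `q`. -/
lemma exists_prime_of_height_one (a p : Ideal R) [p.IsPrime]
    (hht : ((a ⊔ p).map (Ideal.Quotient.mk p)).height = 1) :
    ∃ q : Ideal R, q.IsPrime ∧ p ≤ q ∧ a ≤ q ∧ ∀ P : Ideal R, P.IsPrime → p < P → P ≤ q → P = q := by
  have hht' : ((a ⊔ p).map (Ideal.Quotient.mk p)).height = ((1 : ℕ) : ℕ∞) := by rw [hht]; rfl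
  obtain ⟨J, hJprime, hJle, hJht⟩ := Ideal.exists_isPrime_height_eq hht'
  have hsurj : Function.Surjective (Ideal.Quotient.mk p) := Ideal.Quotient.mk_surjective
  have hker : RingHom.ker (Ideal.Quotient.mk p) = p := Ideal.mk_ker
  refine ⟨J.comap (Ideal.Quotient.mk p), Ideal.comap_isPrime _ J, ?_, ?_, ?_⟩
  · intro x hx
    rw [Ideal.mem_comap, Ideal.Quotient.eq_zero_iff_mem.2 hx]
    exact J.zero_mem
  · exact (le_sup_left.trans Ideal.le_comap_map).trans (Ideal.comap_mono hJle)
  · intro P hP hpP hPq
    have hkerP : RingHom.ker (Ideal.Quotient.mk p) ≤ P := by rw [hker]; exact hpP.le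
    have hPbar : (P.map (Ideal.Quotient.mk p)).IsPrime := Ideal.map_isPrime_of_surjective hsurj hkerP
    have hPbarle : P.map (Ideal.Quotient.mk p) ≤ J := by
      rw [Ideal.map_le_iff_le_comap]; exact hPq
    have hcm : (P.map (Ideal.Quotient.mk p)).comap (Ideal.Quotient.mk p) = P := by
      rw [Ideal.comap_map_of_surjective _ hsurj, ← RingHom.ker_eq_comap_bot, sup_eq_left]
      exact hkerP
    have hPbarne : P.map (Ideal.Quotient.mk p) ≠ ⊥ := by
      intro h0
      have : P ≤ p := by
        rw [← hcm, h0, ← RingHom.ker_eq_comap_bot, hker]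
      exact absurd (lt_of_lt_of_le hpP this) (lt_irrefl _)
    have hJfin : J.FiniteHeight := ⟨Or.inr (by rw [hJht]; exact ENat.natCast_ne_top 1)⟩
    have heq : P.map (Ideal.Quotient.mk p) = J := by
      by_contra hne
      have hlt : P.map (Ideal.Quotient.mk p) < J := lt_of_le_of_ne hPbarle hne
      have h1 := Ideal.height_strict_mono_of_isPrime_of_isPrime hlt
      rw [hJht] at h1
      have h0 : (P.map (Ideal.Quotient.mk p)).height = 0 := by
        have : (P.map (Ideal.Quotient.mk p)).height < 1 := by exact_mod_cast h1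
        exact Order.lt_one_iff.1 this
      exact hPbarne (Ideal.height_eq_zero_iff_eq_bot.1 h0)
    rw [← heq, hcm]

end Groth.Agent.Lib.Helper41.LC

namespace Groth.Agent.Lib.Helper41.LC

variable {R : Type u} [CommRing R]

section LocalSetup

variable (a p q : Ideal R) [hp : p.IsPrime] [hq : q.IsPrime] (hpq : p ≤ q)

omit hp in
include hpq in
lemma nontrivial_localizedModule_quotient : Nontrivial (LocalizedModule q.primeCompl (R ⧸ p)) := by
  refine ⟨⟨LocalizedModule.mk (1 : R ⧸ p) 1, 0, ?_⟩⟩
  intro h
  rw [← LocalizedModule.zero_mk (1 : q.primeCompl), LocalizedModule.mk_eq] at h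
  obtain ⟨u, hu⟩ := h
  rw [one_smul, one_smul, smul_zero] at hu
  have h1 : (Ideal.Quotient.mk p) (u : R) = 0 := by
    have : (u : R) • (1 : R ⧸ p) = 0 := hu
    rw [Algebra.smul_def, mul_one] at this
    exact this
  exact u.2 (hpq (Ideal.Quotient.eq_zero_iff_mem.1 h1))

include hpq in
lemma eq_zero_of_smul_localizedModule_quotient (e : R) (hep : e ∉ p)
    (x : LocalizedModule q.primeCompl (R ⧸ p))
    (hx : (algebraMap R (Localization.AtPrime q) e) • x = 0) : x = 0 := by
  induction x using LocalizedModule.induction_on with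
  | h n s =>
    rw [algebraMap_smul, LocalizedModule.smul'_mk, ← LocalizedModule.zero_mk s, LocalizedModule.mk_eq] at hx
    obtain ⟨u, hu⟩ := hx
    rw [smul_zero, smul_zero] at hu
    obtain ⟨n₀, rfl⟩ := Ideal.Quotient.mk_surjective n
    have h1 : (Ideal.Quotient.mk p) ((u : R) * ((s : R) * (e * n₀))) = 0 := by
      have : (u : R) • (s : R) • e • (Ideal.Quotient.mk p n₀) = 0 := hu
      rw [Algebra.smul_def, Algebra.smul_def, Algebra.smul_def] at this
      rw [map_mul, map_mul, map_mul]
      exact this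
    rw [Ideal.Quotient.eq_zero_iff_mem] at h1
    have hu' : (u : R) ∉ p := fun h => u.2 (hpq h)
    have hs' : (s : R) ∉ p := fun h => s.2 (hpq h)
    have h2 := (hp.mem_or_mem h1).resolve_left hu'
    have h3 := (hp.mem_or_mem h2).resolve_left hs'
    have h4 := (hp.mem_or_mem h3).resolve_left hep
    rw [Ideal.Quotient.eq_zero_iff_mem.2 h4, LocalizedModule.zero_mk]

end LocalSetup

end Groth.Agent.Lib.Helper41.LC

namespace Groth.Agent.Lib.Helper41.LC

variable {R : Type u} [CommRing R]

section LocalSetup2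

variable (a p q : Ideal R) [hp : p.IsPrime] [hq : q.IsPrime] (hpq : p ≤ q) (haq : a ≤ q)

omit hp in
include haq in
lemma map_le_maximalIdeal_atPrime :
    a.map (algebraMap R (Localization.AtPrime q)) ≤ IsLocalRing.maximalIdeal (Localization.AtPrime q) := by
  rw [← Localization.AtPrime.map_eq_maximalIdeal]
  exact Ideal.map_mono haq

omit hp in
include hpq haq in
lemma smul_top_ne_top_localizedModule_quotient :
    (a.map (algebraMap R (Localization.AtPrime q))) •
      (⊤ : Submodule (Localization.AtPrime q) (LocalizedModule q.primeCompl (R ⧸ p))) ≠ ⊤ := by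
  intro htop
  have hnt := nontrivial_localizedModule_quotient p q hpq
  have hfg : (⊤ : Submodule (Localization.AtPrime q) (LocalizedModule q.primeCompl (R ⧸ p))).FG :=
    Module.Finite.fg_top
  have h0 := Submodule.eq_bot_of_le_smul_of_le_jacobson_bot _ _ hfg (le_of_eq htop.symm)
    ((map_le_maximalIdeal_atPrime a q haq).trans (IsLocalRing.maximalIdeal_le_jacobson ⊥))
  obtain ⟨x, y, hxy⟩ := hnt
  apply hxy
  have hx : x ∈ (⊤ : Submodule (Localization.AtPrime q) (LocalizedModule q.primeCompl (R ⧸ p))) := trivial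
  have hy : y ∈ (⊤ : Submodule (Localization.AtPrime q) (LocalizedModule q.primeCompl (R ⧸ p))) := trivial
  rw [h0, Submodule.mem_bot] at hx hy
  rw [hx, hy]

variable [IsNoetherianRing R]
  (hbetween : ∀ P : Ideal R, P.IsPrime → p < P → P ≤ q → P = q)

omit hp in
include haq hbetween in
lemma isTorsion_quotSMulTop_localizedModule_quotient (e : R) (hep : e ∉ p) :
    IsTorsion (a.map (algebraMap R (Localization.AtPrime q)))
      (QuotSMulTop (algebraMap R (Localization.AtPrime q) e) (LocalizedModule q.primeCompl (R ⧸ p))) := by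
  apply isTorsion_of_support_subset
  intro P' hP'
  rw [Module.mem_support_iff_of_finite] at hP'
  rw [PrimeSpectrum.mem_zeroLocus, SetLike.coe_subset_coe]
  have hPle : P'.asIdeal.comap (algebraMap R (Localization.AtPrime q)) ≤ q := by
    have h1 : (IsLocalRing.maximalIdeal (Localization.AtPrime q)).comap
        (algebraMap R (Localization.AtPrime q)) = q := Localization.AtPrime.under_maximalIdeal
    exact (Ideal.comap_mono (IsLocalRing.le_maximalIdeal P'.2.ne_top)).trans h1.le
  have hpP : p ≤ P'.asIdeal.comap (algebraMap R (Localization.AtPrime q)) := by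
    intro r hr
    rw [Ideal.mem_comap]
    apply hP'
    rw [Module.mem_annihilator]
    intro x
    obtain ⟨d, rfl⟩ := Submodule.Quotient.mk_surjective _ x
    rw [← Submodule.Quotient.mk_smul]
    induction d using LocalizedModule.induction_on with
    | h n s =>
      rw [algebraMap_smul, LocalizedModule.smul'_mk]
      obtain ⟨n₀, rfl⟩ := Ideal.Quotient.mk_surjective n
      have : r • (Ideal.Quotient.mk p n₀) = 0 := by
        rw [Algebra.smul_def]
        change (Ideal.Quotient.mk p r) * _ = 0
        rw [Ideal.Quotient.eq_zero_iff_mem.2 hr, zero_mul]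
      rw [this, LocalizedModule.zero_mk, Submodule.Quotient.mk_zero]
  have heP : e ∈ P'.asIdeal.comap (algebraMap R (Localization.AtPrime q)) := by
    rw [Ideal.mem_comap]
    apply hP'
    rw [Module.mem_annihilator]
    intro x
    obtain ⟨d, rfl⟩ := Submodule.Quotient.mk_surjective _ x
    rw [← Submodule.Quotient.mk_smul, Submodule.Quotient.mk_eq_zero]
    exact Submodule.smul_mem_pointwise_smul d _ ⊤ trivial
  have hlt : p < P'.asIdeal.comap (algebraMap R (Localization.AtPrime q)) :=
    lt_of_le_of_ne hpP (fun h => hep (h ▸ heP))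
  have heq := hbetween _ (Ideal.comap_isPrime _ _) hlt hPle
  rw [Ideal.map_le_iff_le_comap, heq]
  exact haq

end LocalSetup2

end Groth.Agent.Lib.Helper41.LC

namespace Groth.Agent.Lib.Helper41.LC

variable {R : Type u} [CommRing R]

/-- If `(a + p)/p` has height one in `R/p` and `e ∈ a ∖ p`, then `e` does not annihilate
`H^1_a(R/p)`. -/
theorem not_forall_smul_eq_zero_H1_quotient_prime [IsNoetherianRing R] (a p : Ideal R) [hp : p.IsPrime]
    (hht : ((a ⊔ p).map (Ideal.Quotient.mk p)).height = 1) (e : R) (hea : e ∈ a) (hep : e ∉ p) :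
    ¬ ∀ y : LocCoh.H a 1 (R ⧸ p), e • y = 0 := by
  intro hkill
  obtain ⟨q, hq, hpq, haq, hbetween⟩ := exists_prime_of_height_one a p hht
  have hL1 := not_forall_smul_eq_zero_H1 (a.map (algebraMap R (Localization.AtPrime q)))
    (LocalizedModule q.primeCompl (R ⧸ p))
    (smul_top_ne_top_localizedModule_quotient a p q hpq haq)
    (algebraMap R (Localization.AtPrime q) e) (Ideal.mem_map_of_mem _ hea)
    (isSMulRegular_iff_right_eq_zero_of_smul.2
      (eq_zero_of_smul_localizedModule_quotient p q hpq e hep))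
    (isTorsion_quotSMulTop_localizedModule_quotient a p q haq hbetween e hep)
  apply hL1
  obtain ⟨ε⟩ := Groth.Agent.S11618.result R a q.primeCompl (R ⧸ p) 1
  intro y
  obtain ⟨w, rfl⟩ := ε.surjective y
  rw [← map_smul]
  have : (algebraMap R (Localization.AtPrime q) e) • w = 0 := by
    induction w using LocalizedModule.induction_on with
    | h x s =>
      rw [algebraMap_smul, LocalizedModule.smul'_mk, hkill x, LocalizedModule.zero_mk]
  rw [this, map_zero]

end Groth.Agent.Lib.Helper41.LC
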