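import Groth.Agent.S11618
import Groth.Agent.S0318
import Groth.Agent.S11648
import Groth.Agent.S11649
import Groth.Agent.S11650
import Groth.Agent.S11652
import Groth.Agent.Lib.Helper41.LCFinDim
import Groth.Agent.Lib.Helper41.QuotHeight

/-!
# Depth of a localization through local cohomology, and the inequality `f_a^b(M) ≤ λ_a^b(M)`
-/

set_option autoImplicit false
universe u
open CategoryTheory CategoryTheory.Limits Opposite CategoryTheory.Abelian

namespace Groth.Agent.Lib.Helper41.LC

variable {R : Type u} [CommRing R]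

/-- `X` is locally zero at `p` iff its localization at `p` vanishes. -/
lemma lz_iff_subsingleton_localizedModule (p : Ideal R) [p.IsPrime] (X : Type u) [AddCommGroup X]
    [Module R X] : LZ p X ↔ Subsingleton (LocalizedModule p.primeCompl X) := by
  constructor
  · intro h
    refine subsingleton_of_forall_eq 0 fun y => ?_
    induction y using LocalizedModule.induction_on with
    | h x s =>
      obtain ⟨u, hu, hux⟩ := h x
      rw [← LocalizedModule.zero_mk (1 : p.primeCompl), LocalizedModule.mk_eq]
      refine ⟨⟨u, hu⟩, ?_⟩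
      rw [smul_zero, smul_zero, one_smul]
      exact hux
  · intro h x
    have h0 : LocalizedModule.mk x (1 : p.primeCompl) = 0 := Subsingleton.elim _ _
    rw [← LocalizedModule.zero_mk (1 : p.primeCompl), LocalizedModule.mk_eq] at h0
    obtain ⟨u, hu⟩ := h0
    rw [smul_zero, smul_zero, one_smul] at hu
    exact ⟨u, u.2, hu⟩

/-- Local cohomology with support in `p`, localized at `p`, is the local cohomology of the
localization with support in the maximal ideal. -/
lemma lz_H_iff [IsNoetherianRing R] (p : Ideal R) [p.IsPrime] (N : Type u) [AddCommGroup N] [Module R N]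
    (i : ℕ) :
    LZ p (LocCoh.H p i N) ↔
      Subsingleton (LocCoh.H (IsLocalRing.maximalIdeal (Localization.AtPrime p)) i
        (LocalizedModule p.primeCompl N)) := by
  rw [lz_iff_subsingleton_localizedModule]
  obtain ⟨ε⟩ := Groth.Agent.S11618.result R p p.primeCompl N i
  have hmap : Ideal.map (algebraMap R (Localization p.primeCompl)) p =
      IsLocalRing.maximalIdeal (Localization.AtPrime p) := Localization.AtPrime.map_eq_maximalIdeal
  rw [hmap] at ε
  exact ε.toEquiv.subsingleton_congr

/-- The depth of `N_p` over `R_p` is the least `i` such that `H^i_p(N)` is not locally zero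
at `p`. -/
theorem depth_atPrime_eq_iff [IsNoetherianRing R] (p : Ideal R) [p.IsPrime] (N : Type u) [AddCommGroup N]
    [Module R N] [Module.Finite R N] (n : ℕ) :
    LocCoh.depth (Localization.AtPrime p) (LocalizedModule p.primeCompl N) = n ↔
      (∀ i < n, LZ p (LocCoh.H p i N)) ∧ ¬ LZ p (LocCoh.H p n N) := by
  by_cases hD : Subsingleton (LocalizedModule p.primeCompl N)
  · have htop : LocCoh.depth (Localization.AtPrime p) (LocalizedModule p.primeCompl N) = ⊤ := by
      unfold LocCoh.depth LocCoh.idealDepth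
      rw [if_pos (Subsingleton.elim _ _)]
    rw [htop]
    constructor
    · intro h
      exact absurd h (ENat.top_ne_natCast n)
    · rintro ⟨-, h2⟩
      exfalso
      apply h2
      rw [lz_H_iff]
      exact subsingleton_of_subsingleton _ n (ModuleCat.of _ (LocalizedModule p.primeCompl N))
  · rw [not_subsingleton_iff_nontrivial] at hD
    have hIM : (IsLocalRing.maximalIdeal (Localization.AtPrime p)) •
        (⊤ : Submodule (Localization.AtPrime p) (LocalizedModule p.primeCompl N)) ≠ ⊤ := by
      intro htop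
      have hfg : (⊤ : Submodule (Localization.AtPrime p) (LocalizedModule p.primeCompl N)).FG :=
        Module.Finite.fg_top
      have h0 := Submodule.eq_bot_of_le_smul_of_le_jacobson_bot _ _ hfg (le_of_eq htop.symm)
        (IsLocalRing.maximalIdeal_le_jacobson ⊥)
      obtain ⟨x, y, hxy⟩ := hD
      apply hxy
      have hx : x ∈ (⊤ : Submodule (Localization.AtPrime p) (LocalizedModule p.primeCompl N)) := trivial
      have hy : y ∈ (⊤ : Submodule (Localization.AtPrime p) (LocalizedModule p.primeCompl N)) := trivial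
      rw [h0, Submodule.mem_bot] at hx hy
      rw [hx, hy]
    have h318 := Groth.Agent.S0318.result (Localization.AtPrime p)
      (IsLocalRing.maximalIdeal (Localization.AtPrime p)) (LocalizedModule p.primeCompl N) hIM n
    have hdef : LocCoh.depth (Localization.AtPrime p) (LocalizedModule p.primeCompl N) =
        LocCoh.idealDepth (IsLocalRing.maximalIdeal (Localization.AtPrime p))
          (LocalizedModule p.primeCompl N) := rfl
    rw [hdef, h318]
    constructor
    · rintro ⟨h1, h2⟩
      refine ⟨fun i hi => (lz_H_iff p N i).2 (h1 i hi), fun h => ?_⟩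
      exact not_subsingleton _ ((lz_H_iff p N n).1 h)
    · rintro ⟨h1, h2⟩
      refine ⟨fun i hi => (lz_H_iff p N i).1 (h1 i hi), ?_⟩
      rw [← not_subsingleton_iff_nontrivial]
      exact fun h => h2 ((lz_H_iff p N n).2 h)

end Groth.Agent.Lib.Helper41.LC

namespace Groth.Agent.Lib.Helper41.LC

variable {R : Type u} [CommRing R]

/-- If `H^0_p(M)` is not locally zero at `p`, then `p` is an associated prime of `M`. -/
theorem mem_associatedPrimes_of_not_lz [IsNoetherianRing R] (p : Ideal R) [hp : p.IsPrime] (M : Type u)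
    [AddCommGroup M] [Module R M] (h : ¬ LZ p (LocCoh.H p 0 M)) : p ∈ associatedPrimes R M := by
  unfold LZ at h
  push Not at h
  obtain ⟨x, hx⟩ := h
  let y : M := toMod p (ModuleCat.of R M) x
  obtain ⟨n, hn⟩ := (mem_range_toMod_iff p (ModuleCat.of R M) y).1 ⟨x, rfl⟩
  have hy : ∀ s : R, s ∉ p → s • y ≠ 0 := by
    intro s hs h0
    apply hx s hs
    apply toMod_injective p (ModuleCat.of R M)
    rw [map_smul, map_zero]
    exact h0
  let N : Submodule R M := Submodule.span R {y}
  have hNfin : Module.Finite R N := Module.Finite.span_singleton R y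
  have hmin : p ∈ (Module.annihilator R N).minimalPrimes := by
    refine ⟨⟨hp, ?_⟩, ?_⟩
    · intro r hr
      by_contra hrp
      apply hy r hrp
      have := Module.mem_annihilator.1 hr ⟨y, Submodule.mem_span_singleton_self y⟩
      exact congrArg Subtype.val this
    · rintro P ⟨hPprime, hPle⟩ -
      have hpow : p ^ n ≤ P := by
        intro r hr
        apply hPle
        rw [Module.mem_annihilator]
        rintro ⟨z, hz⟩
        obtain ⟨c, rfl⟩ := Submodule.mem_span_singleton.1 hz
        apply Subtype.ext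
        change r • c • y = 0
        rw [smul_comm, hn r hr, smul_zero]
      exact hPprime.le_of_pow_le hpow
  have h1 := Module.associatedPrimes.minimalPrimes_annihilator_subset_associatedPrimes R N hmin
  exact associatedPrimes.subset_of_injective (f := N.subtype) N.injective_subtype h1

/-- The kernel of `M → M_p`. -/
def satKer (p : Ideal R) [hp : p.IsPrime] (M : Type u) [AddCommGroup M] [Module R M] : Submodule R M where
  carrier := {m | ∃ s : R, s ∉ p ∧ s • m = 0}
  zero_mem' := ⟨1, fun h => hp.ne_top ((Ideal.eq_top_iff_one p).2 h), smul_zero 1⟩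
  add_mem' := by
    rintro m₁ m₂ ⟨s₁, hs₁, h₁⟩ ⟨s₂, hs₂, h₂⟩
    refine ⟨s₁ * s₂, fun h => (hp.mem_or_mem h).elim hs₁ hs₂, ?_⟩
    rw [smul_add, mul_smul, smul_comm, h₁, smul_zero, mul_smul, h₂, smul_zero, add_zero]
  smul_mem' := by
    rintro c m ⟨s, hs, h⟩
    exact ⟨s, hs, by rw [smul_comm, h, smul_zero]⟩

lemma mem_satKer_iff (p : Ideal R) [p.IsPrime] (M : Type u) [AddCommGroup M] [Module R M] (m : M) :
    m ∈ satKer p M ↔ ∃ s : R, s ∉ p ∧ s • m = 0 := Iff.rfl

/-- A finitely generated submodule of `satKer` is killed by a single element outside `p`. -/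
lemma exists_smul_eq_zero_of_fg_le_satKer (p : Ideal R) [hp : p.IsPrime] {M : Type u} [AddCommGroup M]
    [Module R M] (T : Submodule R M) (hT : T.FG) (hle : T ≤ satKer p M) :
    ∃ s : R, s ∉ p ∧ ∀ m ∈ T, s • m = 0 := by
  induction T, hT using Submodule.fg_induction with
  | singleton y =>
    obtain ⟨s, hs, hsy⟩ := hle (Submodule.mem_span_singleton_self y)
    refine ⟨s, hs, fun m hm => ?_⟩
    obtain ⟨c, rfl⟩ := Submodule.mem_span_singleton.1 hm
    rw [smul_comm, hsy, smul_zero]
  | sup T₁ T₂ _ _ ih₁ ih₂ =>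
    obtain ⟨s₁, hs₁, h₁⟩ := ih₁ (le_sup_left.trans hle)
    obtain ⟨s₂, hs₂, h₂⟩ := ih₂ (le_sup_right.trans hle)
    refine ⟨s₁ * s₂, fun h => (hp.mem_or_mem h).elim hs₁ hs₂, fun m hm => ?_⟩
    obtain ⟨m₁, hm₁, m₂, hm₂, rfl⟩ := Submodule.mem_sup.1 hm
    rw [smul_add, mul_smul, smul_comm, h₁ m₁ hm₁, smul_zero, mul_smul, h₂ m₂ hm₂, smul_zero, add_zero]

/-- `M / satKer` is `p`-saturated. -/
lemma eq_zero_of_smul_quotient_satKer (p : Ideal R) [hp : p.IsPrime] (M : Type u) [AddCommGroup M]
    [Module R M] (y : M ⧸ satKer p M) (s : R) (hs : s ∉ p) (h : s • y = 0) : y = 0 := by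
  obtain ⟨m, rfl⟩ := Submodule.Quotient.mk_surjective _ y
  rw [← Submodule.Quotient.mk_smul, Submodule.Quotient.mk_eq_zero] at h
  obtain ⟨s', hs', h'⟩ := h
  rw [Submodule.Quotient.mk_eq_zero]
  exact ⟨s' * s, fun h => (hp.mem_or_mem h).elim hs' hs, by rw [mul_smul]; exact h'⟩

/-- Passing to `M / satKer p M` does not change local vanishing at `p` of `H^i_I`. -/
lemma lz_quotient_satKer_iff [IsNoetherianRing R] (I p : Ideal R) [hp : p.IsPrime] (M : Type u) [AddCommGroup M]
    [Module R M] [Module.Finite R M] (i : ℕ) :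
    LZ p ((localCohomology I i).obj (ModuleCat.of R M)) ↔
      LZ p ((localCohomology I i).obj (ModuleCat.of R (M ⧸ satKer p M))) := by
  obtain ⟨s₀, hs₀, hkill⟩ := exists_smul_eq_zero_of_fg_le_satKer p (satKer p M)
    (IsNoetherian.noetherian _) le_rfl
  have hT : ∀ j, LZ p ((localCohomology I j).obj (ModuleCat.of R (satKer p M))) := by
    intro j x
    refine ⟨s₀, hs₀, smul_eq_zero_of_smul_eq_zero I j _ s₀ (fun m => ?_) x⟩
    apply Subtype.ext
    exact hkill m m.2
  have hS := subQuotSC_shortExact (satKer p M)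
  constructor
  · intro h
    exact lz_X₃ I hS p i h (hT (i + 1))
  · intro h
    exact lz_X₂ I hS p i (hT i) h

end Groth.Agent.Lib.Helper41.LC

namespace Groth.Agent.Lib.Helper41.LC

variable {R : Type u} [CommRing R]

/-- A `p`-saturated module with `H^0_p` locally zero at `p` has no `p`-power torsion. -/
lemma powTorsion_eq_bot_of_lz (p : Ideal R) [p.IsPrime] (N : Type u) [AddCommGroup N] [Module R N]
    (hsat : ∀ (y : N) (s : R), s ∉ p → s • y = 0 → y = 0) (h0 : LZ p (LocCoh.H p 0 N)) :
    powTorsion p N = ⊥ := by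
  rw [eq_bot_iff]
  intro y hy
  obtain ⟨x, hx⟩ := (mem_range_toMod_iff p (ModuleCat.of R N) y).2 hy
  obtain ⟨s, hs, hsx⟩ := h0 x
  rw [Submodule.mem_bot]
  apply hsat y s hs
  have hx' : toMod p (ModuleCat.of R N) x = y := hx
  rw [← hx', ← map_smul, hsx, map_zero]

/-- Depth drops by one modulo a regular element of `p` (local-cohomology form). -/
lemma not_lz_quotSMulTop (p : Ideal R) [hp : p.IsPrime] (N : Type u) [AddCommGroup N] [Module R N]
    (x : R) (hxp : x ∈ p) (hreg : IsSMulRegular N x) (d : ℕ)
    (hd : ¬ LZ p (LocCoh.H p (d + 1) N)) : ¬ LZ p (LocCoh.H p d (QuotSMulTop x N)) := by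
  intro hlz
  apply hd
  have hS := hreg.smulShortComplex_shortExact (M := ModuleCat.of R N)
  -- by contradiction: an element which is not locally zero
  by_contra hcon
  unfold LZ at hcon
  push Not at hcon
  obtain ⟨y, hy⟩ := hcon
  -- `x^N y = 0`
  obtain ⟨n, hn⟩ := isTorsion_H p (d + 1) (ModuleCat.of R N) y
  have hP : ∃ k : ℕ, ∃ s : R, s ∉ p ∧ s • x ^ k • y = 0 :=
    ⟨n, 1, fun h => hp.ne_top ((Ideal.eq_top_iff_one p).2 h), by
      rw [hn _ (Ideal.pow_mem_pow hxp n), smul_zero]⟩
  classical
  let k := Nat.find hP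
  have hk : ∃ s : R, s ∉ p ∧ s • x ^ k • y = 0 := Nat.find_spec hP
  have hk0 : k ≠ 0 := by
    intro h0
    obtain ⟨s, hs, hsy⟩ := hk
    rw [h0, pow_zero, one_smul] at hsy
    exact hy s hs hsy
  obtain ⟨k', hk'⟩ : ∃ k', k = k' + 1 := ⟨k - 1, by omega⟩
  have hmin : ∀ s : R, s ∉ p → s • x ^ k' • y ≠ 0 := by
    intro s hs h0
    have := Nat.find_min hP (m := k') (by omega)
    exact this ⟨s, hs, h0⟩
  obtain ⟨s, hs, hsy⟩ := hk
  rw [hk', pow_succ', mul_smul, smul_comm] at hsy
  -- `s • x^k' • y` is killed by `x`, hence comes from `H^d(N/xN)`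
  have h0 : ((localCohomology p (d + 1)).map ((ModuleCat.of R N).smulShortComplex x).f).hom
      (s • x ^ k' • y) = 0 := by
    change ((localCohomology p (d + 1)).map (x • 𝟙 (ModuleCat.of R N))).hom (s • x ^ k' • y) = 0
    rw [map_smul_id]
    exact hsy
  obtain ⟨w, hw⟩ := exact₁ p hS d (d + 1) rfl _ h0
  obtain ⟨s', hs', hs'w⟩ := hlz w
  apply hmin (s' * s) (fun h => (hp.mem_or_mem h).elim hs' hs)
  have hs'w' : s' • w = 0 := hs'w
  have h1 : s' • (δ p hS d (d + 1) rfl w) = 0 := by
    rw [← map_smul, hs'w', map_zero]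
  rw [hw] at h1
  rw [mul_smul]
  exact h1

end Groth.Agent.Lib.Helper41.LC

namespace Groth.Agent.Lib.Helper41.LC

variable {R : Type u} [CommRing R]

/-- The height-one case of `f_a^b(M) ≤ depth M_p + ht((a+p)/p)`, in local-cohomology form: if
`depth M_p = d` and `ht((a+p)/p) = 1` then some `H^i_a(M)`, `i ≤ d + 1`, is not killed by a power
of `b` (for any `b ⊄ p`). -/
theorem exists_not_killPow_of_height_one [IsNoetherianRing R] (a p : Ideal R) [hp : p.IsPrime]
    (hht : ((a ⊔ p).map (Ideal.Quotient.mk p)).height = 1) (d : ℕ) :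
    ∀ (M : Type u) [AddCommGroup M] [Module R M] [Module.Finite R M] (b : Ideal R), ¬ b ≤ p →
      (∀ i < d, LZ p (LocCoh.H p i M)) → ¬ LZ p (LocCoh.H p d M) →
      ∃ i ≤ d + 1, ¬ KillPow b (LocCoh.H a i M) := by
  induction d with
  | zero =>
    intro M _ _ _ b hb _ h0
    have hass := mem_associatedPrimes_of_not_lz p M h0
    refine ⟨1, le_refl _, ?_⟩
    rw [← le_radical_annihilator_iff]
    exact Groth.Agent.S11648.result R a b M p hass hb hht
  | succ d ih =>
    intro M _ _ _ b hb hlow htop
    obtain ⟨s₀, hs₀, hkill⟩ := exists_smul_eq_zero_of_fg_le_satKer p (satKer p M)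
      (IsNoetherian.noetherian _) le_rfl
    have hb' : ¬ b * Ideal.span {s₀} ≤ p := by
      intro h
      rcases (Ideal.IsPrime.mul_le hp).1 h with h1 | h1
      · exact hb h1
      · exact hs₀ (h1 (Ideal.mem_span_singleton_self s₀))
    have hb'b : b * Ideal.span {s₀} ≤ b := Ideal.mul_le_left
    have hTkill : KillPow (b * Ideal.span {s₀}) (satKer p M) := by
      refine ⟨1, fun r hr m => ?_⟩
      rw [pow_one] at hr
      obtain ⟨c, rfl⟩ := Ideal.mem_span_singleton'.1 (Ideal.mul_le_right hr)
      apply Subtype.ext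
      change (c * s₀) • (m : M) = 0
      rw [mul_smul, hkill m m.2, smul_zero]
    have hlow' : ∀ i < d + 1, LZ p (LocCoh.H p i (M ⧸ satKer p M)) :=
      fun i hi => (lz_quotient_satKer_iff p p M i).1 (hlow i hi)
    have htop' : ¬ LZ p (LocCoh.H p (d + 1) (M ⧸ satKer p M)) :=
      fun h => htop ((lz_quotient_satKer_iff p p M (d + 1)).2 h)
    have hΓ : powTorsion p (M ⧸ satKer p M) = ⊥ :=
      powTorsion_eq_bot_of_lz p _ (eq_zero_of_smul_quotient_satKer p M) (hlow' 0 (by omega))
    obtain ⟨x, hxp, hreg⟩ := exists_isSMulRegular_mem p (M ⧸ satKer p M) hΓ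
    have hS := hreg.smulShortComplex_shortExact (M := ModuleCat.of R (M ⧸ satKer p M))
    have hlow'' : ∀ i < d, LZ p (LocCoh.H p i (QuotSMulTop x (M ⧸ satKer p M))) := fun i hi =>
      lz_X₃ p hS p i (hlow' i (by omega)) (hlow' (i + 1) (by omega))
    have htop'' := not_lz_quotSMulTop p (M ⧸ satKer p M) x hxp hreg d htop'
    obtain ⟨i, hi, hnk⟩ := ih (QuotSMulTop x (M ⧸ satKer p M)) (b * Ideal.span {s₀}) hb' hlow'' htop''
    by_contra hcon
    push Not at hcon
    apply hnk
    have hK' : ∀ j ≤ d + 1 + 1, KillPow (b * Ideal.span {s₀}) (LocCoh.H a j (M ⧸ satKer p M)) :=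
      fun j hj => (killPow_quotient_iff a (b * Ideal.span {s₀}) (satKer p M) hTkill j).1
        ((hcon j hj).mono hb'b)
    exact killPow_X₃ a hS (b * Ideal.span {s₀}) i (hK' i (by omega)) (hK' (i + 1) (by omega))

end Groth.Agent.Lib.Helper41.LC

namespace Groth.Agent.Lib.Helper41.LC

variable {R : Type u} [CommRing R]

open Groth.Agent.Lib.Helper41.QuotHeight

/-- The case `a ≤ p`: `f_a^b(M) ≤ depth M_p` for `b ⊄ p`. -/
theorem finDimRel_le_depth_of_le [IsNoetherianRing R] (a b : Ideal R) (M : Type u) [AddCommGroup M]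
    [Module R M] [Module.Finite R M] (p : Ideal R) [hp : p.IsPrime] (hb : ¬ b ≤ p) (hap : a ≤ p) :
    LocCoh.finDimRel a b M ≤
      LocCoh.depth (Localization.AtPrime p) (LocalizedModule p.primeCompl M) := by
  induction hd : LocCoh.depth (Localization.AtPrime p) (LocalizedModule p.primeCompl M)
    using ENat.recTopCoe with
  | top => exact le_top
  | coe d =>
    have hD : Nontrivial (LocalizedModule p.primeCompl M) := by
      rw [← not_subsingleton_iff_nontrivial]
      intro hsub
      have htop : LocCoh.depth (Localization.AtPrime p) (LocalizedModule p.primeCompl M) = ⊤ := by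
        unfold LocCoh.depth LocCoh.idealDepth
        rw [if_pos (Subsingleton.elim _ _)]
      rw [htop] at hd
      exact ENat.top_ne_natCast d hd
    have h𝔞m : a.map (algebraMap R (Localization.AtPrime p)) ≤
        IsLocalRing.maximalIdeal (Localization.AtPrime p) := map_le_maximalIdeal_atPrime a p hap
    have hNak : ∀ J : Ideal (Localization.AtPrime p), J ≤ IsLocalRing.maximalIdeal (Localization.AtPrime p) →
        J • (⊤ : Submodule (Localization.AtPrime p) (LocalizedModule p.primeCompl M)) ≠ ⊤ := by
      intro J hJ htop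
      have hfg : (⊤ : Submodule (Localization.AtPrime p) (LocalizedModule p.primeCompl M)).FG :=
        Module.Finite.fg_top
      have h0 := Submodule.eq_bot_of_le_smul_of_le_jacobson_bot _ _ hfg (le_of_eq htop.symm)
        (hJ.trans (IsLocalRing.maximalIdeal_le_jacobson ⊥))
      obtain ⟨x, y, hxy⟩ := hD
      apply hxy
      have hx : x ∈ (⊤ : Submodule (Localization.AtPrime p) (LocalizedModule p.primeCompl M)) := trivial
      have hy : y ∈ (⊤ : Submodule (Localization.AtPrime p) (LocalizedModule p.primeCompl M)) := trivial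
      rw [h0, Submodule.mem_bot] at hx hy
      rw [hx, hy]
    have hIM := hNak _ h𝔞m
    have hIMm := hNak _ le_rfl
    obtain ⟨hext, hlen⟩ := Groth.Agent.S5151.result (Localization.AtPrime p)
      (a.map (algebraMap R (Localization.AtPrime p))) (LocalizedModule p.primeCompl M) hIM
    obtain ⟨rs, -, hreg, hI, hmax⟩ := hext []
      (RingTheory.Sequence.IsWeaklyRegular.nil _ _) (by simp)
    have ht := (hlen rs hreg hI hmax).symm
    have hsupp : (⟨p, hp⟩ : PrimeSpectrum R) ∈ Module.support R M := by
      rw [Module.mem_support_iff]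
      exact hD
    have h49 := Groth.Agent.S11649.result R a b M ⟨p, hp⟩ hsupp hap hb rs.length ht
    have h1 := finDimRel_le_of_not a b M rs.length h49
    have h2 : (rs.length : ℕ∞) ≤
        LocCoh.depth (Localization.AtPrime p) (LocalizedModule p.primeCompl M) := by
      unfold LocCoh.depth LocCoh.idealDepth
      rw [if_neg hIMm]
      exact le_iSup₂_of_le rs ⟨hreg, fun r hr => h𝔞m (hI r hr)⟩ le_rfl
    rw [hd] at h2
    exact h1.trans h2

end Groth.Agent.Lib.Helper41.LC

namespace Groth.Agent.Lib.Helper41.LC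

variable {R : Type u} [CommRing R]

open Groth.Agent.Lib.Helper41.QuotHeight

/-- If `I.map (mk p) = ⊥` then `I ≤ p`. -/
lemma le_of_map_mk_eq_bot {p I : Ideal R} (h : I.map (Ideal.Quotient.mk p) = ⊥) : I ≤ p := by
  intro x hx
  have h1 : Ideal.Quotient.mk p x ∈ I.map (Ideal.Quotient.mk p) := Ideal.mem_map_of_mem _ hx
  rw [h, Ideal.mem_bot] at h1
  exact Ideal.Quotient.eq_zero_iff_mem.1 h1

/-- The case `ht(q/p) ≤ 1` (with `a ≤ q`, `p ≤ q`): `f_a^b(M) ≤ depth M_p + ht(q/p)`. -/
theorem finDimRel_le_depth_add_one [IsNoetherianRing R] (a b : Ideal R) (M : Type u) [AddCommGroup M]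
    [Module R M] [Module.Finite R M] (p q : Ideal R) [hp : p.IsPrime] [hq : q.IsPrime]
    (hpq : p ≤ q) (haq : a ≤ q) (hb : ¬ b ≤ p) (hht : (q.map (Ideal.Quotient.mk p)).height = 1) :
    LocCoh.finDimRel a b M ≤
      LocCoh.depth (Localization.AtPrime p) (LocalizedModule p.primeCompl M) + 1 := by
  by_cases hap : a ≤ p
  · exact (finDimRel_le_depth_of_le a b M p hb hap).trans le_self_add
  · have hle : ((a ⊔ p).map (Ideal.Quotient.mk p)).height ≤ 1 := by
      rw [← hht]
      exact Ideal.height_mono (Ideal.map_mono (sup_le haq hpq))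
    have hne : ((a ⊔ p).map (Ideal.Quotient.mk p)).height ≠ 0 := by
      intro h0
      rw [Ideal.height_eq_zero_iff_eq_bot] at h0
      exact hap (le_sup_left.trans (le_of_map_mk_eq_bot h0))
    have hht' : ((a ⊔ p).map (Ideal.Quotient.mk p)).height = 1 :=
      le_antisymm hle (Order.one_le_iff_pos.2 (pos_iff_ne_zero.2 hne))
    induction hd : LocCoh.depth (Localization.AtPrime p) (LocalizedModule p.primeCompl M)
      using ENat.recTopCoe with
    | top => rw [top_add]; exact le_top
    | coe d =>
      obtain ⟨hlow, htop⟩ := (depth_atPrime_eq_iff p M d).1 hd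
      obtain ⟨i, hi, hnk⟩ := exists_not_killPow_of_height_one a p hht' d M b hb hlow htop
      rw [← le_radical_annihilator_iff] at hnk
      refine (finDimRel_le_of_not a b M i hnk).trans ?_
      have : ((i : ℕ) : ℕ∞) ≤ ((d + 1 : ℕ) : ℕ∞) := by exact_mod_cast hi
      simpa using this

/-- Main inequality: for primes `p ≤ q` with `a ≤ q` and `b ⊄ p`,
`f_a^b(M) ≤ depth M_p + ht(q/p)`. -/
theorem finDimRel_le_depth_add_height [IsNoetherianRing R] (a b : Ideal R) (M : Type u)
    [AddCommGroup M] [Module R M] [Module.Finite R M] (h : ℕ) :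
    ∀ (p q : Ideal R) [p.IsPrime] [q.IsPrime], p ≤ q → a ≤ q → ¬ b ≤ p →
      (q.map (Ideal.Quotient.mk p)).height = h →
      LocCoh.finDimRel a b M ≤
        LocCoh.depth (Localization.AtPrime p) (LocalizedModule p.primeCompl M) + h := by
  induction h using Nat.strong_induction_on with
  | _ h ih =>
    intro p q hp hq hpq haq hb hht
    rcases Nat.lt_or_ge h 2 with hlt | hge
    · rcases Nat.lt_or_ge h 1 with h0 | h1
      · have h00 : h = 0 := by omega
        subst h00
        rw [Nat.cast_zero] at hht
        rw [Ideal.height_eq_zero_iff_eq_bot] at hht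
        have hqp : q ≤ p := le_of_map_mk_eq_bot hht
        rw [Nat.cast_zero, add_zero]
        exact finDimRel_le_depth_of_le a b M p hb (haq.trans hqp)
      · have h11 : h = 1 := by omega
        subst h11
        rw [Nat.cast_one] at hht ⊢
        exact finDimRel_le_depth_add_one a b M p q hpq haq hb hht
    · -- `h ≥ 2`
      have hne : p ≠ q := by
        rintro rfl
        have hbot : p.map (Ideal.Quotient.mk p) = ⊥ := Ideal.map_quotient_self p
        rw [hbot, Ideal.height_bot] at hht
        have : (h : ℕ∞) = 0 := hht.symm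
        have h0 : h = 0 := by exact_mod_cast this
        omega
      have hlt : p < q := lt_of_le_of_ne hpq hne
      obtain ⟨a₀, ha₀b, ha₀p⟩ := Set.not_subset.1 hb
      by_cases ha₀q : a₀ ∈ q
      · have hht1 : 1 < (q.map (Ideal.Quotient.mk p)).height := by
          rw [hht]
          exact_mod_cast hge
        obtain ⟨t, htprime, hpt, htq, ha₀t⟩ :=
          Groth.Agent.S11652.result R p q hlt hht1 a₀ ha₀q ha₀p
        have hbt : ¬ b ≤ t := fun hle => ha₀t (hle ha₀b)
        have hadd := height_map_add_le (p := p) (t := t) (q := q) hpt.le htq.le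
        rw [hht] at hadd
        have h1 : 1 ≤ (t.map (Ideal.Quotient.mk p)).height := by
          rw [Order.one_le_iff_pos, pos_iff_ne_zero]
          intro h0
          rw [Ideal.height_eq_zero_iff_eq_bot] at h0
          exact map_mk_ne_bot hpt h0
        have hm_ne : (t.map (Ideal.Quotient.mk p)).height ≠ ⊤ := by
          intro htop
          rw [htop, top_add] at hadd
          exact absurd (top_le_iff.1 hadd) (ENat.natCast_ne_top h)
        have hn_ne : (q.map (Ideal.Quotient.mk t)).height ≠ ⊤ := by
          intro htop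
          rw [htop, add_top] at hadd
          exact absurd (top_le_iff.1 hadd) (ENat.natCast_ne_top h)
        obtain ⟨m, hm⟩ := ENat.ne_top_iff_exists.1 hm_ne
        obtain ⟨n, hn⟩ := ENat.ne_top_iff_exists.1 hn_ne
        rw [← hm, ← hn] at hadd
        rw [← hm] at h1
        have hmn : m + n ≤ h := by exact_mod_cast hadd
        have hm1 : 1 ≤ m := by exact_mod_cast h1
        have hIH := ih n (by omega) t q htq.le haq hbt hn.symm
        have h50 := Groth.Agent.S11650.result R M p t hpt.le
        rw [← hm] at h50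
        calc LocCoh.finDimRel a b M
            ≤ LocCoh.depth (Localization.AtPrime t) (LocalizedModule t.primeCompl M) + n := hIH
          _ ≤ LocCoh.depth (Localization.AtPrime p) (LocalizedModule p.primeCompl M) + m + n := by
              gcongr
          _ = LocCoh.depth (Localization.AtPrime p) (LocalizedModule p.primeCompl M) +
                ((m + n : ℕ) : ℕ∞) := by
              push_cast
              rw [add_assoc]
          _ ≤ LocCoh.depth (Localization.AtPrime p) (LocalizedModule p.primeCompl M) + h := by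
              gcongr
      · have hbq : ¬ b ≤ q := fun hle => ha₀q (hle ha₀b)
        have h1 := finDimRel_le_depth_of_le a b M q hbq haq
        have h50 := Groth.Agent.S11650.result R M p q hpq
        rw [hht] at h50
        exact h1.trans h50

/-- `f_a^b(M) ≤ λ_a^b(M)`. -/
theorem finDimRel_le_minAdjDepth [IsNoetherianRing R] (a b : Ideal R) (M : Type u)
    [AddCommGroup M] [Module R M] [Module.Finite R M] :
    LocCoh.finDimRel a b M ≤ LocCoh.minAdjDepth a b M := by
  unfold LocCoh.minAdjDepth
  refine le_iInf₂ fun p hbp => ?_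
  unfold LocCoh.adjDepth
  have hp : p.asIdeal.IsPrime := p.2
  induction hh : ((a ⊔ p.asIdeal).map (Ideal.Quotient.mk p.asIdeal)).height using ENat.recTopCoe with
  | top => rw [add_top]; exact le_top
  | coe h =>
    obtain ⟨J, hJprime, hJle, hJht⟩ := Ideal.exists_isPrime_height_eq hh
    have hq : (J.comap (Ideal.Quotient.mk p.asIdeal)).IsPrime := Ideal.comap_isPrime _ J
    have hpq : p.asIdeal ≤ J.comap (Ideal.Quotient.mk p.asIdeal) := by
      intro x hx
      rw [Ideal.mem_comap, Ideal.Quotient.eq_zero_iff_mem.2 hx]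
      exact J.zero_mem
    have haq : a ≤ J.comap (Ideal.Quotient.mk p.asIdeal) := by
      intro x hx
      rw [Ideal.mem_comap]
      exact hJle (Ideal.mem_map_of_mem _ (le_sup_left (a := a) hx))
    have hmap : (J.comap (Ideal.Quotient.mk p.asIdeal)).map (Ideal.Quotient.mk p.asIdeal) = J :=
      Ideal.map_comap_of_surjective _ Ideal.Quotient.mk_surjective J
    exact finDimRel_le_depth_add_height a b M h p.asIdeal (J.comap (Ideal.Quotient.mk p.asIdeal))
      hpq haq hbp (by rw [hmap]; exact hJht)

end Groth.Agent.Lib.Helper41.LC
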