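import Groth.Agent.Lib.Helper41.GorLoc
import Groth.Agent.Lib.Helper41.LCAdjDepth
import Groth.Agent.S11614
import Groth.Agent.S0342
import Groth.Agent.S0345

/-!
# Transfer of the Gorenstein core lemma to quotient rings
-/

set_option autoImplicit false
universe u
open CategoryTheory CategoryTheory.Abelian IsLocalRing

namespace Groth.Agent.Lib.Helper41.GorTransfer

open Groth.Agent.Lib.Helper41

section Quot

variable {R A : Type u} [CommRing R] [CommRing A] (π : R →+* A) (hπ : Function.Surjective π)

/-- `R/π⁻¹p ≃ A/p`. -/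
noncomputable def quotEquiv (p : Ideal A) : R ⧸ p.comap π ≃+* A ⧸ p :=
  (Ideal.quotEquivOfEq (by
    rw [← RingHom.comap_ker, Ideal.mk_ker] :
      p.comap π = RingHom.ker ((Ideal.Quotient.mk p).comp π))).trans
    (RingHom.quotientKerEquivOfSurjective
      (f := (Ideal.Quotient.mk p).comp π) (Ideal.Quotient.mk_surjective.comp hπ))

theorem quotEquiv_mk (p : Ideal A) (r : R) :
    quotEquiv π hπ p (Ideal.Quotient.mk _ r) = Ideal.Quotient.mk p (π r) := rfl

include hπ in
theorem ringKrullDim_quotient_comap (p : Ideal A) :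
    ringKrullDim (R ⧸ p.comap π) = ringKrullDim (A ⧸ p) :=
  ringKrullDim_eq_of_ringEquiv (quotEquiv π hπ p)

include hπ in
theorem height_map_mk_comap (p p' : Ideal A) :
    ((p'.comap π).map (Ideal.Quotient.mk (p.comap π))).height =
      (p'.map (Ideal.Quotient.mk p)).height := by
  rw [← RingEquiv.height_map (quotEquiv π hπ p)]
  congr 1
  have h1 : ((quotEquiv π hπ p : R ⧸ p.comap π →+* A ⧸ p)).comp (Ideal.Quotient.mk (p.comap π)) =
      (Ideal.Quotient.mk p).comp π := by
    ext r
    rfl
  change Ideal.map (quotEquiv π hπ p : R ⧸ p.comap π →+* A ⧸ p) _ = _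
  rw [Ideal.map_map, h1, ← Ideal.map_map, Ideal.map_comap_of_surjective π hπ]

end Quot

section Transfer

variable (R A : Type u) [CommRing R] [IsNoetherianRing R] [CommRing A] [IsNoetherianRing A]
  [Algebra R A] (hπ : Function.Surjective (algebraMap R A)) (M : Type u) [AddCommGroup M]
  [Module A M] [Module R M] [IsScalarTower R A M]

include hπ in
theorem lz_iff (p : Ideal A) [p.IsPrime] (j : ℕ) :
    LC.LZ p (LocCoh.H p j M) ↔
      LC.LZ (p.comap (algebraMap R A)) (LocCoh.H (p.comap (algebraMap R A)) j M) := by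
  obtain ⟨φ, hφ⟩ := Groth.Agent.S11614.result R A (p.comap (algebraMap R A)) M j
  have hmap : Ideal.map (algebraMap R A) (p.comap (algebraMap R A)) = p :=
    Ideal.map_comap_of_surjective _ hπ p
  revert φ
  rw [hmap]
  intro φ hφ
  constructor
  · intro h y
    obtain ⟨x, rfl⟩ := φ.surjective y
    obtain ⟨a, ha, hax⟩ := h x
    obtain ⟨r, rfl⟩ := hπ a
    refine ⟨r, fun hr => ha hr, ?_⟩
    rw [← hφ, hax, map_zero]
  · intro h x
    obtain ⟨r, hr, hrx⟩ := h (φ x)
    refine ⟨algebraMap R A r, fun h' => hr h', ?_⟩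
    apply φ.injective
    rw [hφ, hrx, map_zero]

include hπ in
theorem subsingleton_H_iff_comap (p : Ideal A) [p.IsPrime] (j : ℕ) :
    Subsingleton (LocCoh.H (maximalIdeal (Localization.AtPrime p)) j
      (LocalizedModule p.primeCompl M)) ↔
    Subsingleton (LocCoh.H (maximalIdeal (Localization.AtPrime (p.comap (algebraMap R A)))) j
      (LocalizedModule (p.comap (algebraMap R A)).primeCompl M)) := by
  rw [← LC.lz_H_iff, ← LC.lz_H_iff]
  exact lz_iff R A hπ M p j

end Transfer

section Core

variable (R A : Type u) [CommRing R] [LocCoh.IsGorensteinRing R] [CommRing A] [IsNoetherianRing A]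
  [Algebra R A] (hπ : Function.Surjective (algebraMap R A)) (M : Type u) [AddCommGroup M]
  [Module A M] [Module R M] [IsScalarTower R A M] [Module.Finite A M]

include hπ in
theorem finite_of_surjective : Module.Finite R M := by
  have : Module.Finite R A := Module.Finite.of_surjective (Algebra.linearMap R A) hπ
  exact Module.Finite.trans A M

include hπ in
/-- **Core lemma over a quotient of a Gorenstein ring.** -/
theorem subsingleton_H_of_le (p p' : Ideal A) [p.IsPrime] [p'.IsPrime] (hpp' : p ≤ p') (k : ℕ)
    (hk : (p'.map (Ideal.Quotient.mk p)).height = k) (j : ℕ)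
    (hsub : Subsingleton (LocCoh.H (maximalIdeal (Localization.AtPrime p')) (j + k)
      (LocalizedModule p'.primeCompl M))) :
    Subsingleton (LocCoh.H (maximalIdeal (Localization.AtPrime p)) j
      (LocalizedModule p.primeCompl M)) := by
  have hfin : Module.Finite R M := finite_of_surjective R A hπ M
  have hPP' : p.comap (algebraMap R A) ≤ p'.comap (algebraMap R A) := Ideal.comap_mono hpp'
  have hCM : LocCoh.IsCohenMacaulayRing R :=
    Groth.Agent.S18865.isCohenMacaulayRing_of_isGorensteinRing R
  have hq : ((p'.comap (algebraMap R A)).map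
      (Ideal.Quotient.mk (p.comap (algebraMap R A)))).IsPrime :=
    Ideal.map_isPrime_of_surjective Ideal.Quotient.mk_surjective (by rw [Ideal.mk_ker]; exact hPP')
  have h1 := Groth.Agent.Lib.Helper33.Unmixed.height_comap_eq_add R (p.comap (algebraMap R A))
    ((p'.comap (algebraMap R A)).map (Ideal.Quotient.mk (p.comap (algebraMap R A))))
  have h2 : ((p'.comap (algebraMap R A)).map
      (Ideal.Quotient.mk (p.comap (algebraMap R A)))).comap
        (Ideal.Quotient.mk (p.comap (algebraMap R A))) = p'.comap (algebraMap R A) := by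
    rw [Ideal.comap_map_of_surjective _ Ideal.Quotient.mk_surjective, ← RingHom.ker_eq_comap_bot,
      Ideal.mk_ker, sup_eq_left.mpr hPP']
  have h3 := height_map_mk_comap (algebraMap R A) hπ p p'
  rw [h2, h3, hk] at h1
  obtain ⟨h, hh⟩ := ENat.ne_top_iff_exists.mp
    (Ideal.height_ne_top_of_isPrime (I := p.comap (algebraMap R A)))
  rw [subsingleton_H_iff_comap R A hπ M p j]
  rw [subsingleton_H_iff_comap R A hπ M p' (j + k)] at hsub
  refine GorLoc.subsingleton_H_of_le R M _ _ hPP' h k hh.symm ?_ j hsub
  rw [h1, ← hh]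
  push_cast
  rfl

end Core

end Groth.Agent.Lib.Helper41.GorTransfer
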