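import Groth.Agent.Lib.Helper41.LC0
import Mathlib.Algebra.Module.Injective
import Mathlib.Algebra.Category.ModuleCat.Injective
import Mathlib.Algebra.Category.ModuleCat.EnoughInjectives
import Mathlib.RingTheory.Filtration

/-!
# Power-torsion modules: `Γ_I` of an injective is injective (Noetherian case) and
# vanishing of higher local cohomology on torsion modules
-/

set_option autoImplicit false
universe u
open CategoryTheory CategoryTheory.Limits Opposite CategoryTheory.Abelian

namespace Groth.Agent.Lib.Helper41.LC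

variable {R : Type u} [CommRing R] (I : Ideal R)

/-- The `I`-power-torsion submodule. -/
def powTorsion (M : Type u) [AddCommGroup M] [Module R M] : Submodule R M where
  carrier := {m | ∃ n : ℕ, ∀ a ∈ I ^ n, a • m = 0}
  zero_mem' := ⟨0, fun a _ => smul_zero a⟩
  add_mem' := by
    rintro m m' ⟨n, hn⟩ ⟨n', hn'⟩
    refine ⟨n + n', fun a ha => ?_⟩
    rw [smul_add, hn a (Ideal.pow_le_pow_right (Nat.le_add_right n n') ha),
      hn' a (Ideal.pow_le_pow_right (Nat.le_add_left n' n) ha), add_zero]
  smul_mem' := by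
    rintro c m ⟨n, hn⟩
    exact ⟨n, fun a ha => by rw [smul_comm, hn a ha, smul_zero]⟩

lemma mem_powTorsion_iff {M : Type u} [AddCommGroup M] [Module R M] (m : M) :
    m ∈ powTorsion I M ↔ ∃ n : ℕ, ∀ a ∈ I ^ n, a • m = 0 := Iff.rfl

/-- `M` is `I`-power torsion. -/
def IsTorsion (M : Type u) [AddCommGroup M] [Module R M] : Prop :=
  ∀ m : M, ∃ n : ℕ, ∀ a ∈ I ^ n, a • m = 0

lemma isTorsion_powTorsion (M : Type u) [AddCommGroup M] [Module R M] : IsTorsion I (powTorsion I M) := by
  rintro ⟨m, n, hn⟩
  exact ⟨n, fun a ha => Subtype.ext (hn a ha)⟩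

lemma IsTorsion.of_surjective {M N : Type u} [AddCommGroup M] [Module R M] [AddCommGroup N] [Module R N]
    (hM : IsTorsion I M) (f : M →ₗ[R] N) (hf : Function.Surjective f) : IsTorsion I N := by
  intro y
  obtain ⟨x, rfl⟩ := hf y
  obtain ⟨n, hn⟩ := hM x
  exact ⟨n, fun a ha => by rw [← map_smul, hn a ha, map_zero]⟩

lemma IsTorsion.of_injective {M N : Type u} [AddCommGroup M] [Module R M] [AddCommGroup N] [Module R N]
    (hN : IsTorsion I N) (f : M →ₗ[R] N) (hf : Function.Injective f) : IsTorsion I M := by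
  intro x
  obtain ⟨n, hn⟩ := hN (f x)
  exact ⟨n, fun a ha => hf (by rw [map_smul, hn a ha, map_zero])⟩

lemma exists_pow_smul_eq_zero_of_fg {N : Type u} [AddCommGroup N] [Module R N]
    (hN : IsTorsion I N) (S : Submodule R N) (hS : S.FG) :
    ∃ k : ℕ, ∀ a ∈ I ^ k, ∀ y ∈ S, a • y = 0 := by
  induction S, hS using Submodule.fg_induction with
  | singleton y =>
    obtain ⟨k, hk⟩ := hN y
    refine ⟨k, fun a ha z hz => ?_⟩
    obtain ⟨r, rfl⟩ := Submodule.mem_span_singleton.mp hz
    rw [smul_comm, hk a ha, smul_zero]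
  | sup S₁ S₂ _ _ h₁ h₂ =>
    obtain ⟨k₁, hk₁⟩ := h₁
    obtain ⟨k₂, hk₂⟩ := h₂
    refine ⟨k₁ + k₂, fun a ha z hz => ?_⟩
    obtain ⟨y₁, hy₁, y₂, hy₂, rfl⟩ := Submodule.mem_sup.mp hz
    rw [smul_add, hk₁ a (Ideal.pow_le_pow_right (Nat.le_add_right _ _) ha) y₁ hy₁,
      hk₂ a (Ideal.pow_le_pow_right (Nat.le_add_left _ _) ha) y₂ hy₂, add_zero]

/-- Artin–Rees consequence: for an ideal `J` of a Noetherian ring and `n`, some `I^k ⊓ J ≤ I^n * J`. -/
lemma exists_pow_inf_le_pow_mul [IsNoetherianRing R] (J : Ideal R) (n : ℕ) :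
    ∃ k : ℕ, I ^ k ⊓ J ≤ I ^ n * J := by
  obtain ⟨c, hc⟩ := Ideal.exists_pow_inf_eq_pow_smul I (M := R) J
  refine ⟨n + c, ?_⟩
  have h := hc (n + c) (Nat.le_add_left c n)
  have e1 : ∀ k : ℕ, (I ^ k • (⊤ : Submodule R R)) = I ^ k := fun k => by
    rw [smul_eq_mul, Ideal.mul_top]
  rw [e1, e1, Nat.add_sub_cancel] at h
  rw [h, smul_eq_mul]
  exact Ideal.mul_mono_right inf_le_right

/-- Over a Noetherian ring, the `I`-power-torsion submodule of an injective module satisfies Baer's criterion. -/
theorem baer_powTorsion [IsNoetherianRing R] (E : Type u) [AddCommGroup E] [Module R E] [Module.Injective R E] :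
    Module.Baer R (powTorsion I E) := by
  intro J g
  -- bound for the torsion of g(J)
  obtain ⟨n, hn⟩ := exists_pow_smul_eq_zero_of_fg I (isTorsion_powTorsion I E) (LinearMap.range g)
    (by
      have : (⊤ : Submodule R J).FG := Module.finite_def.1 inferInstance
      rw [LinearMap.range_eq_map]
      exact this.map g)
  obtain ⟨k, hk⟩ := exists_pow_inf_le_pow_mul I J n
  -- g kills I^k ⊓ J
  have hkill : ∀ (x : R) (hxJ : x ∈ J), x ∈ I ^ k → g ⟨x, hxJ⟩ = 0 := by
    intro x hxJ hxK
    have hx : x ∈ I ^ n * J := hk ⟨hxK, hxJ⟩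
    have key : ∀ y ∈ I ^ n * J, ∃ hy : y ∈ J, g ⟨y, hy⟩ = 0 := by
      intro y hy
      refine Submodule.mul_induction_on hy ?_ ?_
      · intro a ha b hb
        refine ⟨J.mul_mem_left a hb, ?_⟩
        have : (⟨a * b, J.mul_mem_left a hb⟩ : J) = a • ⟨b, hb⟩ := rfl
        rw [this, map_smul]
        exact hn a ha _ ⟨_, rfl⟩
      · rintro y z ⟨hyJ, hy0⟩ ⟨hzJ, hz0⟩
        refine ⟨J.add_mem hyJ hzJ, ?_⟩
        have : (⟨y + z, J.add_mem hyJ hzJ⟩ : J) = ⟨y, hyJ⟩ + ⟨z, hzJ⟩ := rfl
        rw [this, map_add, hy0, hz0, add_zero]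
    obtain ⟨_, h0⟩ := key x hx
    exact h0
  -- extend through R/I^k
  let K : Ideal R := I ^ k
  let p : Submodule R J := Submodule.comap J.subtype K
  let gbar : (J ⧸ p) →ₗ[R] E := p.liftQ ((powTorsion I E).subtype ∘ₗ g) (by
    intro x hx
    rw [LinearMap.mem_ker, LinearMap.comp_apply]
    have : g x = 0 := hkill x.1 x.2 hx
    rw [this, map_zero])
  let f : (J ⧸ p) →ₗ[R] (R ⧸ K) := p.mapQ K J.subtype le_rfl
  have hf : Function.Injective f := by
    rw [injective_iff_map_eq_zero]
    intro x hx
    obtain ⟨y, rfl⟩ := Submodule.Quotient.mk_surjective _ x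
    rw [Submodule.mapQ_apply, Submodule.Quotient.mk_eq_zero] at hx
    rw [Submodule.Quotient.mk_eq_zero]
    exact hx
  obtain ⟨h, hh⟩ := Module.Injective.out f hf gbar
  refine ⟨LinearMap.codRestrict (powTorsion I E) (h ∘ₗ K.mkQ) (fun r => ⟨k, fun a ha => ?_⟩), ?_⟩
  · rw [LinearMap.comp_apply, ← map_smul, ← map_smul, smul_eq_mul]
    have : K.mkQ (a * r) = 0 := by
      rw [Submodule.mkQ_apply, Submodule.Quotient.mk_eq_zero]
      exact K.mul_mem_right r ha
    rw [this, map_zero]
  · intro x hx
    apply Subtype.ext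
    rw [LinearMap.codRestrict_apply, LinearMap.comp_apply]
    have h1 : K.mkQ x = f (Submodule.Quotient.mk ⟨x, hx⟩) := rfl
    rw [h1, hh]
    rfl

/-- Over a Noetherian ring, `Γ_I(E)` is an injective object when `E` is. -/
theorem injective_powTorsion [IsNoetherianRing R] (E : ModuleCat.{u} R) [Injective E] :
    Injective (ModuleCat.of R (powTorsion I E)) := by
  have : Module.Injective R E := Module.injective_module_of_injective_object R E
  have := (baer_powTorsion I E).injective
  exact Module.injective_object_of_injective_module R (powTorsion I E)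

/-- A torsion module embeds in a torsion injective module (Noetherian case). -/
theorem exists_torsion_injective_embedding [IsNoetherianRing R] (M : ModuleCat.{u} R) (hM : IsTorsion I M) :
    ∃ (E : ModuleCat.{u} R) (_ : Injective E) (_ : IsTorsion I E) (f : M ⟶ E), Mono f := by
  let E₀ := Injective.under M
  let ι₀ : M ⟶ E₀ := Injective.ι M
  have hι : Function.Injective ι₀.hom := (ModuleCat.mono_iff_injective _).1 inferInstance
  refine ⟨ModuleCat.of R (powTorsion I E₀), injective_powTorsion I E₀, isTorsion_powTorsion I E₀,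
    ModuleCat.ofHom (LinearMap.codRestrict (powTorsion I E₀) ι₀.hom (fun m => ?_)), ?_⟩
  · obtain ⟨n, hn⟩ := hM m
    exact ⟨n, fun a ha => by rw [← map_smul, hn a ha, map_zero]⟩
  · rw [ModuleCat.mono_iff_injective]
    intro x y hxy
    apply hι
    exact congrArg Subtype.val hxy

/-- The short exact sequence `0 → M → E → coker → 0` of a monomorphism. -/
lemma shortExact_of_mono {M E : ModuleCat.{u} R} (f : M ⟶ E) [Mono f] :
    (ShortComplex.mk f (cokernel.π f) (cokernel.condition f)).ShortExact where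
  exact := ShortComplex.exact_of_g_is_cokernel _ (cokernelIsCokernel f)

/-- `H^0_I(E) → H^0_I(E'')` is surjective when `E → E''` is surjective and `E` is torsion. -/
lemma map_surjective_zero_of_torsion {E E'' : ModuleCat.{u} R} (g : E ⟶ E'') (hg : Function.Surjective g.hom)
    (hE : IsTorsion I E) : Function.Surjective ((localCohomology I 0).map g).hom := by
  intro y
  obtain ⟨z, hz⟩ := hg (toMod I E'' y)
  obtain ⟨x, hx⟩ := (mem_range_toMod_iff I E z).2 (hE z)
  refine ⟨x, toMod_injective I E'' ?_⟩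
  rw [toMod_naturality, hx, hz]

/-- Over a Noetherian ring, higher local cohomology of an `I`-power-torsion module vanishes. -/
theorem subsingleton_of_isTorsion [IsNoetherianRing R] (i : ℕ) (hi : 0 < i) :
    ∀ (M : ModuleCat.{u} R), IsTorsion I M → Subsingleton ((localCohomology I i).obj M) := by
  induction i using Nat.strong_induction_on with
  | _ i ih =>
    intro M hM
    obtain ⟨E, hEinj, hEtor, f, hf⟩ := exists_torsion_injective_embedding I M hM
    have hS := shortExact_of_mono f
    set S := ShortComplex.mk f (cokernel.π f) (cokernel.condition f) with hSdef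
    have hπ : Function.Surjective (cokernel.π f).hom := (ModuleCat.epi_iff_surjective _).1 inferInstance
    have hCtor : IsTorsion I ↑(cokernel f) := hEtor.of_surjective I (cokernel.π f).hom hπ
    obtain ⟨j, rfl⟩ : ∃ j, i = j + 1 := ⟨i - 1, by omega⟩
    have hE0 : Subsingleton ((localCohomology I (j + 1)).obj E) :=
      subsingleton_of_injective I E (j + 1) (by omega)
    refine ⟨fun x y => ?_⟩
    have key : ∀ x : (localCohomology I (j + 1)).obj M, x = 0 := by
      intro x
      have hx0 : ((localCohomology I (j + 1)).map S.f).hom x = 0 := Subsingleton.elim _ _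
      obtain ⟨x₃, hx₃⟩ := exact₁ I hS j (j + 1) rfl x hx0
      by_cases hj : j = 0
      · subst hj
        obtain ⟨x₂, rfl⟩ := map_surjective_zero_of_torsion I (cokernel.π f) hπ hEtor x₃
        rw [← hx₃]
        exact δ_map_eq_zero I hS 0 1 rfl x₂
      · have : Subsingleton ((localCohomology I j).obj (cokernel f)) :=
          ih j (by omega) (by omega) (cokernel f) hCtor
        have hx30 : x₃ = 0 := Subsingleton.elim _ _
        rw [← hx₃, hx30, map_zero]
    rw [key x, key y]

/-- The short complex `0 → P → N → N/P → 0` of a submodule. -/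
noncomputable def subQuotSC {N : Type u} [AddCommGroup N] [Module R N] (P : Submodule R N) :
    ShortComplex (ModuleCat.{u} R) :=
  ShortComplex.mk (ModuleCat.ofHom P.subtype) (ModuleCat.ofHom P.mkQ) (by
    ext x
    simp)

lemma subQuotSC_shortExact {N : Type u} [AddCommGroup N] [Module R N] (P : Submodule R N) :
    (subQuotSC P).ShortExact := by
  apply ModuleCat.shortComplex_shortExact
  · intro y
    change P.mkQ y = 0 ↔ y ∈ Set.range P.subtype
    rw [Submodule.mkQ_apply, Submodule.Quotient.mk_eq_zero]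
    constructor
    · intro hy
      exact ⟨⟨y, hy⟩, rfl⟩
    · rintro ⟨z, rfl⟩
      exact z.2
  · exact P.injective_subtype
  · exact P.mkQ_surjective

section Consequences

variable {S : ShortComplex (ModuleCat.{u} R)} (hS : S.ShortExact)

include hS in
/-- If `H^i(X₁) = 0` then `H^i(X₂) → H^i(X₃)` is injective. -/
lemma map_g_injective_of_subsingleton (i : ℕ) (h1 : Subsingleton ((localCohomology I i).obj S.X₁)) :
    Function.Injective ((localCohomology I i).map S.g).hom := by
  rw [injective_iff_map_eq_zero]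
  intro x hx
  obtain ⟨x₁, rfl⟩ := exact₂ I hS i x hx
  rw [Subsingleton.elim x₁ 0, map_zero]

include hS in
/-- If `H^{i+1}(X₁) = 0` then `H^i(X₂) → H^i(X₃)` is surjective. -/
lemma map_g_surjective_of_subsingleton (i : ℕ) (h1 : Subsingleton ((localCohomology I (i + 1)).obj S.X₁)) :
    Function.Surjective ((localCohomology I i).map S.g).hom := by
  intro x₃
  exact exact₃ I hS i (i + 1) rfl x₃ (Subsingleton.elim _ _)

include hS in
/-- If `H^i(X₃) = 0` then `H^i(X₁) → H^i(X₂)` is surjective. -/
lemma map_f_surjective_of_subsingleton (i : ℕ) (h3 : Subsingleton ((localCohomology I i).obj S.X₃)) :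
    Function.Surjective ((localCohomology I i).map S.f).hom := by
  intro x₂
  exact exact₂ I hS i x₂ (Subsingleton.elim _ _)

include hS in
/-- If `H^i(X₃) = 0` then `H^{i+1}(X₁) → H^{i+1}(X₂)` is injective. -/
lemma map_f_injective_of_subsingleton (i : ℕ) (h3 : Subsingleton ((localCohomology I i).obj S.X₃)) :
    Function.Injective ((localCohomology I (i + 1)).map S.f).hom := by
  rw [injective_iff_map_eq_zero]
  intro x hx
  obtain ⟨x₃, rfl⟩ := exact₁ I hS i (i + 1) rfl x hx
  rw [Subsingleton.elim x₃ 0, map_zero]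

/-- If `H^i(X₂) = 0 = H^{i+1}(X₂)` then `δ : H^i(X₃) → H^{i+1}(X₁)` is bijective. -/
lemma δ_bijective_of_subsingleton (i : ℕ) (h2 : Subsingleton ((localCohomology I i).obj S.X₂))
    (h2' : Subsingleton ((localCohomology I (i + 1)).obj S.X₂)) :
    Function.Bijective (δ I hS i (i + 1) rfl) := by
  constructor
  · rw [injective_iff_map_eq_zero]
    intro x hx
    obtain ⟨x₂, rfl⟩ := exact₃ I hS i (i + 1) rfl x hx
    rw [Subsingleton.elim x₂ 0, map_zero]
  · intro x₁
    exact exact₁ I hS i (i + 1) rfl x₁ (Subsingleton.elim _ _)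

end Consequences

end Groth.Agent.Lib.Helper41.LC
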