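import Groth.Agent.Lib.Helper41.LCFinDim
import Groth.Agent.Lib.Helper41.LCTorsion

/-!
# Uniform exponent for local `b`-torsion of a finite module

For a finite module `Y` over a Noetherian ring and an ideal `b` there is a single `N` such that for
every prime `p` for which `Y_p` is supported in `V(b)`, `b^N` kills `Y_p`.
-/

set_option autoImplicit false
universe u

namespace Groth.Agent.Lib.Helper41.UniformTors

open Groth.Agent.Lib.Helper41.LC

variable {R : Type u} [CommRing R] [IsNoetherianRing R]

theorem exists_uniform_pow (Y : Type u) [AddCommGroup Y] [Module R Y] [Module.Finite R Y]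
    (b : Ideal R) :
    ∃ N : ℕ, ∀ (p : Ideal R) [p.IsPrime],
      (∀ (p' : Ideal R) [p'.IsPrime], p' ≤ p → ¬ b ≤ p' → LZ p' Y) →
      ∀ β ∈ b ^ N, ∀ y : Y, ∃ s, s ∉ p ∧ (s * β) • y = 0 := by
  have hfin : Module.Finite R (powTorsion b Y) := inferInstance
  obtain ⟨N, hN⟩ := exists_pow_smul_eq_zero_of_fg b (isTorsion_powTorsion b Y)
    (⊤ : Submodule R (powTorsion b Y)) Module.Finite.fg_top
  have hkill : ∀ a ∈ b ^ N, ∀ z ∈ powTorsion b Y, a • z = 0 := by
    intro a ha z hz
    have := hN a ha ⟨z, hz⟩ Submodule.mem_top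
    exact congrArg Subtype.val this
  refine ⟨N, fun p _ hp β hβ y => ?_⟩
  have claim : ∃ s, s ∉ p ∧ s • y ∈ powTorsion b Y := by
    by_contra hcon
    push Not at hcon
    have hle : (powTorsion b Y).colon {y} ≤ p := by
      intro r hr
      by_contra hrp
      exact hcon r hrp (Submodule.mem_colon_singleton.mp hr)
    obtain ⟨P, hPmin, hPp⟩ := Ideal.exists_minimalPrimes_le hle
    obtain ⟨y', hy'⟩ := Submodule.exists_eq_colon_of_mem_minimalPrimes hPmin
    haveI : P.IsPrime := hPmin.1.1
    have hbP : ¬ b ≤ P := by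
      intro hbP
      have hy'T : y' ∈ powTorsion b Y := by
        refine ⟨N + 1, fun a ha => ?_⟩
        rw [pow_succ] at ha
        refine Submodule.mul_induction_on ha ?_ ?_
        · intro r hr s hs
          have hs' : s ∈ (powTorsion b Y).colon {y'} := hy' ▸ hbP hs
          rw [Submodule.mem_colon_singleton] at hs'
          rw [mul_smul]
          exact hkill r hr _ hs'
        · intro x z hx hz
          rw [add_smul, hx, hz, add_zero]
      apply (inferInstance : P.IsPrime).ne_top
      rw [hy', Ideal.eq_top_iff_one, Submodule.mem_colon_singleton, one_smul]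
      exact hy'T
    obtain ⟨s, hsP, hs0⟩ := hp P hPp hbP y'
    apply hsP
    rw [hy', Submodule.mem_colon_singleton, hs0]
    exact Submodule.zero_mem _
  obtain ⟨s, hsp, hsT⟩ := claim
  refine ⟨s, hsp, ?_⟩
  rw [mul_comm, mul_smul]
  exact hkill β hβ _ hsT

end Groth.Agent.Lib.Helper41.UniformTors
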