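import Groth.Agent.Lib.Helper41.GorLocB
import Groth.Agent.Lib.Helper41.UniformTors
import Groth.Agent.Lib.Helper41.Coniveau
import Groth.Agent.Lib.Helper41.GorTransfer
import Mathlib.Algebra.Category.ModuleCat.Ext.Finite

/-!
# Faltings' annihilator theorem over a Gorenstein ring (for modules with bounded `Ext(M,R)`)
-/

set_option autoImplicit false
universe u
open CategoryTheory CategoryTheory.Abelian IsLocalRing

namespace Groth.Agent.Lib.Helper41.FaltingsGor

open Groth.Agent.Lib.Helper41

variable (R : Type u) [CommRing R] [LocCoh.IsGorensteinRing R]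

/-- Heights are additive along `p' ≤ p` in a Gorenstein ring. -/
theorem height_eq_add (p' p : Ideal R) [p'.IsPrime] [p.IsPrime] (h : p' ≤ p) :
    p.height = p'.height + (p.map (Ideal.Quotient.mk p')).height := by
  have hCM : LocCoh.IsCohenMacaulayRing R :=
    Groth.Agent.S18865.isCohenMacaulayRing_of_isGorensteinRing R
  have hq : (p.map (Ideal.Quotient.mk p')).IsPrime :=
    Ideal.map_isPrime_of_surjective Ideal.Quotient.mk_surjective (by rw [Ideal.mk_ker]; exact h)
  have h1 := Groth.Agent.Lib.Helper33.Unmixed.height_comap_eq_add R p'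
    (p.map (Ideal.Quotient.mk p'))
  have h2 : (p.map (Ideal.Quotient.mk p')).comap (Ideal.Quotient.mk p') = p := by
    rw [Ideal.comap_map_of_surjective _ Ideal.Quotient.mk_surjective, ← RingHom.ker_eq_comap_bot,
      Ideal.mk_ker, sup_eq_left.mpr h]
  rw [h2] at h1
  exact h1

variable (M : Type u) [AddCommGroup M] [Module R M] [Module.Finite R M]

/-- **Faltings' annihilator theorem, Gorenstein form.** -/
theorem le_radical_annihilator (B : ℕ)
    (hB : ∀ q, B < q → Subsingleton (Ext.{u} (ModuleCat.of R M) (ModuleCat.of R R) q))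
    (a b : Ideal R) (i : ℕ)
    (hyp : ∀ (p p' : Ideal R) [p.IsPrime] [p'.IsPrime], p' ≤ p → a ≤ p → ¬ b ≤ p' → ∀ j k : ℕ,
      (p.map (Ideal.Quotient.mk p')).height = k → j + k = i →
      Subsingleton (LocCoh.H (maximalIdeal (Localization.AtPrime p')) j
        (LocalizedModule p'.primeCompl M))) :
    b ≤ (Module.annihilator R (LocCoh.H a i M)).radical := by
  -- uniform exponents
  choose Nq hNq using fun q : ℕ => UniformTors.exists_uniform_pow
    (Ext.{u} (ModuleCat.of R M) (ModuleCat.of R R) q) b
  let N : ℕ := (Finset.range (B + 1)).sup Nq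
  have hN : ∀ q, q ≤ B → Nq q ≤ N := fun q hq =>
    Finset.le_sup (f := Nq) (Finset.mem_range.mpr (Nat.lt_succ_of_le hq))
  -- vanishing above `i + B`
  have H1 : ∀ (p : Ideal R) [p.IsPrime], ((i + B : ℕ) : ℕ∞) < p.height →
      Subsingleton (LocCoh.H (maximalIdeal (Localization.AtPrime p)) i
        (LocalizedModule p.primeCompl M)) := by
    intro p _ hp
    obtain ⟨h, hh⟩ := ENat.ne_top_iff_exists.mp (Ideal.height_ne_top_of_isPrime (I := p))
    rw [← hh] at hp
    have hlt : i + B < h := by exact_mod_cast hp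
    rw [GorLoc.subsingleton_H_atPrime_iff R M p h hh.symm i (by omega)]
    intro e
    haveI := hB (h - i) (by omega)
    exact ⟨1, Submonoid.one_mem _, Subsingleton.elim _ _⟩
  -- uniform annihilation at primes containing `a`
  have H2 : ∀ (p : Ideal R) [p.IsPrime], a ≤ p → ∀ β ∈ b ^ N, Coniveau.KillAt M i p β := by
    intro p _ hap β hβ x
    obtain ⟨h, hh⟩ := ENat.ne_top_iff_exists.mp (Ideal.height_ne_top_of_isPrime (I := p))
    rcases Nat.lt_or_ge h i with hlt | hge
    · haveI := GorLoc.subsingleton_H_atPrime_of_gt R M p h hh.symm i hlt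
      exact Subsingleton.elim _ _
    apply GorLocB.smul_H_atPrime_eq_zero R M p h hh.symm i hge β
    intro e
    rcases Nat.lt_or_ge B (h - i) with hq | hq
    · haveI := hB (h - i) hq
      exact ⟨1, Submonoid.one_mem _, Subsingleton.elim _ _⟩
    have hβ' : β ∈ b ^ Nq (h - i) := Ideal.pow_le_pow_right (hN _ hq) hβ
    obtain ⟨s, hs, hs0⟩ := hNq (h - i) p (fun p' _ hp'p hbp' => by
      -- `Ext^{h-i}(M,R)` is locally zero at `p'`
      obtain ⟨h', hh'⟩ := ENat.ne_top_iff_exists.mp (Ideal.height_ne_top_of_isPrime (I := p'))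
      have hT : ExtLoc.TorsExt p'.primeCompl R (h - i) M := by
        rcases Nat.lt_or_ge h' (h - i) with hlt' | hge'
        · exact GorLoc.torsExt_of_gt R M p' h' hh'.symm (h - i) hlt'
        · -- `j = h' - (h - i)`, `k = h - h'`
          have hadd := height_eq_add R p' p hp'p
          obtain ⟨k, hk⟩ : ∃ k : ℕ, (p.map (Ideal.Quotient.mk p')).height = k := by
            have hq : (p.map (Ideal.Quotient.mk p')).IsPrime :=
              Ideal.map_isPrime_of_surjective Ideal.Quotient.mk_surjective
                (by rw [Ideal.mk_ker]; exact hp'p)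
            obtain ⟨k, hk⟩ := ENat.ne_top_iff_exists.mp
              (Ideal.height_ne_top_of_isPrime (I := p.map (Ideal.Quotient.mk p')))
            exact ⟨k, hk.symm⟩
          rw [hk, ← hh, ← hh'] at hadd
          have hadd' : h = h' + k := by exact_mod_cast hadd
          have hsub := hyp p p' hp'p hap hbp' (h' - (h - i)) k hk (by omega)
          have := (GorLoc.subsingleton_H_atPrime_iff R M p' h' hh'.symm (h' - (h - i))
            (Nat.sub_le _ _)).mp hsub
          rwa [Nat.sub_sub_self hge'] at this
      intro y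
      obtain ⟨s, hs, hs0⟩ := hT y
      exact ⟨s, hs, hs0⟩) β hβ' e
    exact ⟨s, hs, hs0⟩
  -- coniveau induction
  have key := Coniveau.kill_of_height M i b a N (i + B) H1 H2 a le_rfl (i + B + 1) (by
    push_cast
    exact le_add_self)
  intro β hβ
  refine ⟨N * (i + B + 1), ?_⟩
  rw [Module.mem_annihilator]
  exact key _ (Ideal.pow_mem_pow hβ _)

end Groth.Agent.Lib.Helper41.FaltingsGor
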