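import Groth.Agent.Lib.Helper41.FinCrit
import Groth.Agent.Lib.Helper41.FaltingsGor
import Groth.Agent.Lib.Helper29.SuppLoc

/-!
# Auxiliary facts for the Cohen–Macaulay form of the finiteness criterion
-/

set_option autoImplicit false
universe u
open CategoryTheory CategoryTheory.Limits Opposite CategoryTheory.Abelian

namespace Groth.Agent.Lib.Helper41.CMFin

open Groth.Agent.Lib.Helper41 Groth.Agent.Lib.Helper41.LC

section Depth

variable {A : Type u} [CommRing A] [IsNoetherianRing A]

/-- An associated prime `p` of `M` makes `H^0_p(M)` not locally zero at `p`. -/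
theorem not_lz_of_mem_associatedPrimes (p : Ideal A) [p.IsPrime] (M : Type u)
    [AddCommGroup M] [Module A M] (h : p ∈ associatedPrimes A M) : ¬ LZ p (LocCoh.H p 0 M) := by
  intro hlz
  obtain ⟨-, m, hm⟩ := (isAssociatedPrime_iff).mp h
  have hmem : m ∈ LinearMap.range (toMod p (ModuleCat.of A M)) := by
    rw [mem_range_toMod_iff]
    refine ⟨1, fun a ha => ?_⟩
    rw [pow_one, hm, Submodule.mem_colon_singleton, Submodule.mem_bot] at ha
    exact ha
  obtain ⟨x, hx⟩ := hmem
  obtain ⟨s, hsp, hs0⟩ := hlz x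
  apply hsp
  rw [hm, Submodule.mem_colon_singleton, Submodule.mem_bot]
  have : toMod p (ModuleCat.of A M) (s • x) = 0 := by rw [hs0, map_zero]
  rw [map_smul, hx] at this
  exact this

/-- At a minimal prime of the support, the depth of the localization is zero. -/
theorem depth_eq_zero_of_mem_minimalPrimes (M : Type u) [AddCommGroup M] [Module A M]
    [Module.Finite A M] (p : Ideal A) [hp : p.IsPrime]
    (hmin : p ∈ (Module.annihilator A M).minimalPrimes) :
    LocCoh.depth (Localization.AtPrime p) (LocalizedModule p.primeCompl M) = 0 := by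
  have hass : p ∈ associatedPrimes A M :=
    Module.associatedPrimes.minimalPrimes_annihilator_subset_associatedPrimes A M hmin
  have := (depth_atPrime_eq_iff p M 0).mpr
    ⟨fun i hi => absurd hi (Nat.not_lt_zero i), not_lz_of_mem_associatedPrimes p M hass⟩
  simpa using this

omit [IsNoetherianRing A] in
theorem depth_eq_top_of_subsingleton (B : Type u) [CommRing B] [IsLocalRing B] (N : Type u)
    [AddCommGroup N] [Module B N] [Subsingleton N] : LocCoh.depth B N = ⊤ := by
  unfold LocCoh.depth LocCoh.idealDepth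
  rw [if_pos (Subsingleton.elim _ _)]

end Depth

section Supp

variable {A : Type u} [CommRing A]

/-- `ht(p/p₀) ≤ dim M_p` when `Ann M ≤ p₀ ≤ p`. -/
theorem height_le_supportDim (M : Type u) [AddCommGroup M] [Module A M] [Module.Finite A M]
    (p₀ p : PrimeSpectrum A) (h0 : Module.annihilator A M ≤ p₀.asIdeal) (hle : p₀ ≤ p) :
    ((Order.height (⟨p, hle⟩ : Set.Ici p₀) : ℕ∞) : WithBot ℕ∞) ≤
      Module.supportDim (Localization.AtPrime p.asIdeal)
        (LocalizedModule p.asIdeal.primeCompl M) := by
  rw [Order.height_eq_krullDim_Iic]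
  unfold Module.supportDim
  have hdisj : ∀ q : Set.Iic (⟨p, hle⟩ : Set.Ici p₀),
      Disjoint (p.asIdeal.primeCompl : Set A) (q.1.1.asIdeal : Set A) := by
    intro q
    rw [Set.disjoint_left]
    intro x hx hxq
    exact hx ((show q.1.1 ≤ p from q.2) hxq)
  have hcomap : ∀ q : Set.Iic (⟨p, hle⟩ : Set.Ici p₀),
      (q.1.1.asIdeal.map (algebraMap A (Localization.AtPrime p.asIdeal))).comap
        (algebraMap A (Localization.AtPrime p.asIdeal)) = q.1.1.asIdeal := fun q =>
    IsLocalization.comap_map_of_isPrime_disjoint p.asIdeal.primeCompl _ q.1.1.isPrime (hdisj q)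
  have hprime : ∀ q : Set.Iic (⟨p, hle⟩ : Set.Ici p₀),
      (q.1.1.asIdeal.map (algebraMap A (Localization.AtPrime p.asIdeal))).IsPrime := fun q =>
    IsLocalization.isPrime_of_isPrime_disjoint p.asIdeal.primeCompl _ _ q.1.1.isPrime (hdisj q)
  let g : Set.Iic (⟨p, hle⟩ : Set.Ici p₀) →
      Module.support (Localization.AtPrime p.asIdeal) (LocalizedModule p.asIdeal.primeCompl M) :=
    fun q => ⟨⟨q.1.1.asIdeal.map (algebraMap A (Localization.AtPrime p.asIdeal)), hprime q⟩, by
      rw [Groth.Agent.Lib.Helper29.SuppLoc.mem_support_iff_comap_mem_support p.asIdeal.primeCompl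
        (LocalizedModule.mkLinearMap p.asIdeal.primeCompl M)]
      rw [Module.mem_support_iff_of_finite]
      change Module.annihilator A M ≤ Ideal.comap _ _
      rw [hcomap q]
      exact h0.trans (show p₀ ≤ q.1.1 from q.1.2)⟩
  apply Order.krullDim_le_of_strictMono g
  intro q q' hqq'
  have hlt : q.1.1.asIdeal < q'.1.1.asIdeal := hqq'
  refine lt_of_le_of_ne ?_ ?_
  · exact Ideal.map_mono hlt.le
  · intro heq
    have h1 : q.1.1.asIdeal.map (algebraMap A (Localization.AtPrime p.asIdeal)) =
        q'.1.1.asIdeal.map (algebraMap A (Localization.AtPrime p.asIdeal)) :=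
      congrArg (fun z : Module.support (Localization.AtPrime p.asIdeal)
        (LocalizedModule p.asIdeal.primeCompl M) => z.1.asIdeal) heq
    have h2 := congrArg (Ideal.comap (algebraMap A (Localization.AtPrime p.asIdeal))) h1
    rw [hcomap q, hcomap q'] at h2
    exact hlt.ne h2

end Supp

section Catenary

/-- Quotients of a Gorenstein ring are catenary: heights add along `P₀ ≤ P ≤ Q`. -/
theorem height_quot_add_gor (G : Type u) [CommRing G] [LocCoh.IsGorensteinRing G]
    (P₀ P Q : Ideal G) [P₀.IsPrime] [P.IsPrime] [Q.IsPrime] (h1 : P₀ ≤ P) (h2 : P ≤ Q) :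
    (Q.map (Ideal.Quotient.mk P₀)).height =
      (Q.map (Ideal.Quotient.mk P)).height + (P.map (Ideal.Quotient.mk P₀)).height := by
  have e1 := FaltingsGor.height_eq_add G P₀ Q (h1.trans h2)
  have e2 := FaltingsGor.height_eq_add G P Q h2
  have e3 := FaltingsGor.height_eq_add G P₀ P h1
  rw [e3, e1] at e2
  have hne : P₀.height ≠ ⊤ := Ideal.height_ne_top_of_isPrime
  rw [add_assoc] at e2
  have := ENat.add_right_injective_of_ne_top hne e2
  rw [this, add_comm]

variable {R A : Type u} [CommRing R] [IsRegularRing R] [CommRing A] (π : R →+* A)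
  (hπ : Function.Surjective π)

include hπ in
/-- Quotients of a regular ring are catenary. -/
theorem height_quot_add (p₀ p q : Ideal A) [p₀.IsPrime] [p.IsPrime] [q.IsPrime] (h1 : p₀ ≤ p)
    (h2 : p ≤ q) :
    (q.map (Ideal.Quotient.mk p₀)).height =
      (q.map (Ideal.Quotient.mk p)).height + (p.map (Ideal.Quotient.mk p₀)).height := by
  haveI : LocCoh.IsGorensteinRing R :=
    ⟨fun P _ => Groth.Agent.S0342.result (Localization.AtPrime P)⟩
  rw [← GorTransfer.height_map_mk_comap π hπ p₀ q, ← GorTransfer.height_map_mk_comap π hπ p q,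
    ← GorTransfer.height_map_mk_comap π hπ p₀ p]
  exact height_quot_add_gor R (p₀.comap π) (p.comap π) (q.comap π) (Ideal.comap_mono h1)
    (Ideal.comap_mono h2)

include hπ in
/-- `c(p₀) ≤ c(p) + ht(p/p₀)` in a quotient of a regular ring. -/
theorem relCodim_le_add (I : Ideal A) (p₀ p : PrimeSpectrum A) (hle : p₀ ≤ p) :
    SGA2.relCodim I p₀ ≤ SGA2.relCodim I p + Order.height (⟨p, hle⟩ : Set.Ici p₀) := by
  by_cases hne : Nonempty {q : PrimeSpectrum A // p ≤ q ∧ I ≤ q.asIdeal}
  · obtain ⟨⟨q, hpq, hIq⟩, hq⟩ := ENat.exists_eq_iInf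
      (fun q : {q : PrimeSpectrum A // p ≤ q ∧ I ≤ q.asIdeal} =>
        Order.height (⟨q.1, q.2.1⟩ : Set.Ici p))
    have hrc : SGA2.relCodim I p = Order.height (⟨q, hpq⟩ : Set.Ici p) := hq.symm
    rw [hrc]
    refine (RelCodim.relCodim_le I p₀ q (hle.trans hpq) hIq).trans (le_of_eq ?_)
    rw [RelCodim.height_Ici_eq, RelCodim.height_Ici_eq, RelCodim.height_Ici_eq]
    haveI := p₀.isPrime
    haveI := p.isPrime
    haveI := q.isPrime
    exact height_quot_add π hπ p₀.asIdeal p.asIdeal q.asIdeal hle hpq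
  · have : SGA2.relCodim I p = ⊤ := by
      unfold SGA2.relCodim
      rw [not_nonempty_iff] at hne
      exact iInf_of_empty _
    rw [this, top_add]
    exact le_top

end Catenary

end Groth.Agent.Lib.Helper41.CMFin
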