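import Groth.Agent.Lib.Helper41.GorTransfer
import Groth.Agent.Lib.Helper41.LCAdjDepth
import Groth.Agent.Lib.Helper41.CMFin

/-!
# Transfer of adjusted depths along a surjection of Noetherian rings
-/

set_option autoImplicit false
universe u
open IsLocalRing

namespace Groth.Agent.Lib.Helper41.AdjTransfer

open Groth.Agent.Lib.Helper41 Groth.Agent.Lib.Helper41.LC

/-- Two elements of `ℕ∞` taking each finite value simultaneously are equal. -/
theorem enat_eq_of_forall_eq_iff {x y : ℕ∞} (h : ∀ n : ℕ, x = n ↔ y = n) : x = y := by
  induction x using ENat.recTopCoe with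
  | top =>
    induction y using ENat.recTopCoe with
    | top => rfl
    | coe m => exact absurd ((h m).mpr rfl) (ENat.top_ne_natCast m)
  | coe n => exact ((h n).mp rfl).symm

variable (R A : Type u) [CommRing R] [IsNoetherianRing R] [CommRing A] [IsNoetherianRing A]
  [Algebra R A] (hπ : Function.Surjective (algebraMap R A)) (M : Type u) [AddCommGroup M]
  [Module A M] [Module R M] [IsScalarTower R A M] [Module.Finite A M]

include hπ in
theorem depth_comap_eq (p : Ideal A) [p.IsPrime] :
    LocCoh.depth (Localization.AtPrime p) (LocalizedModule p.primeCompl M) =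
      LocCoh.depth (Localization.AtPrime (p.comap (algebraMap R A)))
        (LocalizedModule (p.comap (algebraMap R A)).primeCompl M) := by
  haveI : Module.Finite R A := Module.Finite.of_surjective (Algebra.linearMap R A) hπ
  haveI hfin : Module.Finite R M := Module.Finite.trans A M
  apply enat_eq_of_forall_eq_iff
  intro n
  rw [depth_atPrime_eq_iff p M n, depth_atPrime_eq_iff (p.comap (algebraMap R A)) M n]
  constructor
  · rintro ⟨h1, h2⟩
    exact ⟨fun i hi => (GorTransfer.lz_iff R A hπ M p i).mp (h1 i hi),
      fun h => h2 ((GorTransfer.lz_iff R A hπ M p n).mpr h)⟩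
  · rintro ⟨h1, h2⟩
    exact ⟨fun i hi => (GorTransfer.lz_iff R A hπ M p i).mpr (h1 i hi),
      fun h => h2 ((GorTransfer.lz_iff R A hπ M p n).mp h)⟩

include hπ in
omit [IsNoetherianRing R] [IsNoetherianRing A] in
theorem height_adj_eq (a : Ideal R) (P : Ideal A) :
    (((a.map (algebraMap R A)) ⊔ P).map (Ideal.Quotient.mk P)).height =
      ((a ⊔ P.comap (algebraMap R A)).map
        (Ideal.Quotient.mk (P.comap (algebraMap R A)))).height := by
  rw [← RingEquiv.height_map (GorTransfer.quotEquiv (algebraMap R A) hπ P)
    ((a ⊔ P.comap (algebraMap R A)).map (Ideal.Quotient.mk (P.comap (algebraMap R A))))]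
  congr 1
  have h1 : ((GorTransfer.quotEquiv (algebraMap R A) hπ P :
      R ⧸ P.comap (algebraMap R A) →+* A ⧸ P)).comp
        (Ideal.Quotient.mk (P.comap (algebraMap R A))) =
      (Ideal.Quotient.mk P).comp (algebraMap R A) := by
    ext r
    rfl
  change _ = Ideal.map (GorTransfer.quotEquiv (algebraMap R A) hπ P :
    R ⧸ P.comap (algebraMap R A) →+* A ⧸ P) _
  rw [Ideal.map_map, h1, ← Ideal.map_map]
  congr 1
  rw [Ideal.map_sup, Ideal.map_comap_of_surjective (algebraMap R A) hπ]

include hπ in
theorem adjDepth_comap_eq (a : Ideal R) (P : PrimeSpectrum A) :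
    LocCoh.adjDepth (a.map (algebraMap R A)) M P =
      LocCoh.adjDepth a M (PrimeSpectrum.comap (algebraMap R A) P) := by
  unfold LocCoh.adjDepth
  haveI := P.isPrime
  rw [depth_comap_eq R A hπ M P.asIdeal, height_adj_eq R A hπ a P.asIdeal]
  rfl

include hπ in
/-- **Independence of the base** for the minimum adjusted depth. -/
theorem minAdjDepth_map_eq (a b : Ideal R) :
    LocCoh.minAdjDepth a b M =
      LocCoh.minAdjDepth (a.map (algebraMap R A)) (b.map (algebraMap R A)) M := by
  haveI : Module.Finite R A := Module.Finite.of_surjective (Algebra.linearMap R A) hπ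
  haveI hfin : Module.Finite R M := Module.Finite.trans A M
  unfold LocCoh.minAdjDepth
  apply le_antisymm
  · refine le_iInf₂ fun P hP => ?_
    rw [adjDepth_comap_eq R A hπ M a P]
    refine iInf₂_le (PrimeSpectrum.comap (algebraMap R A) P) ?_
    intro hle
    apply hP
    rw [Ideal.map_le_iff_le_comap]
    exact hle
  · refine le_iInf₂ fun p hp => ?_
    by_cases hker : RingHom.ker (algebraMap R A) ≤ p.asIdeal
    · have hPprime : (p.asIdeal.map (algebraMap R A)).IsPrime :=
        Ideal.map_isPrime_of_surjective hπ hker
      let P : PrimeSpectrum A := ⟨p.asIdeal.map (algebraMap R A), hPprime⟩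
      have hcomap : PrimeSpectrum.comap (algebraMap R A) P = p := by
        apply PrimeSpectrum.ext
        change (p.asIdeal.map (algebraMap R A)).comap (algebraMap R A) = p.asIdeal
        rw [Ideal.comap_map_of_surjective _ hπ, ← RingHom.ker_eq_comap_bot, sup_eq_left.mpr hker]
      have h1 := adjDepth_comap_eq R A hπ M a P
      rw [hcomap] at h1
      rw [← h1]
      refine iInf₂_le P ?_
      intro hle
      apply hp
      have := Ideal.comap_mono hle (f := algebraMap R A)
      have h2 : (p.asIdeal.map (algebraMap R A)).comap (algebraMap R A) = p.asIdeal :=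
        congrArg PrimeSpectrum.asIdeal hcomap
      rw [h2] at this
      exact Ideal.le_comap_map.trans this
    · obtain ⟨s, hsker, hsP⟩ := SetLike.not_le_iff_exists.mp hker
      haveI := p.isPrime
      have hsub : Subsingleton (LocalizedModule p.asIdeal.primeCompl M) := by
        rw [LocalizedModule.subsingleton_iff]
        intro m
        refine ⟨s, hsP, ?_⟩
        rw [← algebraMap_smul A s m, (RingHom.mem_ker).mp hsker, zero_smul]
      unfold LocCoh.adjDepth
      rw [CMFin.depth_eq_top_of_subsingleton, top_add]
      exact le_top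

end Groth.Agent.Lib.Helper41.AdjTransfer
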