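import Groth.Agent.Lib.Helper41.LCAdjDepth
import Groth.Agent.Lib.Helper41.LCExtVanish
import Groth.Agent.Lib.Helper41.LCVanish
import Groth.Agent.Lib.Helper41.LCUnion

/-!
# The grade formula through local cohomology

`H^i_J(G) = 0` for `i < n` iff `depth G_p ≥ n` for all `p ∈ V(J) ∩ Supp G`.
-/

set_option autoImplicit false
universe u
open CategoryTheory CategoryTheory.Limits Opposite CategoryTheory.Abelian

namespace Groth.Agent.Lib.Helper41.LC

variable {R : Type u} [CommRing R]

/-- `R ⧸ p` is `p`-power torsion. -/
lemma isTorsion_quotient_self (p : Ideal R) : IsTorsion p (R ⧸ p) := by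
  intro x
  refine ⟨1, fun a ha => ?_⟩
  rw [pow_one] at ha
  obtain ⟨y, rfl⟩ := Submodule.Quotient.mk_surjective _ x
  rw [← Submodule.Quotient.mk_smul, Submodule.Quotient.mk_eq_zero, smul_eq_mul]
  exact p.mul_mem_right y ha

/-- If `H^i_J(G) = 0` for `i < n` and `J ≤ p` then `H^i_p(G) = 0` for `i < n`. -/
theorem subsingleton_H_of_le [IsNoetherianRing R] (J p : Ideal R) (hJp : J ≤ p) (G : Type u) [AddCommGroup G]
    [Module R G] (n : ℕ) (h : ∀ i < n, Subsingleton (LocCoh.H J i G)) :
    ∀ i < n, Subsingleton (LocCoh.H p i G) := by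
  have hT : IsTorsion J (R ⧸ p) := by
    intro x
    obtain ⟨k, hk⟩ := isTorsion_quotient_self p x
    exact ⟨k, fun a ha => hk a (Ideal.pow_right_mono hJp k ha)⟩
  have hext := ext_vanishing_of_lc_vanishing J n (ModuleCat.of R G) h (ModuleCat.of R (R ⧸ p)) hT
  have hsupp : PrimeSpectrum.zeroLocus (p : Set R) ⊆ Module.support R (R ⧸ p) := by
    rw [Module.support_eq_zeroLocus, Ideal.annihilator_quotient]
  exact lc_vanishing_of_ext_vanishing p (ModuleCat.of R (R ⧸ p)) (isTorsion_quotient_self p) hsupp n
    (ModuleCat.of R G) hext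

/-- An associated prime `p` of `G` has `H^0_p(G)` not locally zero at `p`. -/
theorem not_lz_of_mem_associatedPrimes [IsNoetherianRing R] (p : Ideal R) [hp : p.IsPrime] (G : Type u) [AddCommGroup G]
    [Module R G] (h : p ∈ associatedPrimes R G) : ¬ LZ p (LocCoh.H p 0 G) := by
  intro hlz
  obtain ⟨-, y, hy⟩ := (isAssociatedPrime_iff).1 h
  have hmem : ∃ n : ℕ, ∀ a ∈ p ^ n, a • y = 0 := by
    refine ⟨1, fun a ha => ?_⟩
    rw [pow_one] at ha
    rw [hy, Submodule.mem_colon_singleton, Submodule.mem_bot] at ha
    exact ha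
  obtain ⟨x, hx⟩ := (mem_range_toMod_iff p (ModuleCat.of R G) y).2 hmem
  obtain ⟨s, hs, hsx⟩ := hlz x
  apply hs
  rw [hy, Submodule.mem_colon_singleton, Submodule.mem_bot]
  have : toMod p (ModuleCat.of R G) (s • x) = s • y := by rw [map_smul, hx]
  rw [← this, hsx, map_zero]

/-- The grade formula, hard direction: if for all `p ∈ V(J) ∩ Supp G` the modules `H^i_p(G)`, `i < n`,
are locally zero at `p`, then `H^i_J(G) = 0` for `i < n`. -/
theorem subsingleton_H_of_forall_lz [IsNoetherianRing R] (J : Ideal R) (n : ℕ) :
    ∀ (G : Type u) [AddCommGroup G] [Module R G] [Module.Finite R G],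
      (∀ p : PrimeSpectrum R, J ≤ p.asIdeal → p ∈ Module.support R G →
        ∀ i < n, LZ p.asIdeal (LocCoh.H p.asIdeal i G)) →
      ∀ i < n, Subsingleton (LocCoh.H J i G) := by
  induction n with
  | zero => intro G _ _ _ _ i hi; omega
  | succ n ih =>
    intro G _ _ _ h
    -- no `J`-power torsion
    have hΓ : powTorsion J G = ⊥ := by
      rw [eq_bot_iff]
      rintro m ⟨k, hk⟩
      rw [Submodule.mem_bot]
      by_contra hm
      obtain ⟨P, hP, hle⟩ := exists_le_isAssociatedPrime_of_isNoetherianRing R m hm
      have hPprime : P.IsPrime := hP.isPrime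
      have hJP : J ≤ P := by
        have : J ^ k ≤ P := by
          intro a ha
          apply hle
          rw [Submodule.mem_colon_singleton, Submodule.mem_bot]
          exact hk a ha
        exact hPprime.le_of_pow_le this
      let P' : PrimeSpectrum R := ⟨P, hPprime⟩
      have hsupp : P' ∈ Module.support R G := by
        obtain ⟨-, y, hy⟩ := (isAssociatedPrime_iff).1 hP
        rw [Module.mem_support_iff_exists_annihilator]
        refine ⟨y, ?_⟩
        intro a ha
        change a ∈ P
        rw [hy, Submodule.mem_colon_singleton, Submodule.mem_bot]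
        rw [Submodule.mem_annihilator_span_singleton] at ha
        exact ha
      exact not_lz_of_mem_associatedPrimes P G hP (h P' hJP hsupp 0 (by omega))
    obtain ⟨x, hxJ, hreg⟩ := exists_isSMulRegular_mem J G hΓ
    have hS := hreg.smulShortComplex_shortExact (M := ModuleCat.of R G)
    -- the quotient satisfies the hypothesis for `n`
    have hQ : ∀ i < n, Subsingleton (LocCoh.H J i (QuotSMulTop x G)) := by
      apply ih (QuotSMulTop x G)
      intro p hJp hp i hi
      have hpG : p ∈ Module.support R G :=
        Module.support_subset_of_surjective (Submodule.mkQ _) (Submodule.mkQ_surjective _) hp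
      have h1 := h p hJp hpG i (by omega)
      have h2 := h p hJp hpG (i + 1) (by omega)
      exact lz_X₃ p.asIdeal hS p.asIdeal i h1 h2
    intro i hi
    rcases i with _ | j
    · apply (subsingleton_zero_iff J (ModuleCat.of R G)).2
      intro m hm
      have : m ∈ powTorsion J G := hm
      rw [hΓ, Submodule.mem_bot] at this
      exact this
    · have hinj2 := map_f_injective_of_subsingleton J hS j (hQ j (by omega))
      apply subsingleton_of_injective_smul J (j + 1) (ModuleCat.of R G) x hxJ
      intro y y' hyy'
      apply hinj2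
      change ((localCohomology J (j + 1)).map (x • 𝟙 (ModuleCat.of R G))).hom y =
        ((localCohomology J (j + 1)).map (x • 𝟙 (ModuleCat.of R G))).hom y'
      rw [map_smul_id, map_smul_id]
      exact hyy'

/-- `n ≤ depth G_p` iff `H^i_p(G)` is locally zero at `p` for all `i < n`. -/
theorem le_depth_atPrime_iff [IsNoetherianRing R] (p : Ideal R) [p.IsPrime] (G : Type u) [AddCommGroup G]
    [Module R G] [Module.Finite R G] (n : ℕ) :
    (n : ℕ∞) ≤ LocCoh.depth (Localization.AtPrime p) (LocalizedModule p.primeCompl G) ↔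
      ∀ i < n, LZ p (LocCoh.H p i G) := by
  induction hd : LocCoh.depth (Localization.AtPrime p) (LocalizedModule p.primeCompl G)
    using ENat.recTopCoe with
  | top =>
    simp only [le_top, true_iff]
    -- all `H^i_p(G)` are locally zero: otherwise depth would be finite
    by_contra hcon
    push Not at hcon
    obtain ⟨i, -, hi⟩ := hcon
    -- least such index
    classical
    have hex : ∃ j, ¬ LZ p (LocCoh.H p j G) := ⟨i, hi⟩
    have h1 := Nat.find_spec hex
    have h2 : ∀ j < Nat.find hex, LZ p (LocCoh.H p j G) := fun j hj => by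
      by_contra hc
      exact Nat.find_min hex hj hc
    have := (depth_atPrime_eq_iff p G (Nat.find hex)).2 ⟨h2, h1⟩
    rw [hd] at this
    exact ENat.top_ne_natCast _ this
  | coe d =>
    obtain ⟨h1, h2⟩ := (depth_atPrime_eq_iff p G d).1 hd
    constructor
    · intro hnd i hi
      have : n ≤ d := by exact_mod_cast hnd
      exact h1 i (by omega)
    · intro hall
      by_contra hc
      have : d < n := by
        by_contra hc'
        apply hc
        exact_mod_cast (not_lt.1 hc')
      exact h2 (hall d this)

/-- **Grade formula**: `H^i_J(G) = 0` for `i < n` iff `depth G_p ≥ n` for all `p ∈ V(J) ∩ Supp G`. -/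
theorem subsingleton_H_iff_le_depth [IsNoetherianRing R] (J : Ideal R) (G : Type u) [AddCommGroup G]
    [Module R G] [Module.Finite R G] (n : ℕ) :
    (∀ i < n, Subsingleton (LocCoh.H J i G)) ↔
      ∀ p : PrimeSpectrum R, J ≤ p.asIdeal → p ∈ Module.support R G →
        (n : ℕ∞) ≤ LocCoh.depth (Localization.AtPrime p.asIdeal)
          (LocalizedModule p.asIdeal.primeCompl G) := by
  constructor
  · intro h p hJp _
    rw [le_depth_atPrime_iff]
    intro i hi
    have := subsingleton_H_of_le J p.asIdeal hJp G n h i hi
    intro x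
    exact ⟨1, fun h1 => p.2.ne_top ((Ideal.eq_top_iff_one _).2 h1), Subsingleton.elim _ _⟩
  · intro h
    apply subsingleton_H_of_forall_lz J n G
    intro p hJp hp
    exact (le_depth_atPrime_iff p.asIdeal G n).1 (h p hJp hp)

end Groth.Agent.Lib.Helper41.LC
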