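import Mathlib

/-!
# A dimension estimate: a module whose support misses the top-dimensional minimal primes
has support of dimension `< dim R`.
-/

set_option autoImplicit false
universe u v

namespace Groth.Agent.Lib.Helper41.LC

/-- If `dim R = d` and the support of `Q` contains no minimal prime `q` with `dim R/q = d`,
then `dim Supp Q < d`. -/
theorem supportDim_lt_of_forall {R : Type u} [CommRing R] (d : ℕ) (hd : ringKrullDim R = d)
    (Q : Type v) [AddCommGroup Q] [Module R Q]
    (h : ∀ q ∈ Module.support R Q, q.asIdeal ∈ minimalPrimes R →
      ringKrullDim (R ⧸ q.asIdeal) = d → False) :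
    Module.supportDim R Q < (d : WithBot ℕ∞) := by
  rw [Module.supportDim, Order.krullDim_lt_coe_iff]
  intro l
  by_contra hl
  have hl : d ≤ l.length := not_lt.1 hl
  let l' : LTSeries (PrimeSpectrum R) := l.map Subtype.val (fun _ _ h => h)
  have h1 : (l'.length : WithBot ℕ∞) ≤ d := by
    have := Order.LTSeries.length_le_krullDim l'
    rw [ringKrullDim] at hd
    rw [hd] at this
    exact this
  have hlen : l.length = d := by
    have h2 : l'.length ≤ d := by exact_mod_cast h1
    have h3 : l'.length = l.length := rfl
    omega
  apply h l.head.1 l.head.2
  · obtain ⟨p, hp, hple⟩ := Ideal.exists_minimalPrimes_le (bot_le : ⊥ ≤ l.head.1.asIdeal)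
    by_contra hne
    have hpp : p.IsPrime := hp.1.1
    have hlt : (⟨p, hpp⟩ : PrimeSpectrum R) < l'.head := by
      refine lt_of_le_of_ne hple ?_
      intro heq
      apply hne
      have : l.head.1.asIdeal = p := by
        have := congrArg PrimeSpectrum.asIdeal heq
        exact this.symm
      rw [this]
      exact hp
    let l'' := l'.cons ⟨p, hpp⟩ hlt
    have h4 : (l''.length : WithBot ℕ∞) ≤ d := by
      have := Order.LTSeries.length_le_krullDim l''
      rw [ringKrullDim] at hd
      rw [hd] at this
      exact this
    have h5 : l''.length ≤ d := by exact_mod_cast h4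
    have h6 : l''.length = l.length + 1 := by simp [l'', l']
    omega
  · apply le_antisymm
    · exact (ringKrullDim_quotient_le _).trans hd.le
    · rw [ringKrullDim_quotient]
      let m : LTSeries (PrimeSpectrum.zeroLocus (R := R) (l.head.1.asIdeal : Set R)) :=
        { length := l.length
          toFun := fun i => ⟨(l i).1, by
            rw [PrimeSpectrum.mem_zeroLocus]
            exact (LTSeries.head_le l i : l.head ≤ l i)⟩
          step := fun i => l.step i }
      have := Order.LTSeries.length_le_krullDim m
      have h7 : m.length = d := hlen
      rw [h7] at this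
      exact this

end Groth.Agent.Lib.Helper41.LC
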