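import Groth.Agent.Lib.Helper41.LCTop

/-!
# Local cohomology of finite free modules
-/

set_option autoImplicit false
universe u
open CategoryTheory CategoryTheory.Limits Opposite CategoryTheory.Abelian

namespace Groth.Agent.Lib.Helper41.LC

variable {R : Type u} [CommRing R] (I : Ideal R)

/-- If the outer terms of a short exact sequence have vanishing `H^i_I`, so does the middle. -/
theorem subsingleton_X₂ {S : ShortComplex (ModuleCat.{u} R)} (hS : S.ShortExact) (i : ℕ)
    (h₁ : Subsingleton ((localCohomology I i).obj S.X₁))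
    (h₃ : Subsingleton ((localCohomology I i).obj S.X₃)) :
    Subsingleton ((localCohomology I i).obj S.X₂) := by
  refine ⟨fun x y => ?_⟩
  have key : ∀ x : (localCohomology I i).obj S.X₂, x = 0 := by
    intro x
    obtain ⟨x₁, rfl⟩ := exact₂ I hS i x (Subsingleton.elim _ _)
    rw [Subsingleton.elim x₁ 0, map_zero]
  rw [key x, key y]

/-- The kernel of "forget the first coordinate" is the first coordinate. -/
noncomputable def kerFunLeftSucc (M : Type u) [AddCommGroup M] [Module R M] (k : ℕ) :
    LinearMap.ker (LinearMap.funLeft R M (Fin.succ : Fin k → Fin (k + 1))) ≃ₗ[R] M where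
  toFun v := v.1 0
  map_add' _ _ := rfl
  map_smul' _ _ := rfl
  invFun a := ⟨Pi.single 0 a, by
    rw [LinearMap.mem_ker]
    funext j
    simp [LinearMap.funLeft, Fin.succ_ne_zero]⟩
  left_inv v := by
    apply Subtype.ext
    funext j
    cases j using Fin.cases with
    | zero => simp
    | succ j =>
      have h1 : (LinearMap.funLeft R M (Fin.succ : Fin k → Fin (k + 1))) v.1 = 0 := v.2
      have h2 := congrFun h1 j
      simp only [LinearMap.funLeft_apply, Pi.zero_apply] at h2
      simp [Fin.succ_ne_zero, h2]
  right_inv a := by simp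

/-- `H^i_I(M^k) = 0` if `H^i_I(M) = 0`. -/
theorem subsingleton_pi_fin (i : ℕ) (M : Type u) [AddCommGroup M] [Module R M]
    (h : Subsingleton ((localCohomology I i).obj (ModuleCat.of R M))) (k : ℕ) :
    Subsingleton ((localCohomology I i).obj (ModuleCat.of R (Fin k → M))) := by
  induction k with
  | zero => exact subsingleton_of_subsingleton I i (ModuleCat.of R (Fin 0 → M))
  | succ k ih =>
    let g : (Fin (k + 1) → M) →ₗ[R] (Fin k → M) := LinearMap.funLeft R M Fin.succ
    have hg : Function.Surjective g := by
      intro w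
      refine ⟨Fin.cons 0 w, ?_⟩
      funext j
      simp [g, LinearMap.funLeft_apply]
    have hS := LinearMap.shortExact_shortComplexKer hg
    have h₁ : Subsingleton ((localCohomology I i).obj g.shortComplexKer.X₁) :=
      subsingleton_of_linearEquiv I i (kerFunLeftSucc M k) h
    have h₃ : Subsingleton ((localCohomology I i).obj g.shortComplexKer.X₃) := ih
    exact subsingleton_X₂ I hS i h₁ h₃

/-- `H^i_I` is additive on morphisms. -/
lemma map_add_apply {M M' : ModuleCat.{u} R} (f g : M ⟶ M') (i : ℕ)
    (x : (localCohomology I i).obj M) :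
    ((localCohomology I i).map (f + g)).hom x =
      ((localCohomology I i).map f).hom x + ((localCohomology I i).map g).hom x := by
  obtain ⟨n, e, rfl⟩ := exists_rep x
  rw [map_ιH, map_ιH, map_ιH, Ext.mk₀_add, Ext.comp_add, map_add]

lemma map_zero_apply {M M' : ModuleCat.{u} R} (i : ℕ) (x : (localCohomology I i).obj M) :
    ((localCohomology I i).map (0 : M ⟶ M')).hom x = 0 := by
  obtain ⟨n, e, rfl⟩ := exists_rep x
  rw [map_ιH, Ext.mk₀_zero, Ext.comp_zero, map_zero]

lemma map_sum_apply {M M' : ModuleCat.{u} R} {ι : Type*} (s : Finset ι) (f : ι → (M ⟶ M')) (i : ℕ)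
    (x : (localCohomology I i).obj M) :
    ((localCohomology I i).map (∑ j ∈ s, f j)).hom x =
      ∑ j ∈ s, ((localCohomology I i).map (f j)).hom x := by
  classical
  induction s using Finset.induction_on with
  | empty => simp [map_zero_apply]
  | insert a s ha ih => rw [Finset.sum_insert ha, Finset.sum_insert ha, map_add_apply, ih]

/-- If `a` kills `H^i_I(M)` then it kills `H^i_I(M^k)`. -/
theorem smul_eq_zero_pi_fin (i : ℕ) (M : Type u) [AddCommGroup M] [Module R M] (a : R)
    (h : ∀ x : (localCohomology I i).obj (ModuleCat.of R M), a • x = 0) (k : ℕ)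
    (x : (localCohomology I i).obj (ModuleCat.of R (Fin k → M))) : a • x = 0 := by
  let π : ∀ j : Fin k, ModuleCat.of R (Fin k → M) ⟶ ModuleCat.of R M := fun j =>
    ModuleCat.ofHom (LinearMap.proj j)
  let σ : ∀ j : Fin k, ModuleCat.of R M ⟶ ModuleCat.of R (Fin k → M) := fun j =>
    ModuleCat.ofHom (LinearMap.single R (fun _ => M) j)
  have hid : 𝟙 (ModuleCat.of R (Fin k → M)) = ∑ j : Fin k, π j ≫ σ j := by
    apply ModuleCat.hom_ext
    apply LinearMap.ext
    intro v
    rw [ModuleCat.hom_sum]
    simp only [LinearMap.sum_apply]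
    change v = ∑ j, Pi.single j (v j)
    exact (Finset.univ_sum_single v).symm
  have hx : x = ∑ j : Fin k, ((localCohomology I i).map (σ j)).hom
      (((localCohomology I i).map (π j)).hom x) := by
    have h1 : ((localCohomology I i).map (𝟙 (ModuleCat.of R (Fin k → M)))).hom x = x := by
      rw [CategoryTheory.Functor.map_id]
      rfl
    have h2 : ((localCohomology I i).map (𝟙 (ModuleCat.of R (Fin k → M)))).hom x =
        ((localCohomology I i).map (∑ j : Fin k, π j ≫ σ j)).hom x := by rw [← hid]
    refine h1.symm.trans (h2.trans ((map_sum_apply I _ _ i x).trans ?_))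
    apply Finset.sum_congr rfl
    intro j _
    rw [Functor.map_comp]
    rfl
  rw [hx, Finset.smul_sum]
  apply Finset.sum_eq_zero
  intro j _
  rw [← map_smul, h, map_zero]

end Groth.Agent.Lib.Helper41.LC
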