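import Groth.Agent.Lib.Helper41.LCTorsion

/-!
# Comparison maps `H^i_J(M) → H^i_I(M)` for `I ≤ J`, bijectivity on torsion modules,
# and vanishing when an element of the ideal acts bijectively
-/

set_option autoImplicit false
universe u
open CategoryTheory CategoryTheory.Limits Opposite CategoryTheory.Abelian

namespace Groth.Agent.Lib.Helper41.LC

variable {R : Type u} [CommRing R]

/-- The quotient map `R/I^n → R/J^n` for `I ≤ J`. -/
def quotLE {I J : Ideal R} (h : I ≤ J) (n : ℕ) : Q I n ⟶ Q J n :=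
  ModuleCat.ofHom (Submodule.mapQ _ _ LinearMap.id (Ideal.pow_right_mono h n))

lemma proj_quotLE {I J : Ideal R} (h : I ≤ J) {n m : ℕ} (hnm : n ≤ m) :
    quotLE h m ≫ proj J hnm = proj I hnm ≫ quotLE h n := by
  apply ModuleCat.hom_ext
  apply LinearMap.ext
  intro x
  obtain ⟨x, rfl⟩ := Submodule.Quotient.mk_surjective _ x
  rfl

/-- The comparison map `H^i_J(M) → H^i_I(M)` for `I ≤ J`. -/
noncomputable def cmpH {I J : Ideal R} (h : I ≤ J) (i : ℕ) (M : ModuleCat.{u} R) :
    (localCohomology J i).obj M →ₗ[R] (localCohomology I i).obj M :=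
  descH (fun n => ιH I i M n ∘ₗ (Ext.mk₀ (quotLE h n)).precompOfLinear R M (zero_add i)) (by
    intro n m hnm e
    simp only [LinearMap.comp_apply, Ext.bilinearCompOfLinear_apply_apply]
    rw [← Ext.comp_assoc_of_second_deg_zero, Ext.mk₀_comp_mk₀, proj_quotLE, ← Ext.mk₀_comp_mk₀,
      Ext.comp_assoc_of_second_deg_zero, ιH_comp])

lemma cmpH_ιH {I J : Ideal R} (h : I ≤ J) (i : ℕ) (M : ModuleCat.{u} R) (n : ℕ) (e : Ext.{u} (Q J n) M i) :
    cmpH h i M (ιH J i M n e) = ιH I i M n ((Ext.mk₀ (quotLE h n)).comp e (zero_add i)) := by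
  unfold cmpH
  rw [descH_ιH]
  rfl

lemma cmpH_postcompH {I J : Ideal R} (h : I ≤ J) {M M' : ModuleCat.{u} R} {k : ℕ} (β : Ext.{u} M M' k)
    (i j : ℕ) (hij : i + k = j) (x : (localCohomology J i).obj M) :
    cmpH h j M' (postcompH J β i j hij x) = postcompH I β i j hij (cmpH h i M x) := by
  obtain ⟨n, e, rfl⟩ := exists_rep x
  rw [postcompH_ιH, cmpH_ιH, cmpH_ιH, postcompH_ιH, Ext.comp_assoc _ _ _ (zero_add i) hij (by omega)]

lemma cmpH_map {I J : Ideal R} (h : I ≤ J) {M M' : ModuleCat.{u} R} (f : M ⟶ M') (i : ℕ)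
    (x : (localCohomology J i).obj M) :
    cmpH h i M' (((localCohomology J i).map f).hom x) = ((localCohomology I i).map f).hom (cmpH h i M x) := by
  rw [map_eq_postcompH, map_eq_postcompH, cmpH_postcompH]

lemma cmpH_δ {I J : Ideal R} (h : I ≤ J) {S : ShortComplex (ModuleCat.{u} R)} (hS : S.ShortExact)
    (i j : ℕ) (hij : i + 1 = j) (x : (localCohomology J i).obj S.X₃) :
    cmpH h j S.X₁ (δ J hS i j hij x) = δ I hS i j hij (cmpH h i S.X₃ x) :=
  cmpH_postcompH h _ i j hij x

lemma toMod_cmpH {I J : Ideal R} (h : I ≤ J) (M : ModuleCat.{u} R) (x : (localCohomology J 0).obj M) :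
    toMod I M (cmpH h 0 M x) = toMod J M x := by
  obtain ⟨n, e, rfl⟩ := exists_rep x
  rw [cmpH_ιH, toMod_ιH, toMod_ιH]
  obtain ⟨f, rfl⟩ := Ext.addEquiv₀.symm.surjective e
  change ev1 I M n ((Ext.mk₀ (quotLE h n)).comp (Ext.mk₀ f) (zero_add 0)) = ev1 J M n (Ext.mk₀ f)
  rw [Ext.mk₀_comp_mk₀, ev1_mk₀, ev1_mk₀]
  rfl

lemma cmpH_injective_zero {I J : Ideal R} (h : I ≤ J) (M : ModuleCat.{u} R) :
    Function.Injective (cmpH h 0 M) := by
  intro x y hxy
  apply toMod_injective J M
  rw [← toMod_cmpH h, ← toMod_cmpH h, hxy]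

section TorsionCompare

variable {I J : Ideal R} (h : I ≤ J) (K : Ideal R) (hJ : J ≤ I ⊔ K)

include hJ in
lemma cmpH_surjective_zero_of_isTorsion (N : ModuleCat.{u} R) (hN : IsTorsion K N) :
    Function.Surjective (cmpH h 0 N) := by
  intro y
  obtain ⟨n, hn⟩ := (mem_range_toMod_iff I N (toMod I N y)).1 ⟨y, rfl⟩
  obtain ⟨k, hk⟩ := hN (toMod I N y)
  have hmem : toMod I N y ∈ LinearMap.range (toMod J N) := by
    rw [mem_range_toMod_iff]
    refine ⟨n + k, fun a ha => ?_⟩
    have ha' : a ∈ I ^ n ⊔ K ^ k :=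
      Ideal.sup_pow_add_le_pow_sup_pow (Ideal.pow_right_mono hJ (n + k) ha)
    obtain ⟨a₁, ha₁, a₂, ha₂, rfl⟩ := Submodule.mem_sup.1 ha'
    rw [add_smul, hn a₁ ha₁, hk a₂ ha₂, add_zero]
  obtain ⟨x, hx⟩ := hmem
  refine ⟨x, toMod_injective I N ?_⟩
  rw [toMod_cmpH, hx]

include hJ in
/-- On `K`-torsion modules, the comparison map `H^i_J → H^i_I` is bijective when `I ≤ J ≤ I ⊔ K`
(Noetherian case). -/
theorem cmpH_bijective_of_isTorsion [IsNoetherianRing R] (i : ℕ) :
    ∀ (N : ModuleCat.{u} R), IsTorsion K N → Function.Bijective (cmpH h i N) := by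
  induction i with
  | zero =>
    intro N hN
    exact ⟨cmpH_injective_zero h N, cmpH_surjective_zero_of_isTorsion h K hJ N hN⟩
  | succ i ih =>
    intro N hN
    obtain ⟨E, hEinj, hEtor, f, hf⟩ := exists_torsion_injective_embedding K N hN
    have hS := shortExact_of_mono f
    set S := ShortComplex.mk f (cokernel.π f) (cokernel.condition f) with hSdef
    have hπ : Function.Surjective (cokernel.π f).hom := (ModuleCat.epi_iff_surjective _).1 inferInstance
    have hCtor : IsTorsion K ↑(cokernel f) := hEtor.of_surjective K (cokernel.π f).hom hπ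
    have hEJ : Subsingleton ((localCohomology J (i + 1)).obj E) := subsingleton_of_injective J E (i + 1) (by omega)
    have hEI : Subsingleton ((localCohomology I (i + 1)).obj E) := subsingleton_of_injective I E (i + 1) (by omega)
    have hC := ih (cokernel f) hCtor
    have hE := ih E hEtor
    constructor
    · rw [injective_iff_map_eq_zero]
      intro x hx
      obtain ⟨c', rfl⟩ := exact₁ J hS i (i + 1) rfl x (Subsingleton.elim _ _)
      have hx2 : δ I hS i (i + 1) rfl (cmpH h i S.X₃ c') = 0 := (cmpH_δ h hS i (i + 1) rfl c').symm.trans hx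
      obtain ⟨e, he⟩ := exact₃ I hS i (i + 1) rfl _ hx2
      obtain ⟨e', rfl⟩ := hE.2 e
      have he2 : cmpH h i S.X₃ (((localCohomology J i).map S.g).hom e') = cmpH h i S.X₃ c' :=
        (cmpH_map h S.g i e').trans he
      have : ((localCohomology J i).map S.g).hom e' = c' := hC.1 he2
      rw [← this]
      exact δ_map_eq_zero J hS i (i + 1) rfl e'
    · intro y
      obtain ⟨c, rfl⟩ := exact₁ I hS i (i + 1) rfl y (Subsingleton.elim _ _)
      obtain ⟨c', rfl⟩ := hC.2 c
      exact ⟨δ J hS i (i + 1) rfl c', cmpH_δ h hS i (i + 1) rfl c'⟩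

end TorsionCompare

section Bijective

/-- `r • 𝟙` acts on local cohomology by `r`. -/
lemma map_smul_id (I : Ideal R) (i : ℕ) (M : ModuleCat.{u} R) (r : R) (x : (localCohomology I i).obj M) :
    ((localCohomology I i).map (r • 𝟙 M)).hom x = r • x := by
  obtain ⟨n, e, rfl⟩ := exists_rep x
  rw [map_ιH, Ext.mk₀_smul, Ext.comp_smul, Ext.comp_mk₀_id, map_smul]

/-- Every element of `ιH n` is killed by `I^n`. -/
lemma smul_ιH_eq_zero (I : Ideal R) (i : ℕ) (M : ModuleCat.{u} R) (n : ℕ) (e : Ext.{u} (Q I n) M i)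
    (a : R) (ha : a ∈ I ^ n) : a • ιH I i M n e = 0 := by
  rw [← map_smul]
  have h0 : a • e = 0 := by
    have h1 : a • e = (Ext.mk₀ (a • 𝟙 (Q I n))).comp e (zero_add i) := by
      rw [Ext.mk₀_smul, Ext.smul_comp, Ext.mk₀_id_comp]
    have h2 : a • 𝟙 (Q I n) = 0 := by
      apply ModuleCat.hom_ext
      apply LinearMap.ext
      intro y
      obtain ⟨y, rfl⟩ := Submodule.Quotient.mk_surjective _ y
      change a • (Submodule.Quotient.mk y : R ⧸ I ^ n) = 0
      rw [← Submodule.Quotient.mk_smul, Submodule.Quotient.mk_eq_zero, smul_eq_mul]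
      exact (I ^ n).mul_mem_right y ha
    rw [h1, h2, Ext.mk₀_zero, Ext.zero_comp]
  rw [h0, map_zero]

/-- If some `x ∈ I` acts bijectively on `M`, all local cohomology of `M` with support in `I` vanishes. -/
theorem subsingleton_of_bijective_smul (I : Ideal R) (i : ℕ) (M : ModuleCat.{u} R) (x : R) (hx : x ∈ I)
    (hbij : Function.Bijective (fun m : M => x • m)) : Subsingleton ((localCohomology I i).obj M) := by
  have hiso : IsIso (x • 𝟙 M) := by
    rw [ConcreteCategory.isIso_iff_bijective]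
    exact hbij
  have hiso2 : IsIso ((localCohomology I i).map (x • 𝟙 M)) := inferInstance
  have hinj : Function.Injective (fun y : (localCohomology I i).obj M => x • y) := by
    have := (ConcreteCategory.bijective_of_isIso ((localCohomology I i).map (x • 𝟙 M))).1
    intro y y' hyy'
    apply this
    change ((localCohomology I i).map (x • 𝟙 M)).hom y = ((localCohomology I i).map (x • 𝟙 M)).hom y'
    rw [map_smul_id, map_smul_id]
    exact hyy'
  have hpow : ∀ k : ℕ, Function.Injective (fun y : (localCohomology I i).obj M => x ^ k • y) := by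
    intro k
    induction k with
    | zero => intro y y' h; simpa using h
    | succ k ihk =>
      intro y y' h
      apply ihk
      apply hinj
      simp only [pow_succ, mul_smul] at h
      simp only
      rw [smul_comm x, smul_comm x (x ^ k)]
      exact h
  refine ⟨fun y y' => ?_⟩
  have key : ∀ y : (localCohomology I i).obj M, y = 0 := by
    intro y
    obtain ⟨n, e, rfl⟩ := exists_rep y
    apply hpow n
    simp only [smul_zero]
    exact smul_ιH_eq_zero I i M n e (x ^ n) (Ideal.pow_mem_pow hx n)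
  rw [key y, key y']

end Bijective

end Groth.Agent.Lib.Helper41.LC
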