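import Groth.Agent.Lib.Helper41.LCFaltings
import Groth.Agent.Lib.Helper41.LCVanish
import Groth.Agent.Lib.Helper2.Matlis4

/-!
# Artinianness of local cohomology over a Noetherian local ring

* Melkersson's lemma (local form): an `a`-power torsion module `T` with `(0 :_T a)` Artinian is
  Artinian.
* `H^i_m(M)` is Artinian for every finite `M`.
* `H^n_I(M)` is Artinian for every ideal `I` when `dim M ≤ n`.
-/

set_option autoImplicit false
universe u
open CategoryTheory CategoryTheory.Limits Opposite CategoryTheory.Abelian IsLocalRing

namespace Groth.Agent.Lib.Helper41.LC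

variable {R : Type u} [CommRing R]

section Melkersson

variable [IsLocalRing R] [IsNoetherianRing R]

/-- A finitely generated submodule killed by `a^k`, inside a module whose `a`-torsion `(0 :_T a)` is
Artinian, consists of `m`-power torsion elements. -/
lemma le_powTorsion_maximalIdeal_of_pow_smul (a : Ideal R) (T : Type u) [AddCommGroup T] [Module R T]
    (hK : IsArtinian R ↥(Submodule.torsionBySet R T (a : Set R))) (k : ℕ) :
    ∀ S : Submodule R T, S.FG → (∀ c ∈ a ^ k, ∀ z ∈ S, c • z = 0) →
      S ≤ powTorsion (maximalIdeal R) T := by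
  have hKtors : Submodule.torsionBySet R T (a : Set R) ≤ powTorsion (maximalIdeal R) T := by
    intro y hy
    obtain ⟨N, hN⟩ := Groth.Agent.Lib.Helper2.isPowerTorsion_of_isArtinian
      (R := R) (M := ↥(Submodule.torsionBySet R T (a : Set R))) ⟨y, hy⟩
    exact ⟨N, fun c hc => congrArg Subtype.val (hN c hc)⟩
  induction k with
  | zero =>
    intro S _ h z hz
    have := h 1 (by rw [pow_zero, Ideal.one_eq_top]; trivial) z hz
    rw [one_smul] at this
    rw [this]
    exact Submodule.zero_mem _
  | succ k ih =>
    intro S hS h
    have hS' : (a • S).FG := Submodule.FG.smul (IsNoetherian.noetherian a) hS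
    have h' : ∀ c ∈ a ^ k, ∀ z ∈ a • S, c • z = 0 := by
      intro c hc z hz
      refine Submodule.smul_induction_on hz ?_ ?_
      · intro b hb y hy
        rw [← mul_smul]
        exact h (c * b) (by rw [pow_succ]; exact Ideal.mul_mem_mul hc hb) y hy
      · intro x y hx hy
        rw [smul_add, hx, hy, add_zero]
    obtain ⟨N₁, hN₁⟩ := exists_pow_smul_eq_zero_of_fg_le (maximalIdeal R) (a • S) hS' (ih (a • S) hS' h')
    have hS'' : ((maximalIdeal R) ^ N₁ • S).FG :=
      Submodule.FG.smul (IsNoetherian.noetherian _) hS
    have hle : (maximalIdeal R) ^ N₁ • S ≤ Submodule.torsionBySet R T (a : Set R) := by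
      intro z hz
      rw [Submodule.mem_torsionBySet_iff]
      rintro ⟨b, hb⟩
      change b • z = 0
      refine Submodule.smul_induction_on hz ?_ ?_
      · intro c hc y hy
        rw [smul_comm]
        exact hN₁ c hc (b • y) (Submodule.smul_mem_smul hb hy)
      · intro x y hx hy
        rw [smul_add, hx, hy, add_zero]
    obtain ⟨N₂, hN₂⟩ := exists_pow_smul_eq_zero_of_fg_le (maximalIdeal R) _ hS'' (hle.trans hKtors)
    intro z hz
    refine ⟨N₂ + N₁, fun c hc => ?_⟩
    rw [pow_add] at hc
    refine Submodule.mul_induction_on hc ?_ ?_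
    · intro d hd e he
      rw [mul_smul]
      exact hN₂ d hd _ (Submodule.smul_mem_smul he hz)
    · intro x y hx hy
      rw [add_smul, hx, hy, add_zero]

/-- **Melkersson's lemma** (local form): if `T` is `a`-power torsion, `a ≤ m`, and `(0 :_T a)` is
Artinian, then `T` is Artinian. -/
theorem isArtinian_of_isTorsion_of_isArtinian_torsionBy (a : Ideal R) (ha : a ≤ maximalIdeal R)
    (T : Type u) [AddCommGroup T] [Module R T] (hT : IsTorsion a T)
    (hK : IsArtinian R ↥(Submodule.torsionBySet R T (a : Set R))) : IsArtinian R T := by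
  rw [Groth.Agent.Lib.Helper2.isArtinian_iff_isPowerTorsion_and_finite_socle]
  constructor
  · intro x
    obtain ⟨k, hk⟩ := hT x
    have := le_powTorsion_maximalIdeal_of_pow_smul a T hK k (Submodule.span R {x})
      (Submodule.fg_span_singleton x) (by
        intro c hc z hz
        obtain ⟨r, rfl⟩ := Submodule.mem_span_singleton.1 hz
        rw [smul_comm, hk c hc, smul_zero])
    exact this (Submodule.mem_span_singleton_self x)
  · let _ : Field (R ⧸ maximalIdeal R) := Ideal.Quotient.field _
    have hle : Submodule.torsionBySet R T (maximalIdeal R : Set R) ≤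
        Submodule.torsionBySet R T (a : Set R) :=
      Submodule.torsionBySet_le_torsionBySet_of_subset ha
    have hA' : IsArtinian R ↥(Submodule.torsionBySet R T (maximalIdeal R : Set R)) :=
      isArtinian_of_le hle
    have hA : IsArtinian (R ⧸ maximalIdeal R) ↥(LocCoh.torsionBy (maximalIdeal R) T) :=
      isArtinian_of_tower R hA'
    have h := (IsArtinianRing.tfae (R := R ⧸ maximalIdeal R)
      (M := ↥(LocCoh.torsionBy (maximalIdeal R) T))).out 0 2
    exact h.mpr hA

/-- An `m`-power torsion module which is finitely generated is Artinian. -/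
theorem isArtinian_of_isTorsion_of_finite (T : Type u) [AddCommGroup T] [Module R T]
    [Module.Finite R T] (hT : IsTorsion (maximalIdeal R) T) : IsArtinian R T := by
  rw [Groth.Agent.Lib.Helper2.isArtinian_iff_isPowerTorsion_and_finite_socle]
  refine ⟨hT, ?_⟩
  have : IsNoetherian R T := isNoetherian_of_isNoetherianRing_of_finite R T
  have hfin : Module.Finite R ↥(LocCoh.torsionBy (maximalIdeal R) T) := inferInstance
  exact Module.Finite.of_restrictScalars_finite R (R ⧸ maximalIdeal R) _

end Melkersson

section Step

variable [IsLocalRing R] [IsNoetherianRing R] (I : Ideal R)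

/-- Key inductive step: if `r ∈ I ∩ m` is `M`-regular and `H^j_I(M/rM)` is Artinian then
`H^{j+1}_I(M)` is Artinian. -/
theorem isArtinian_succ_of_isSMulRegular (M : ModuleCat.{u} R) (r : R) (hrI : r ∈ I)
    (hrm : r ∈ maximalIdeal R) (hreg : IsSMulRegular M r) (j : ℕ)
    (hA : IsArtinian R ((localCohomology I j).obj (M.smulShortComplex r).X₃)) :
    IsArtinian R ((localCohomology I (j + 1)).obj M) := by
  have hS := hreg.smulShortComplex_shortExact
  apply isArtinian_of_isTorsion_of_isArtinian_torsionBy (Ideal.span {r})
    ((Ideal.span_singleton_le_iff_mem _).2 hrm)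
  · intro x
    obtain ⟨n, hn⟩ := isTorsion_H I (j + 1) M x
    refine ⟨n, fun c hc => hn c ?_⟩
    exact Ideal.pow_right_mono ((Ideal.span_singleton_le_iff_mem _).2 hrI) n hc
  · -- `(0 :_H r)` is the image of the connecting map
    let δ' : (localCohomology I j).obj (M.smulShortComplex r).X₃ →ₗ[R]
        (localCohomology I (j + 1)).obj M := δ I hS j (j + 1) rfl
    have hrange : IsArtinian R ↥(LinearMap.range δ') :=
      isArtinian_of_surjective _ δ'.rangeRestrict δ'.surjective_rangeRestrict
    refine isArtinian_of_le (t := LinearMap.range δ') ?_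
    intro x hx
    rw [Submodule.mem_torsionBySet_iff] at hx
    have hrx : r • x = 0 := hx ⟨r, Ideal.mem_span_singleton_self r⟩
    have hx0 : ((localCohomology I (j + 1)).map (M.smulShortComplex r).f).hom x = 0 := by
      change ((localCohomology I (j + 1)).map (r • 𝟙 M)).hom x = 0
      rw [map_smul_id]
      exact hrx
    obtain ⟨y, hy⟩ := exact₁ I hS j (j + 1) rfl x hx0
    exact ⟨y, hy⟩

omit [IsLocalRing R] in
/-- Reduction to the `I`-torsion-free quotient in positive degrees. -/
theorem isArtinian_of_quotient_powTorsion (M : Type u) [AddCommGroup M] [Module R M] (i : ℕ)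
    (hi : 0 < i)
    (hA : IsArtinian R ((localCohomology I i).obj (ModuleCat.of R (M ⧸ powTorsion I M)))) :
    IsArtinian R ((localCohomology I i).obj (ModuleCat.of R M)) := by
  let T : Submodule R M := powTorsion I M
  have hS₁ := subQuotSC_shortExact T
  have hT : Subsingleton ((localCohomology I i).obj (subQuotSC T).X₁) :=
    subsingleton_of_isTorsion I i hi (ModuleCat.of R T) (isTorsion_powTorsion I M)
  have hinj := map_g_injective_of_subsingleton I hS₁ i hT
  have hA' : IsArtinian R ((localCohomology I i).obj (subQuotSC T).X₃) := hA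
  exact isArtinian_of_injective ((localCohomology I i).map (subQuotSC T).g).hom hinj

end Step

section Main

/-- A finite module of dimension `≤ 0` over a Noetherian ring is Artinian. -/
theorem isArtinian_of_supportDim_le_zero [IsNoetherianRing R] (N : Type u) [AddCommGroup N] [Module R N]
    [Module.Finite R N] (h : Module.supportDim R N ≤ 0) : IsArtinian R N := by
  rw [Module.supportDim_eq_ringKrullDim_quotient_annihilator] at h
  have h0 : Ring.KrullDimLE 0 (R ⧸ Module.annihilator R N) := by
    rw [Ring.krullDimLE_iff]; exact_mod_cast h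
  have hart : IsArtinianRing (R ⧸ Module.annihilator R N) :=
    IsNoetherianRing.isArtinianRing_of_krullDimLE_zero
  let _ : Module (R ⧸ Module.annihilator R N) N := Module.quotientAnnihilator
  have : IsScalarTower R (R ⧸ Module.annihilator R N) N :=
    Module.IsTorsionBySet.isScalarTower (Module.isTorsionBySet_annihilator R N)
  have : Module.Finite (R ⧸ Module.annihilator R N) N :=
    Module.Finite.of_restrictScalars_finite R _ _
  have h1 : IsArtinian (R ⧸ Module.annihilator R N) N := inferInstance
  exact isArtinian_of_surjective_algebraMap (R := R ⧸ Module.annihilator R N)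
    Ideal.Quotient.mk_surjective

variable [IsLocalRing R] [IsNoetherianRing R]

/-- `H^i_m(M)` is Artinian for every finite module `M` over a Noetherian local ring. -/
theorem isArtinian_maximalIdeal (i : ℕ) :
    ∀ (M : Type u) [AddCommGroup M] [Module R M] [Module.Finite R M],
      IsArtinian R ((localCohomology (maximalIdeal R) i).obj (ModuleCat.of R M)) := by
  induction i with
  | zero =>
    intro M _ _ _
    have : Module.Finite R ((localCohomology (maximalIdeal R) 0).obj (ModuleCat.of R M)) :=
      finite_zero (maximalIdeal R) M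
    exact isArtinian_of_isTorsion_of_finite _ (isTorsion_H (maximalIdeal R) 0 (ModuleCat.of R M))
  | succ j ih =>
    intro M _ _ _
    apply isArtinian_of_quotient_powTorsion (maximalIdeal R) M (j + 1) (by omega)
    obtain ⟨r, hrI, hreg⟩ := exists_isSMulRegular_mem (maximalIdeal R) (M ⧸ powTorsion (maximalIdeal R) M)
      (powTorsion_quotient_eq_bot (maximalIdeal R) M)
    have hQ : IsArtinian R ((localCohomology (maximalIdeal R) j).obj
        ((ModuleCat.of R (M ⧸ powTorsion (maximalIdeal R) M)).smulShortComplex r).X₃) :=
      ih (QuotSMulTop r (M ⧸ powTorsion (maximalIdeal R) M))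
    exact isArtinian_succ_of_isSMulRegular (maximalIdeal R)
      (ModuleCat.of R (M ⧸ powTorsion (maximalIdeal R) M)) r hrI hrI hreg j hQ

/-- `H^n_I(M)` is Artinian for every ideal `I` and every finite module `M` with `dim M ≤ n`, over a
Noetherian local ring. -/
theorem isArtinian_top (I : Ideal R) (n : ℕ) :
    ∀ (M : Type u) [AddCommGroup M] [Module R M] [Module.Finite R M],
      Module.supportDim R M ≤ (n : WithBot ℕ∞) →
      IsArtinian R ((localCohomology I n).obj (ModuleCat.of R M)) := by
  by_cases hI : I = ⊤
  · intro M _ _ _ _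
    have hsub : Subsingleton ((localCohomology I n).obj (ModuleCat.of R M)) := by
      refine subsingleton_of_forall_eq 0 fun x => ?_
      obtain ⟨k, hk⟩ := isTorsion_H I n (ModuleCat.of R M) x
      have := hk 1 (by rw [hI, Ideal.top_pow]; trivial)
      rwa [one_smul] at this
    infer_instance
  have hIm : I ≤ maximalIdeal R := le_maximalIdeal hI
  induction n with
  | zero =>
    intro M _ _ _ hdim
    have : Module.Finite R ((localCohomology I 0).obj (ModuleCat.of R M)) := finite_zero I M
    -- `M` has finite length, hence is `m`-power torsion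
    have hMart : IsArtinian R M := isArtinian_of_supportDim_le_zero M (by exact_mod_cast hdim)
    exact isArtinian_of_injective (toMod I (ModuleCat.of R M)) (toMod_injective I _)
  | succ k ih =>
    intro M _ _ _ hdim
    apply isArtinian_of_quotient_powTorsion I M (k + 1) (by omega)
    have hdimbar : Module.supportDim R (M ⧸ powTorsion I M) ≤ ((k + 1 : ℕ) : WithBot ℕ∞) :=
      (Module.supportDim_le_of_surjective (powTorsion I M).mkQ (powTorsion I M).mkQ_surjective).trans hdim
    obtain ⟨r, hrI, hreg⟩ := exists_isSMulRegular_mem I (M ⧸ powTorsion I M)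
      (powTorsion_quotient_eq_bot I M)
    have hdimQ : Module.supportDim R (QuotSMulTop r (M ⧸ powTorsion I M)) + 1 ≤ ((k + 1 : ℕ) : WithBot ℕ∞) :=
      (Module.supportDim_quotSMulTop_succ_le_of_notMem_minimalPrimes
        (fun _ => hreg.notMem_of_mem_minimalPrimes)).trans hdimbar
    have hQ : IsArtinian R ((localCohomology I k).obj
        ((ModuleCat.of R (M ⧸ powTorsion I M)).smulShortComplex r).X₃) := by
      rcases withBot_enat_aux _ (k + 1) hdimQ with h | ⟨k', hk', hle⟩
      · have : Subsingleton (QuotSMulTop r (M ⧸ powTorsion I M)) :=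
          (Module.supportDim_eq_bot_iff_subsingleton R _).1 h
        have hsub : Subsingleton ((localCohomology I k).obj
            (ModuleCat.of R (QuotSMulTop r (M ⧸ powTorsion I M)))) :=
          subsingleton_of_subsingleton I k (ModuleCat.of R (QuotSMulTop r (M ⧸ powTorsion I M)))
        exact @isArtinian_of_finite _ _ _ _ _ (@Finite.of_subsingleton _ hsub)
      · have hkk : k' = k := by omega
        subst hkk
        exact ih (QuotSMulTop r (M ⧸ powTorsion I M)) hle
    exact isArtinian_succ_of_isSMulRegular I (ModuleCat.of R (M ⧸ powTorsion I M)) r hrI (hIm hrI) hreg k hQ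

end Main

end Groth.Agent.Lib.Helper41.LC
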