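import Groth.Agent.Lib.Helper41.LCRightExact
import Groth.Agent.Lib.Helper41.LCVanish
import Groth.Agent.Lib.Helper41.LCDim

/-!
# Top local cohomology (degree `dim R`)
-/

set_option autoImplicit false
universe u
open CategoryTheory CategoryTheory.Limits Opposite CategoryTheory.Abelian

namespace Groth.Agent.Lib.Helper41.LC

variable {R : Type u} [CommRing R] (I : Ideal R)

/-- Grothendieck vanishing above the dimension of the ring. -/
theorem subsingleton_of_ringKrullDim_lt [IsNoetherianRing R] (d : ℕ) (hd : ringKrullDim R = d)
    (i : ℕ) (hi : d < i) (M : ModuleCat.{u} R) :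
    Subsingleton ((localCohomology I i).obj M) := by
  apply subsingleton_of_supportDim_lt I M i
  refine lt_of_le_of_lt (Module.supportDim_le_ringKrullDim R M) ?_
  rw [hd]
  exact_mod_cast hi

/-- Multiplication by an element avoiding the top-dimensional minimal primes is surjective on
top local cohomology. -/
theorem smul_surjective_top [IsNoetherianRing R] (d : ℕ) (hd : ringKrullDim R = d) (f : R)
    (hf : ∀ p ∈ minimalPrimes R, ringKrullDim (R ⧸ p) = d → f ∉ p)
    (M : Type u) [AddCommGroup M] [Module R M] :
    Function.Surjective (fun x : (localCohomology I d).obj (ModuleCat.of R M) => f • x) := by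
  have hP : ∀ N : ModuleCat.{u} R, Subsingleton ((localCohomology I (d + 1)).obj N) := fun N =>
    subsingleton_of_ringKrullDim_lt I d hd (d + 1) (by omega) N
  let φ : M →ₗ[R] M := f • LinearMap.id
  let N : Submodule R M := LinearMap.range φ
  let g : ModuleCat.of R M ⟶ ModuleCat.of R N := ModuleCat.ofHom φ.rangeRestrict
  have hg : Function.Surjective g.hom := LinearMap.surjective_rangeRestrict _
  have hHg := map_surjective_of_surjective I d hP g hg
  have hS := subQuotSC_shortExact N
  have hQ : Subsingleton ((localCohomology I d).obj (subQuotSC N).X₃) := by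
    apply subsingleton_of_supportDim_lt I (M ⧸ N) d
    apply supportDim_lt_of_forall d hd
    intro q hq hqmin hqd
    apply hf q.asIdeal hqmin hqd
    obtain ⟨m, hm⟩ := Module.mem_support_iff_exists_annihilator.1 hq
    apply hm
    rw [Submodule.mem_annihilator_span_singleton]
    obtain ⟨m, rfl⟩ := N.mkQ_surjective m
    rw [← map_smul, Submodule.mkQ_apply, Submodule.Quotient.mk_eq_zero]
    exact ⟨m, rfl⟩
  have hHι := map_f_surjective_of_subsingleton I hS d hQ
  intro x
  obtain ⟨y, rfl⟩ := hHι x
  obtain ⟨z, rfl⟩ := hHg y
  refine ⟨z, ?_⟩
  change f • z = _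
  rw [← map_smul_id]
  let ι : ModuleCat.of R N ⟶ ModuleCat.of R M := ModuleCat.ofHom N.subtype
  have hcomp : f • 𝟙 (ModuleCat.of R M) = g ≫ ι := by
    apply ModuleCat.hom_ext
    apply LinearMap.ext
    intro m
    rfl
  rw [hcomp, Functor.map_comp]
  rfl

/-- Local cohomology of isomorphic modules. -/
theorem subsingleton_of_linearEquiv (i : ℕ) {M N : Type u} [AddCommGroup M] [Module R M]
    [AddCommGroup N] [Module R N] (e : M ≃ₗ[R] N)
    (h : Subsingleton ((localCohomology I i).obj (ModuleCat.of R N))) :
    Subsingleton ((localCohomology I i).obj (ModuleCat.of R M)) := by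
  have hiso : IsIso ((localCohomology I i).map e.toModuleIso.hom) := inferInstance
  exact (ConcreteCategory.bijective_of_isIso
    ((localCohomology I i).map e.toModuleIso.hom)).1.subsingleton

/-- If `H^i_I(R/p) = 0` for all primes `p`, then `H^i_I(M) = 0` for all modules `M`
(Noetherian case; prime filtration + finitely generated submodules). -/
theorem forall_subsingleton_of_quotient_prime [IsNoetherianRing R] (i : ℕ)
    (h : ∀ p : PrimeSpectrum R,
      Subsingleton ((localCohomology I i).obj (ModuleCat.of R (R ⧸ p.asIdeal)))) :
    ∀ M : ModuleCat.{u} R, Subsingleton ((localCohomology I i).obj M) := by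
  have key : ∀ (N : Type u) [AddCommGroup N] [Module R N] [Module.Finite R N],
      Subsingleton ((localCohomology I i).obj (ModuleCat.of R N)) := by
    intro N _ _ hN
    induction hN using IsNoetherianRing.induction_on_isQuotientEquivQuotientPrime R with
    | subsingleton N => exact subsingleton_of_subsingleton I i (ModuleCat.of R N)
    | quotient N p e => exact subsingleton_of_linearEquiv I i e (h p)
    | exact N₁ N₂ N₃ f g hf hg hfg h₁ h₃ =>
      let S : ShortComplex (ModuleCat.{u} R) :=
        ShortComplex.mk (ModuleCat.ofHom f) (ModuleCat.ofHom g) (by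
          ext x
          exact hfg.apply_apply_eq_zero x)
      have hS : S.ShortExact := by
        apply ModuleCat.shortComplex_shortExact
        · intro y
          exact hfg y
        · exact hf
        · exact hg
      refine ⟨fun x y => ?_⟩
      have key : ∀ x : (localCohomology I i).obj S.X₂, x = 0 := by
        intro x
        have h₃' : Subsingleton ((localCohomology I i).obj S.X₃) := h₃
        have h₁' : Subsingleton ((localCohomology I i).obj S.X₁) := h₁
        obtain ⟨x₁, rfl⟩ := exact₂ I hS i x (Subsingleton.elim _ _)
        rw [Subsingleton.elim x₁ 0, map_zero]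
      exact (key x).trans (key y).symm
  intro M
  apply subsingleton_of_forall_fg
  intro M' hM'
  have : Module.Finite R M' := Module.Finite.iff_fg.2 hM'
  exact key M'

end Groth.Agent.Lib.Helper41.LC
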