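import Mathlib.Algebra.Homology.LocalCohomology
import Mathlib.Algebra.Category.ModuleCat.Ext.HasExt
import Mathlib.Algebra.Category.ModuleCat.Ext.Basic
import Mathlib.Algebra.Homology.DerivedCategory.Ext.ExactSequences
import Mathlib.Algebra.Homology.ShortComplex.ModuleCat
import Mathlib.CategoryTheory.Abelian.Projective.Ext

set_option autoImplicit false
universe u
open CategoryTheory CategoryTheory.Limits Opposite

namespace Groth.Agent.Lib.Helper41.OldExt

section
variable {V : Type*} [Category V] [Abelian V] {ι : Type*} {c : ComplexShape ι}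

lemma homologyUnop_hom_naturality {K L : HomologicalComplex Vᵒᵖ c} (ψ : K ⟶ L) (i : ι) :
    HomologicalComplex.homologyMap ((HomologicalComplex.unopFunctor V c).map ψ.op) i ≫ (K.homologyUnop i).hom =
      (L.homologyUnop i).hom ≫ (HomologicalComplex.homologyMap ψ i).unop := by
  have h := HomologicalComplex.homologyOp_hom_naturality ((HomologicalComplex.unopFunctor V c).map ψ.op) i
  have h2 := congrArg Quiver.Hom.unop h
  simp only [unop_comp] at h2
  exact h2.symm

end

variable {R : Type u} [CommRing R]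

/-- Postcomposition map of Hom complexes. -/
noncomputable def yonedaMap (P : ChainComplex (ModuleCat.{u} R) ℕ) {Y Y' : ModuleCat.{u} R}
    (g : Y ⟶ Y') : P.linearYonedaObj R Y ⟶ P.linearYonedaObj R Y' :=
  (HomologicalComplex.unopFunctor _ _).map
    ((NatTrans.mapHomologicalComplex (NatTrans.rightOp ((linearYoneda R (ModuleCat.{u} R)).map g)) _).app P).op

lemma unop_aux {V : Type*} [Category V] {A A' B B' : Vᵒᵖ} (a : A' ≅ B') (b : A ≅ B) (h : B' ⟶ B)
    {T' : V} (u' : unop B' ⟶ T') :
    (a.hom ≫ h ≫ b.inv).unop ≫ a.inv.unop ≫ u' = b.inv.unop ≫ h.unop ≫ u' := by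
  rw [unop_comp, unop_comp, Category.assoc, Category.assoc]
  have : a.hom.unop ≫ a.inv.unop = 𝟙 _ := by rw [← unop_comp, Iso.inv_hom_id, unop_id]
  rw [reassoc_of% this]

lemma isoExt_hom_naturality_right_aux {X : ModuleCat.{u} R} (P : ProjectiveResolution X) (n : ℕ)
    {Y Y' : ModuleCat.{u} R} (g : Y ⟶ Y') :
    ((NatTrans.leftDerived (NatTrans.rightOp ((linearYoneda R (ModuleCat.{u} R)).map g)) n).app X).unop ≫
      (P.isoLeftDerivedObj ((linearYoneda R (ModuleCat.{u} R)).obj Y').rightOp n).inv.unop ≫
        (HomologicalComplex.homologyUnop _ n).inv =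
    (P.isoLeftDerivedObj ((linearYoneda R (ModuleCat.{u} R)).obj Y).rightOp n).inv.unop ≫
        (HomologicalComplex.homologyUnop _ n).inv ≫
      HomologicalComplex.homologyMap (yonedaMap P.complex g) n := by
  rw [ProjectiveResolution.leftDerived_app_eq _ P]
  refine (unop_aux _ _ _ _).trans ?_
  congr 1
  have key := homologyUnop_hom_naturality
    ((NatTrans.mapHomologicalComplex (NatTrans.rightOp ((linearYoneda R (ModuleCat.{u} R)).map g))
      (ComplexShape.down ℕ)).app P.complex) n
  rw [← cancel_mono (HomologicalComplex.homologyUnop _ n).hom]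
  refine Eq.trans ?_ (Eq.trans (congrArg (fun z => (HomologicalComplex.homologyUnop _ n).inv ≫ z) key).symm ?_)
  · rw [Iso.inv_hom_id_assoc, Category.assoc]
    erw [Iso.inv_hom_id, Category.comp_id]
    rfl
  · exact (Category.assoc _ _ _).symm

lemma isoExt_hom_naturality_right {X : ModuleCat.{u} R} (P : ProjectiveResolution X) (n : ℕ)
    {Y Y' : ModuleCat.{u} R} (g : Y ⟶ Y') :
    ((Ext R (ModuleCat.{u} R) n).obj (op X)).map g ≫ (P.isoExt n Y').hom =
      (P.isoExt n Y).hom ≫ HomologicalComplex.homologyMap (yonedaMap P.complex g) n := by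
  have := isoExt_hom_naturality_right_aux P n g
  dsimp only [ProjectiveResolution.isoExt, Iso.trans_hom, Iso.symm_hom, Iso.unop_inv]
  rw [Category.assoc]
  exact this

/-- Precomposition map of Hom complexes. -/
noncomputable def yonedaMapLeft {P P' : ChainComplex (ModuleCat.{u} R) ℕ} (φ : P ⟶ P') (Y : ModuleCat.{u} R) :
    P'.linearYonedaObj R Y ⟶ P.linearYonedaObj R Y :=
  (HomologicalComplex.unopFunctor _ _).map
    ((((linearYoneda R (ModuleCat.{u} R)).obj Y).rightOp.mapHomologicalComplex _).map φ).op

lemma isoExt_hom_naturality_left_aux {X X' : ModuleCat.{u} R} (f : X ⟶ X') (P : ProjectiveResolution X)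
    (P' : ProjectiveResolution X') (φ : P.complex ⟶ P'.complex)
    (comm : φ.f 0 ≫ P'.π.f 0 = P.π.f 0 ≫ f) (n : ℕ) (Y : ModuleCat.{u} R) :
    ((((linearYoneda R (ModuleCat.{u} R)).obj Y).rightOp.leftDerived n).map f).unop ≫
      (P.isoLeftDerivedObj ((linearYoneda R (ModuleCat.{u} R)).obj Y).rightOp n).inv.unop ≫
        (HomologicalComplex.homologyUnop _ n).inv =
    (P'.isoLeftDerivedObj ((linearYoneda R (ModuleCat.{u} R)).obj Y).rightOp n).inv.unop ≫
        (HomologicalComplex.homologyUnop _ n).inv ≫
      HomologicalComplex.homologyMap (yonedaMapLeft φ Y) n := by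
  have h := ProjectiveResolution.isoLeftDerivedObj_inv_naturality f P P' φ comm
    ((linearYoneda R (ModuleCat.{u} R)).obj Y).rightOp n
  have h2 := congrArg Quiver.Hom.unop h
  rw [unop_comp, unop_comp] at h2
  rw [reassoc_of% h2]
  congr 1
  have key := homologyUnop_hom_naturality
    ((((linearYoneda R (ModuleCat.{u} R)).obj Y).rightOp.mapHomologicalComplex _).map φ) n
  rw [← cancel_mono (HomologicalComplex.homologyUnop _ n).hom]
  refine Eq.trans ?_ (Eq.trans (congrArg (fun z => (HomologicalComplex.homologyUnop _ n).inv ≫ z) key).symm ?_)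
  · rw [Iso.inv_hom_id_assoc, Category.assoc]
    erw [Iso.inv_hom_id, Category.comp_id]
    rfl
  · exact (Category.assoc _ _ _).symm

lemma isoExt_hom_naturality_left {X X' : ModuleCat.{u} R} (f : X ⟶ X') (P : ProjectiveResolution X)
    (P' : ProjectiveResolution X') (φ : P.complex ⟶ P'.complex)
    (comm : φ.f 0 ≫ P'.π.f 0 = P.π.f 0 ≫ f) (n : ℕ) (Y : ModuleCat.{u} R) :
    ((Ext R (ModuleCat.{u} R) n).map f.op).app Y ≫ (P.isoExt n Y).hom =
      (P'.isoExt n Y).hom ≫ HomologicalComplex.homologyMap (yonedaMapLeft φ Y) n := by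
  have := isoExt_hom_naturality_left_aux f P P' φ comm n Y
  dsimp only [ProjectiveResolution.isoExt, Iso.trans_hom, Iso.symm_hom, Iso.unop_inv]
  rw [Category.assoc]
  exact this

section Elements
variable {X : ModuleCat.{u} R} (P : ProjectiveResolution X) (Y : ModuleCat.{u} R) (n : ℕ)

/-- The complex `Hom(P_•, Y)`. -/
noncomputable abbrev homCx : CochainComplex (ModuleCat.{u} R) ℕ := P.complex.linearYonedaObj R Y

/-- The underlying morphism of a cycle. -/
noncomputable def cycleHom (c : (homCx P Y).cycles n) : P.complex.X n ⟶ Y :=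
  ((homCx P Y).iCycles n).hom c

lemma cycleHom_add (c c' : (homCx P Y).cycles n) :
    cycleHom P Y n (c + c') = cycleHom P Y n c + cycleHom P Y n c' :=
  map_add _ _ _

lemma cycleHom_smul (r : R) (c : (homCx P Y).cycles n) :
    cycleHom P Y n (r • c) = r • cycleHom P Y n c :=
  map_smul _ _ _

lemma d_cycleHom (c : (homCx P Y).cycles n) : P.complex.d (n + 1) n ≫ cycleHom P Y n c = 0 := by
  have h := (homCx P Y).iCycles_d n (n + 1)
  have h2 := congrArg (fun φ => φ.hom c) h
  exact h2

lemma cycleHom_injective : Function.Injective (cycleHom P Y n) := by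
  have : Mono ((homCx P Y).iCycles n) := inferInstance
  exact (ModuleCat.mono_iff_injective _).1 this

lemma exists_cycle (f : P.complex.X n ⟶ Y) (hf : P.complex.d (n + 1) n ≫ f = 0) :
    ∃ c : (homCx P Y).cycles n, cycleHom P Y n c = f := by
  let k : ModuleCat.of R R ⟶ (homCx P Y).X n := ModuleCat.ofHom (LinearMap.toSpanSingleton R _ f)
  have hk : k ≫ (homCx P Y).d n (n + 1) = 0 := by
    ext
    simp only [ModuleCat.hom_comp, LinearMap.comp_apply, ModuleCat.hom_zero, LinearMap.zero_apply]
    change P.complex.d (n + 1) n ≫ (LinearMap.toSpanSingleton R _ f 1) = 0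
    simp [hf]
  refine ⟨((homCx P Y).liftCycles k (n + 1) (CochainComplex.next ℕ n) hk).hom 1, ?_⟩
  have := (homCx P Y).liftCycles_i k (n + 1) (CochainComplex.next ℕ n) hk
  have h2 := congrArg (fun φ => φ.hom (1 : R)) this
  simp only [ModuleCat.hom_comp, LinearMap.comp_apply] at h2
  refine h2.trans ?_
  change (LinearMap.toSpanSingleton R (P.complex.X n ⟶ Y) f) 1 = f
  rw [LinearMap.toSpanSingleton_apply, one_smul]

open CategoryTheory.Abelian

lemma smul_extMk (r : R) (f : P.complex.X n ⟶ Y) (hf : P.complex.d (n + 1) n ≫ f = 0) :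
    r • P.extMk f (n + 1) rfl hf = P.extMk (r • f) (n + 1) rfl (by rw [Linear.comp_smul, hf, smul_zero]) := by
  rw [Ext.smul_eq_comp_mk₀, ProjectiveResolution.extMk_comp_mk₀]
  congr 1

/-- Cycles of `Hom(P, Y)` to `Ext`. -/
noncomputable def cyclesToExt : (homCx P Y).cycles n →ₗ[R] Ext.{u} X Y n where
  toFun c := P.extMk (cycleHom P Y n c) (n + 1) rfl (d_cycleHom P Y n c)
  map_add' c c' := by
    rw [ProjectiveResolution.add_extMk]
    congr 1
    exact cycleHom_add P Y n c c'
  map_smul' r c := by
    rw [RingHom.id_apply, smul_extMk]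
    congr 1
    exact cycleHom_smul P Y n r c

lemma cyclesToExt_apply (c : (homCx P Y).cycles n) :
    cyclesToExt P Y n c = P.extMk (cycleHom P Y n c) (n + 1) rfl (d_cycleHom P Y n c) := rfl

lemma extMk_zero_eq_zero_iff (f : P.complex.X 0 ⟶ Y) (hf : P.complex.d 1 0 ≫ f = 0) :
    P.extMk f 1 rfl hf = 0 ↔ f = 0 := by
  constructor
  · intro h
    have h1 := congrArg P.extEquivCohomologyClass h
    rw [ProjectiveResolution.extEquivCohomologyClass_extMk, ProjectiveResolution.extEquivCohomologyClass_zero,
      CochainComplex.HomComplex.CohomologyClass.mk_eq_zero_iff] at h1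
    rw [CochainComplex.HomComplex.Cocycle.toSingleMk_mem_coboundaries_iff _ _ _ _ _ 1 (by simp)] at h1
    obtain ⟨g, hg⟩ := h1
    have hz : IsZero (P.cochainComplex.X 1) := CochainComplex.isZero_of_isStrictlyLE P.cochainComplex 0 1 (by omega)
    rw [hz.eq_of_src g 0, comp_zero] at hg
    have := hg.symm
    rwa [← cancel_epi (P.cochainComplexXIso (-(0 : ℕ)) 0 rfl).hom, comp_zero]
  · rintro rfl
    exact P.extMk_zero 1 rfl

lemma toCycles_cyclesToExt (i : ℕ) (g : (homCx P Y).X i) :
    cyclesToExt P Y n (((homCx P Y).toCycles i n).hom g) = 0 := by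
  rw [cyclesToExt_apply]
  have hc : cycleHom P Y n (((homCx P Y).toCycles i n).hom g) = P.complex.d n i ≫ g := by
    have := (homCx P Y).toCycles_i i n
    exact congrArg (fun φ => φ.hom g) this
  by_cases hin : i + 1 = n
  · subst hin
    rw [ProjectiveResolution.extMk_eq_zero_iff _ _ _ _ _ i rfl]
    exact ⟨g, hc.symm⟩
  · have : P.complex.d n i = 0 := P.complex.shape _ _ (by simpa using hin)
    rw [this, zero_comp] at hc
    simp only [hc]
    exact P.extMk_zero _ rfl

/-- The comparison from the homology of `Hom(P, Y)` to `Ext`. -/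
noncomputable def homologyToExt : (homCx P Y).homology n ⟶ ModuleCat.of R (Ext.{u} X Y n) :=
  ((homCx P Y).homologyIsCokernel _ n rfl).desc
    (CokernelCofork.ofπ (ModuleCat.ofHom (cyclesToExt P Y n)) (by
      ext g
      exact toCycles_cyclesToExt P Y n _ g))

lemma homologyπ_homologyToExt :
    (homCx P Y).homologyπ n ≫ homologyToExt P Y n = ModuleCat.ofHom (cyclesToExt P Y n) :=
  ((homCx P Y).homologyIsCokernel _ n rfl).fac _ WalkingParallelPair.one

lemma homologyToExt_π_apply (c : (homCx P Y).cycles n) :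
    (homologyToExt P Y n).hom (((homCx P Y).homologyπ n).hom c) = cyclesToExt P Y n c :=
  congrArg (fun φ => φ.hom c) (homologyπ_homologyToExt P Y n)

lemma homologyπ_surjective : Function.Surjective ((homCx P Y).homologyπ n).hom :=
  (ModuleCat.epi_iff_surjective _).1 inferInstance

lemma homologyToExt_bijective : Function.Bijective (homologyToExt P Y n).hom := by
  constructor
  · rw [injective_iff_map_eq_zero]
    intro x hx
    obtain ⟨c, rfl⟩ := homologyπ_surjective P Y n x
    rw [homologyToExt_π_apply, cyclesToExt_apply] at hx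
    obtain _ | p := n
    · rw [extMk_zero_eq_zero_iff] at hx
      have : c = 0 := cycleHom_injective P Y 0 (by rw [hx]; exact (map_zero _).symm)
      rw [this, map_zero]
    · rw [ProjectiveResolution.extMk_eq_zero_iff _ _ _ _ _ p rfl] at hx
      obtain ⟨g, hg⟩ := hx
      have hc : c = ((homCx P Y).toCycles p (p + 1)).hom g := by
        apply cycleHom_injective P Y (p + 1)
        rw [← hg]
        have := (homCx P Y).toCycles_i p (p + 1)
        exact (congrArg (fun φ => φ.hom g) this).symm
      rw [hc]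
      have := (homCx P Y).toCycles_comp_homologyπ p (p + 1)
      exact congrArg (fun φ => φ.hom g) this
  · intro α
    obtain ⟨f, hf, rfl⟩ := P.extMk_surjective α (n + 1) rfl
    obtain ⟨c, rfl⟩ := exists_cycle P Y n f hf
    exact ⟨((homCx P Y).homologyπ n).hom c, homologyToExt_π_apply P Y n c⟩

end Elements

section Comparison
open CategoryTheory.Abelian

variable {X : ModuleCat.{u} R} (P : ProjectiveResolution X)

lemma cyclesMap_yonedaMap_cycleHom {Y Y' : ModuleCat.{u} R} (g : Y ⟶ Y') (n : ℕ) (c : (homCx P Y).cycles n) :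
    cycleHom P Y' n ((HomologicalComplex.cyclesMap (yonedaMap P.complex g) n).hom c) = cycleHom P Y n c ≫ g := by
  have := HomologicalComplex.cyclesMap_i (yonedaMap P.complex g) n
  exact congrArg (fun φ => φ.hom c) this

lemma homologyToExt_naturality_right {Y Y' : ModuleCat.{u} R} (g : Y ⟶ Y') (n : ℕ) (x : (homCx P Y).homology n) :
    (homologyToExt P Y' n).hom ((HomologicalComplex.homologyMap (yonedaMap P.complex g) n).hom x) =
      ((homologyToExt P Y n).hom x).comp (Ext.mk₀ g) (add_zero n) := by
  obtain ⟨c, rfl⟩ := homologyπ_surjective P Y n x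
  have h1 := HomologicalComplex.homologyπ_naturality (yonedaMap P.complex g) n
  have h2 := congrArg (fun φ => φ.hom c) h1
  simp only [ModuleCat.hom_comp, LinearMap.comp_apply] at h2
  rw [h2, homologyToExt_π_apply, homologyToExt_π_apply, cyclesToExt_apply, cyclesToExt_apply,
    ProjectiveResolution.extMk_comp_mk₀]
  congr 1
  exact cyclesMap_yonedaMap_cycleHom P g n c

variable {X' : ModuleCat.{u} R} (P' : ProjectiveResolution X') {f : X ⟶ X'} (φ : ProjectiveResolution.Hom P P' f)

lemma cyclesMap_yonedaMapLeft_cycleHom (Y : ModuleCat.{u} R) (n : ℕ) (c : (homCx P' Y).cycles n) :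
    cycleHom P Y n ((HomologicalComplex.cyclesMap (yonedaMapLeft φ.hom Y) n).hom c) =
      φ.hom.f n ≫ cycleHom P' Y n c := by
  have := HomologicalComplex.cyclesMap_i (yonedaMapLeft φ.hom Y) n
  exact congrArg (fun φ => φ.hom c) this

lemma homologyToExt_naturality_left (Y : ModuleCat.{u} R) (n : ℕ) (x : (homCx P' Y).homology n) :
    (homologyToExt P Y n).hom ((HomologicalComplex.homologyMap (yonedaMapLeft φ.hom Y) n).hom x) =
      (Ext.mk₀ f).comp ((homologyToExt P' Y n).hom x) (zero_add n) := by
  obtain ⟨c, rfl⟩ := homologyπ_surjective P' Y n x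
  have h1 := HomologicalComplex.homologyπ_naturality (yonedaMapLeft φ.hom Y) n
  have h2 := congrArg (fun φ => φ.hom c) h1
  simp only [ModuleCat.hom_comp, LinearMap.comp_apply] at h2
  rw [h2, homologyToExt_π_apply, homologyToExt_π_apply, cyclesToExt_apply, cyclesToExt_apply,
    ProjectiveResolution.mk₀_comp_extMk _ _ _ _ φ]
  congr 1
  exact cyclesMap_yonedaMapLeft_cycleHom P P' φ Y n c

end Comparison

section Main
open CategoryTheory.Abelian

/-- Old-style Ext as an object. -/
noncomputable abbrev oldExt (n : ℕ) (X Y : ModuleCat.{u} R) : ModuleCat.{u} R :=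
  ((Ext R (ModuleCat.{u} R) n).obj (op X)).obj Y

/-- The comparison isomorphism from Mathlib's old-style `Ext` to `Abelian.Ext`, as a linear equivalence. -/
noncomputable def oldNew (n : ℕ) (X Y : ModuleCat.{u} R) : oldExt n X Y ≃ₗ[R] Ext.{u} X Y n :=
  LinearEquiv.ofBijective
    (((ProjectiveResolution.of X).isoExt n Y).hom ≫ homologyToExt (ProjectiveResolution.of X) Y n).hom (by
      rw [ModuleCat.hom_comp, LinearMap.coe_comp]
      refine (homologyToExt_bijective _ Y n).comp ?_
      exact ConcreteCategory.bijective_of_isIso _)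

lemma oldNew_apply (n : ℕ) (X Y : ModuleCat.{u} R) (x : oldExt n X Y) :
    oldNew n X Y x = (homologyToExt (ProjectiveResolution.of X) Y n).hom
      (((ProjectiveResolution.of X).isoExt n Y).hom.hom x) := rfl

/-- Naturality of `oldNew` in the second variable. -/
lemma oldNew_map_right (n : ℕ) (X : ModuleCat.{u} R) {Y Y' : ModuleCat.{u} R} (g : Y ⟶ Y') (x : oldExt n X Y) :
    oldNew n X Y' ((((Ext R (ModuleCat.{u} R) n).obj (op X)).map g).hom x) =
      (oldNew n X Y x).comp (Ext.mk₀ g) (add_zero n) := by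
  rw [oldNew_apply, oldNew_apply, ← homologyToExt_naturality_right]
  congr 1
  have := isoExt_hom_naturality_right (ProjectiveResolution.of X) n g
  exact congrArg (fun φ => φ.hom x) this

/-- Naturality of `oldNew` in the first variable. -/
lemma oldNew_map_left (n : ℕ) {X X' : ModuleCat.{u} R} (f : X ⟶ X') (Y : ModuleCat.{u} R) (x : oldExt n X' Y) :
    oldNew n X Y ((((Ext R (ModuleCat.{u} R) n).map f.op).app Y).hom x) =
      (Ext.mk₀ f).comp (oldNew n X' Y x) (zero_add n) := by
  let φ : ProjectiveResolution.Hom (ProjectiveResolution.of X) (ProjectiveResolution.of X') f :=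
    { hom := ProjectiveResolution.lift f _ _
      hom_f_zero_comp_π_f_zero := by
        rw [ProjectiveResolution.lift_commutes_zero]
        rfl }
  rw [oldNew_apply, oldNew_apply, ← homologyToExt_naturality_left _ _ φ]
  congr 1
  have := isoExt_hom_naturality_left f (ProjectiveResolution.of X) (ProjectiveResolution.of X') φ.hom
    (ProjectiveResolution.lift_commutes_zero f _ _) n Y
  exact congrArg (fun φ => φ.hom x) this

end Main
end Groth.Agent.Lib.Helper41.OldExt
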