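import Groth.Agent.Lib.Helper41.OldExt
import Mathlib.Algebra.Category.ModuleCat.FilteredColimits

/-!
# Element-level API for Mathlib's `localCohomology I i` (= colim_n Ext^i(R/I^n, -))

Elements of `(localCohomology I i).obj M` are described through `Abelian.Ext (R/I^n) M i`
(via the natural iso `OldExt.oldNew`), and we derive the long exact sequence for short exact
sequences of modules.
-/

set_option autoImplicit false
universe u
open CategoryTheory CategoryTheory.Limits Opposite CategoryTheory.Abelian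

namespace Groth.Agent.Lib.Helper41.LC

open Groth.Agent.Lib.Helper41.OldExt

variable {R : Type u} [CommRing R]

instance preservesColimitsOfShape_nat_forget' :
    PreservesColimitsOfShape ℕᵒᵖᵒᵖ (forget (ModuleCat.{u} R)) :=
  have : PreservesFilteredColimitsOfSize.{0, 0} (forget (ModuleCat.{u} R)) :=
    preservesSmallestFilteredColimits_of_preservesFilteredColimits.{u, u} _
  PreservesFilteredColimitsOfSize.preserves_filtered_colimits _

variable (I : Ideal R)

/-- `R/I^n` as an object of `ModuleCat R`. -/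
abbrev Q (n : ℕ) : ModuleCat.{u} R := ModuleCat.of R (R ⧸ I ^ n)

/-- The projection `R/I^m → R/I^n` for `n ≤ m`. -/
def proj {n m : ℕ} (h : n ≤ m) : Q I m ⟶ Q I n :=
  ModuleCat.ofHom (Submodule.mapQ _ _ LinearMap.id (Ideal.pow_le_pow_right h))

lemma proj_refl (n : ℕ) : proj I (le_refl n) = 𝟙 _ := by
  apply ModuleCat.hom_ext
  apply LinearMap.ext
  intro x
  obtain ⟨x, rfl⟩ := Submodule.Quotient.mk_surjective _ x
  rfl

lemma proj_comp {n m k : ℕ} (h : n ≤ m) (h' : m ≤ k) : proj I h' ≫ proj I h = proj I (h.trans h') := by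
  apply ModuleCat.hom_ext
  apply LinearMap.ext
  intro x
  obtain ⟨x, rfl⟩ := Submodule.Quotient.mk_surjective _ x
  rfl

variable (i : ℕ) (M : ModuleCat.{u} R)

/-- The diagram `n ↦ Ext^i(R/I^n, M)` (old-style Ext). -/
noncomputable abbrev evalDiagram : ℕᵒᵖᵒᵖ ⥤ ModuleCat.{u} R :=
  localCohomology.diagram (localCohomology.idealPowersDiagram I) i ⋙ (evaluation _ _).obj M

/-- The colimit cocone on `evalDiagram` with point `H^i_I(M)`. -/
noncomputable def evalCocone : Cocone (evalDiagram I i M) :=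
  ((evaluation _ _).obj M).mapCocone
    (colimit.cocone (localCohomology.diagram (localCohomology.idealPowersDiagram I) i))

/-- It is a colimit cocone. -/
noncomputable def evalCoconeIsColimit : IsColimit (evalCocone I i M) :=
  isColimitOfPreserves ((evaluation _ _).obj M) (colimit.isColimit _)

example : (evalCocone I i M).pt = (localCohomology I i).obj M := rfl

/-- The structure map `Ext^i(R/I^n, M) → H^i_I(M)`. -/
noncomputable def ιH (n : ℕ) : Ext.{u} (Q I n) M i →ₗ[R] (localCohomology I i).obj M :=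
  ((evalCocone I i M).ι.app (op (op n))).hom ∘ₗ (oldNew i (Q I n) M).symm.toLinearMap

variable {I i M}

lemma ιH_apply (n : ℕ) (e : Ext.{u} (Q I n) M i) :
    ιH I i M n e = ((evalCocone I i M).ι.app (op (op n))).hom ((oldNew i (Q I n) M).symm e) := rfl

lemma ι_eq_ιH (n : ℕ) (y : oldExt i (Q I n) M) :
    ((evalCocone I i M).ι.app (op (op n))).hom y = ιH I i M n (oldNew i (Q I n) M y) := by
  rw [ιH_apply, LinearEquiv.symm_apply_apply]

lemma exists_rep (x : (localCohomology I i).obj M) : ∃ (n : ℕ) (e : Ext.{u} (Q I n) M i), ιH I i M n e = x := by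
  obtain ⟨j, y, hy⟩ := Concrete.isColimit_exists_rep (evalDiagram I i M) (evalCoconeIsColimit I i M) x
  refine ⟨j.unop.unop, oldNew i _ M y, ?_⟩
  rw [← ι_eq_ιH]
  exact hy

lemma oldNew_evalDiagram_map {n m : ℕ} (h : n ≤ m) (y : oldExt i (Q I n) M) :
    oldNew i (Q I m) M (((evalDiagram I i M).map (homOfLE h).op.op).hom y) =
      (Ext.mk₀ (proj I h)).comp (oldNew i (Q I n) M y) (zero_add i) :=
  oldNew_map_left i (proj I h) M y

lemma ιH_comp {n m : ℕ} (h : n ≤ m) (e : Ext.{u} (Q I n) M i) :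
    ιH I i M m ((Ext.mk₀ (proj I h)).comp e (zero_add i)) = ιH I i M n e := by
  have h1 := (evalCocone I i M).ι.naturality (X := op (op n)) (Y := op (op m)) (homOfLE h).op.op
  have h2 := congrArg (fun φ => φ.hom ((oldNew i (Q I n) M).symm e)) h1
  simp only [Functor.const_obj_obj, Functor.const_obj_map, Category.comp_id, ModuleCat.hom_comp,
    LinearMap.comp_apply] at h2
  rw [← ιH_apply] at h2
  rw [← h2, ι_eq_ιH, oldNew_evalDiagram_map, LinearEquiv.apply_symm_apply]

lemma hom_eq_homOfLE {a b : ℕᵒᵖᵒᵖ} (f : a ⟶ b) : a.unop.unop ≤ b.unop.unop := f.unop.unop.le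

lemma ιH_eq_zero_iff (n : ℕ) (e : Ext.{u} (Q I n) M i) :
    ιH I i M n e = 0 ↔ ∃ (m : ℕ) (h : n ≤ m), (Ext.mk₀ (proj I h)).comp e (zero_add i) = 0 := by
  constructor
  · intro h0
    have h1 : (evalCocone I i M).ι.app (op (op n)) ((oldNew i (Q I n) M).symm e) =
        (evalCocone I i M).ι.app (op (op n)) 0 := by
      rw [map_zero]; exact h0
    obtain ⟨k, a, b, hab⟩ := Concrete.isColimit_exists_of_rep_eq (evalDiagram I i M) (evalCoconeIsColimit I i M) _ _ h1
    have hle : n ≤ k.unop.unop := a.unop.unop.le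
    refine ⟨k.unop.unop, hle, ?_⟩
    rw [map_zero] at hab
    have ha : a = (homOfLE hle).op.op := Subsingleton.elim _ _
    rw [ha] at hab
    have := oldNew_evalDiagram_map hle ((oldNew i (Q I n) M).symm e)
    rw [LinearEquiv.apply_symm_apply] at this
    rw [← this]
    have h3 : ((evalDiagram I i M).map (homOfLE hle).op.op).hom ((oldNew i (Q I n) M).symm e) = 0 := hab
    rw [h3]
    exact map_zero (oldNew i (Q I (unop (unop k))) M)
  · rintro ⟨m, h, hm⟩
    rw [← ιH_comp h, hm, map_zero]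

lemma ext_comp_sub {X Y Z : ModuleCat.{u} R} {a b c : ℕ} (α : Ext.{u} X Y a) (β₁ β₂ : Ext.{u} Y Z b) (h : a + b = c) :
    α.comp (β₁ - β₂) h = α.comp β₁ h - α.comp β₂ h := by
  rw [sub_eq_add_neg, Ext.comp_add, Ext.comp_neg, ← sub_eq_add_neg]

lemma ext_sub_comp {X Y Z : ModuleCat.{u} R} {a b c : ℕ} (α₁ α₂ : Ext.{u} X Y a) (β : Ext.{u} Y Z b) (h : a + b = c) :
    (α₁ - α₂).comp β h = α₁.comp β h - α₂.comp β h := by
  rw [sub_eq_add_neg, Ext.add_comp, Ext.neg_comp, ← sub_eq_add_neg]

lemma ιH_eq_iff (n n' : ℕ) (e : Ext.{u} (Q I n) M i) (e' : Ext.{u} (Q I n') M i) :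
    ιH I i M n e = ιH I i M n' e' ↔ ∃ (m : ℕ) (h : n ≤ m) (h' : n' ≤ m),
      (Ext.mk₀ (proj I h)).comp e (zero_add i) = (Ext.mk₀ (proj I h')).comp e' (zero_add i) := by
  constructor
  · intro heq
    have h1 : ιH I i M (max n n') ((Ext.mk₀ (proj I (le_max_left n n'))).comp e (zero_add i) -
        (Ext.mk₀ (proj I (le_max_right n n'))).comp e' (zero_add i)) = 0 := by
      rw [map_sub, ιH_comp, ιH_comp, heq, sub_self]
    obtain ⟨m, hm, h2⟩ := (ιH_eq_zero_iff _ _).1 h1
    refine ⟨m, (le_max_left n n').trans hm, (le_max_right n n').trans hm, ?_⟩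
    rw [ext_comp_sub, sub_eq_zero, ← Ext.comp_assoc_of_second_deg_zero, ← Ext.comp_assoc_of_second_deg_zero,
      Ext.mk₀_comp_mk₀, Ext.mk₀_comp_mk₀, proj_comp, proj_comp] at h2
    exact h2
  · rintro ⟨m, h, h', hm⟩
    rw [← ιH_comp h, ← ιH_comp h', hm]

lemma map_ιH {M' : ModuleCat.{u} R} (f : M ⟶ M') (n : ℕ) (e : Ext.{u} (Q I n) M i) :
    ((localCohomology I i).map f).hom (ιH I i M n e) = ιH I i M' n (e.comp (Ext.mk₀ f) (add_zero i)) := by
  have h1 := (colimit.ι (localCohomology.diagram (localCohomology.idealPowersDiagram I) i) (op (op n))).naturality f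
  have h2 := congrArg (fun φ => φ.hom ((oldNew i (Q I n) M).symm e)) h1
  simp only [ModuleCat.hom_comp, LinearMap.comp_apply] at h2
  rw [ιH_apply]
  refine h2.symm.trans ?_
  rw [ιH_apply]
  congr 1
  apply (oldNew i (Q I n) M').injective
  rw [LinearEquiv.apply_symm_apply]
  have := oldNew_map_right i (Q I n) f ((oldNew i (Q I n) M).symm e)
  rw [LinearEquiv.apply_symm_apply] at this
  exact this

section desc

variable {N : Type u} [AddCommGroup N] [Module R N]
  (φ : ∀ n, Ext.{u} (Q I n) M i →ₗ[R] N)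
  (hφ : ∀ (n m : ℕ) (h : n ≤ m) (e : Ext.{u} (Q I n) M i),
    φ m ((Ext.mk₀ (proj I h)).comp e (zero_add i)) = φ n e)

/-- The cocone used to define maps out of local cohomology. -/
noncomputable def descCocone : Cocone (evalDiagram I i M) where
  pt := ModuleCat.of R N
  ι :=
    { app := fun j => ModuleCat.ofHom (φ j.unop.unop ∘ₗ (oldNew i (Q I j.unop.unop) M).toLinearMap)
      naturality := by
        intro a b f
        have hle : a.unop.unop ≤ b.unop.unop := f.unop.unop.le
        have hf : f = (homOfLE hle).op.op := Subsingleton.elim _ _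
        subst hf
        apply ModuleCat.hom_ext
        apply LinearMap.ext
        intro y
        simp only [Functor.const_obj_obj, Functor.const_obj_map, Category.comp_id, ModuleCat.hom_comp,
          LinearMap.comp_apply]
        refine Eq.trans ?_ (hφ _ _ hle _)
        exact congrArg _ (oldNew_evalDiagram_map hle y) }

/-- Maps out of local cohomology from compatible families of maps out of the `Ext` groups. -/
noncomputable def descH : (localCohomology I i).obj M →ₗ[R] N :=
  ((evalCoconeIsColimit I i M).desc (descCocone φ hφ)).hom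

lemma descH_ιH (n : ℕ) (e : Ext.{u} (Q I n) M i) : descH φ hφ (ιH I i M n e) = φ n e := by
  have h1 := (evalCoconeIsColimit I i M).fac (descCocone φ hφ) (op (op n))
  have h2 := congrArg (fun ψ => ψ.hom ((oldNew i (Q I n) M).symm e)) h1
  simp only [ModuleCat.hom_comp, LinearMap.comp_apply] at h2
  rw [ιH_apply]
  refine h2.trans ?_
  change φ n (oldNew i (Q I n) M ((oldNew i (Q I n) M).symm e)) = φ n e
  rw [LinearEquiv.apply_symm_apply]

end desc

section postcomp

variable (I)

/-- Postcomposition with an `Ext` class induces maps on local cohomology. -/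
noncomputable def postcompH {M M' : ModuleCat.{u} R} {k : ℕ} (β : Ext.{u} M M' k) (i j : ℕ) (h : i + k = j) :
    (localCohomology I i).obj M →ₗ[R] (localCohomology I j).obj M' :=
  descH (fun n => ιH I j M' n ∘ₗ β.postcompOfLinear R (Q I n) h) (by
    intro n m hnm e
    simp only [LinearMap.comp_apply, LinearMap.flip_apply, Ext.bilinearCompOfLinear_apply_apply]
    rw [Ext.comp_assoc _ _ _ (zero_add i) h (by omega), ιH_comp])

lemma postcompH_ιH {M M' : ModuleCat.{u} R} {k : ℕ} (β : Ext.{u} M M' k) (i j : ℕ) (h : i + k = j)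
    (n : ℕ) (e : Ext.{u} (Q I n) M i) :
    postcompH I β i j h (ιH I i M n e) = ιH I j M' n (e.comp β h) := by
  unfold postcompH
  rw [descH_ιH]
  rfl

lemma map_eq_postcompH {M M' : ModuleCat.{u} R} (f : M ⟶ M') (i : ℕ) :
    ((localCohomology I i).map f).hom = postcompH I (Ext.mk₀ f) i i (add_zero i) := by
  apply LinearMap.ext
  intro x
  obtain ⟨n, e, rfl⟩ := exists_rep x
  rw [map_ιH, postcompH_ιH]

lemma postcompH_comp {M M' M'' : ModuleCat.{u} R} {k k' : ℕ} (β : Ext.{u} M M' k) (β' : Ext.{u} M' M'' k')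
    (i j l : ℕ) (h : i + k = j) (h' : j + k' = l) (kk : ℕ) (hkk : k + k' = kk)
    (x : (localCohomology I i).obj M) :
    postcompH I β' j l h' (postcompH I β i j h x) = postcompH I (β.comp β' hkk) i l (by omega) x := by
  obtain ⟨n, e, rfl⟩ := exists_rep x
  rw [postcompH_ιH, postcompH_ιH, postcompH_ιH, Ext.comp_assoc _ _ _ h hkk (by omega)]

lemma postcompH_zero {M M' : ModuleCat.{u} R} {k : ℕ} (i j : ℕ) (h : i + k = j) :
    postcompH I (0 : Ext.{u} M M' k) i j h = 0 := by
  apply LinearMap.ext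
  intro x
  obtain ⟨n, e, rfl⟩ := exists_rep x
  rw [postcompH_ιH, Ext.comp_zero, map_zero, LinearMap.zero_apply]

end postcomp

section LES

variable (I) {S : ShortComplex (ModuleCat.{u} R)} (hS : S.ShortExact)

/-- The connecting homomorphism of local cohomology for a short exact sequence of modules. -/
noncomputable def δ (i j : ℕ) (h : i + 1 = j) :
    (localCohomology I i).obj S.X₃ →ₗ[R] (localCohomology I j).obj S.X₁ :=
  postcompH I hS.extClass i j h

lemma δ_ιH (i j : ℕ) (h : i + 1 = j) (n : ℕ) (e : Ext.{u} (Q I n) S.X₃ i) :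
    δ I hS i j h (ιH I i S.X₃ n e) = ιH I j S.X₁ n (e.comp hS.extClass h) :=
  postcompH_ιH I _ i j h n e

lemma map_map_eq_zero (i : ℕ) (x : (localCohomology I i).obj S.X₁) :
    ((localCohomology I i).map S.g).hom (((localCohomology I i).map S.f).hom x) = 0 := by
  rw [map_eq_postcompH, map_eq_postcompH, postcompH_comp I _ _ i i i _ _ 0 (add_zero 0), Ext.mk₀_comp_mk₀,
    S.zero, Ext.mk₀_zero, postcompH_zero, LinearMap.zero_apply]

lemma δ_map_eq_zero (i j : ℕ) (h : i + 1 = j) (x : (localCohomology I i).obj S.X₂) :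
    δ I hS i j h (((localCohomology I i).map S.g).hom x) = 0 := by
  unfold δ
  rw [map_eq_postcompH, postcompH_comp I _ _ i i j _ _ 1 (zero_add 1), hS.comp_extClass, postcompH_zero,
    LinearMap.zero_apply]

lemma map_δ_eq_zero (i j : ℕ) (h : i + 1 = j) (x : (localCohomology I i).obj S.X₃) :
    ((localCohomology I j).map S.f).hom (δ I hS i j h x) = 0 := by
  unfold δ
  rw [map_eq_postcompH, postcompH_comp I _ _ i j j _ _ 1 (add_zero 1), hS.extClass_comp, postcompH_zero,
    LinearMap.zero_apply]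

include hS in
/-- Exactness at `H^i(X₂)`. -/
theorem exact₂ (i : ℕ) (x₂ : (localCohomology I i).obj S.X₂)
    (hx : ((localCohomology I i).map S.g).hom x₂ = 0) :
    ∃ x₁ : (localCohomology I i).obj S.X₁, ((localCohomology I i).map S.f).hom x₁ = x₂ := by
  obtain ⟨n, e, rfl⟩ := exists_rep x₂
  rw [map_ιH, ιH_eq_zero_iff] at hx
  obtain ⟨m, hm, h0⟩ := hx
  rw [← Ext.comp_assoc _ _ _ (zero_add i) (add_zero i) (by omega)] at h0
  obtain ⟨e₁, he₁⟩ := Ext.covariant_sequence_exact₂ _ hS _ h0
  refine ⟨ιH I i S.X₁ m e₁, ?_⟩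
  rw [map_ιH, he₁, ιH_comp]

/-- Exactness at `H^i(X₃)`. -/
theorem exact₃ (i j : ℕ) (h : i + 1 = j) (x₃ : (localCohomology I i).obj S.X₃)
    (hx : δ I hS i j h x₃ = 0) :
    ∃ x₂ : (localCohomology I i).obj S.X₂, ((localCohomology I i).map S.g).hom x₂ = x₃ := by
  obtain ⟨n, e, rfl⟩ := exists_rep x₃
  rw [δ_ιH, ιH_eq_zero_iff] at hx
  obtain ⟨m, hm, h0⟩ := hx
  rw [← Ext.comp_assoc _ _ _ (zero_add i) h (by omega)] at h0
  obtain ⟨e₂, he₂⟩ := Ext.covariant_sequence_exact₃ _ hS _ h h0
  refine ⟨ιH I i S.X₂ m e₂, ?_⟩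
  rw [map_ιH, he₂, ιH_comp]

/-- Exactness at `H^{i+1}(X₁)`. -/
theorem exact₁ (i j : ℕ) (h : i + 1 = j) (x₁ : (localCohomology I j).obj S.X₁)
    (hx : ((localCohomology I j).map S.f).hom x₁ = 0) :
    ∃ x₃ : (localCohomology I i).obj S.X₃, δ I hS i j h x₃ = x₁ := by
  obtain ⟨n, e, rfl⟩ := exists_rep x₁
  rw [map_ιH, ιH_eq_zero_iff] at hx
  obtain ⟨m, hm, h0⟩ := hx
  rw [← Ext.comp_assoc _ _ _ (zero_add j) (add_zero j) (by omega)] at h0
  obtain ⟨e₃, he₃⟩ := Ext.covariant_sequence_exact₁ _ hS _ h0 h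
  refine ⟨ιH I i S.X₃ m e₃, ?_⟩
  rw [δ_ιH, he₃, ιH_comp]

include hS in
/-- Left exactness in degree `0`. -/
theorem map_f_injective_zero : Function.Injective ((localCohomology I 0).map S.f).hom := by
  rw [injective_iff_map_eq_zero]
  intro x hx
  obtain ⟨n, e, rfl⟩ := exists_rep x
  rw [map_ιH, ιH_eq_zero_iff] at hx
  obtain ⟨m, hm, h0⟩ := hx
  rw [← Ext.comp_assoc _ _ _ (zero_add 0) (add_zero 0) (by omega)] at h0
  have := hS.mono_f
  have h1 := Ext.postcomp_mk₀_injective_of_mono (Q I m) S.f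
  have h2 : (Ext.mk₀ (proj I hm)).comp e (zero_add 0) = 0 := by
    apply h1
    rw [map_zero]
    exact h0
  rw [← ιH_comp hm, h2, map_zero]

end LES

end Groth.Agent.Lib.Helper41.LC
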