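import Groth.Agent.Lib.Helper58.CmpSeq3
import Groth.Agent.Lib.Helper41.LCVanish
import Groth.Agent.Lib.Helper41.QuotHeight
import Groth.Agent.S11618

/-!
# Towards Lichtenbaum–Hartshorne: enlarging the support ideal by an element of the maximal ideal
-/

set_option autoImplicit false
universe u
open CategoryTheory CategoryTheory.Limits Opposite CategoryTheory.Abelian

namespace Groth.Agent.Lib.Helper41.LC

variable {R : Type u} [CommRing R]

/-- Inverting an element of the maximal ideal of a local ring of finite dimension `n` drops the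
dimension. -/
lemma ringKrullDim_localization_powers_lt [IsLocalRing R] (n : ℕ) (hn : ringKrullDim R = n) (x : R)
    (hx : x ∈ IsLocalRing.maximalIdeal R) :
    ringKrullDim (Localization (Submonoid.powers x)) < (n : WithBot ℕ∞) := by
  have hm : (IsLocalRing.maximalIdeal R).height = (n : ℕ∞) := by
    have h := IsLocalRing.maximalIdeal_height_eq_ringKrullDim (R := R)
    rw [hn] at h
    exact_mod_cast h
  have key : ∀ J : Ideal (Localization (Submonoid.powers x)), J.IsPrime →
      J.height + 1 ≤ (n : ℕ∞) := by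
    intro J hJ
    have hq : (J.under R).IsPrime := Ideal.comap_isPrime _ J
    have hxq : x ∉ J.under R := by
      intro h
      apply hJ.ne_top
      exact Ideal.eq_top_of_isUnit_mem _ h
        (IsLocalization.map_units _ (⟨x, Submonoid.mem_powers x⟩ : Submonoid.powers x))
    have hlt : J.under R < IsLocalRing.maximalIdeal R :=
      lt_of_le_of_ne (IsLocalRing.le_maximalIdeal hq.ne_top) (fun h => hxq (h ▸ hx))
    have h1 := Ideal.height_add_one_le_of_lt_of_isPrime hlt
    rw [IsLocalization.height_under (Submonoid.powers x) J, hm] at h1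
    exact h1
  rcases Nat.eq_zero_or_pos n with rfl | hpos
  · have hle : ringKrullDim (Localization (Submonoid.powers x)) ≤ ⊥ := by
      rw [ringKrullDim_le_iff_height_le]
      intro J hJ
      have := key J hJ
      simp at this
    exact lt_of_le_of_lt hle (WithBot.bot_lt_coe _)
  · obtain ⟨m, rfl⟩ : ∃ m, n = m + 1 := ⟨n - 1, by omega⟩
    have hle : ringKrullDim (Localization (Submonoid.powers x)) ≤ ((m : ℕ) : WithBot ℕ∞) := by
      rw [ringKrullDim_le_iff_height_le]
      intro J hJ
      have h1 := key J hJ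
      have hne : J.height ≠ ⊤ := by
        intro htop
        rw [htop, top_add] at h1
        exact absurd (top_le_iff.1 h1) (ENat.natCast_ne_top (m + 1))
      obtain ⟨k, hk⟩ := ENat.ne_top_iff_exists.1 hne
      rw [← hk] at h1 ⊢
      have h2 : k + 1 ≤ m + 1 := by exact_mod_cast h1
      have h3 : k ≤ m := by omega
      exact_mod_cast h3
    refine lt_of_le_of_lt hle ?_
    have : m < m + 1 := by omega
    exact_mod_cast this

/-- If `H^n_p(R) ≠ 0` for a local ring of dimension `n` then `H^n_{p + xR}(R) ≠ 0` for every `x` in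
the maximal ideal. -/
theorem nontrivial_H_sup_span [IsNoetherianRing R] [IsLocalRing R] (n : ℕ)
    (hn : ringKrullDim R = n) (p : Ideal R)
    (hp : Nontrivial ((localCohomology p n).obj (ModuleCat.of R R))) (x : R)
    (hx : x ∈ IsLocalRing.maximalIdeal R) :
    Nontrivial ((localCohomology (p ⊔ Ideal.span {x}) n).obj (ModuleCat.of R R)) := by
  obtain ⟨y, hy⟩ := exists_ne (0 : (localCohomology p n).obj (ModuleCat.of R R))
  obtain ⟨ε⟩ := Groth.Agent.S11618.result R p (Submonoid.powers x) R n
  have hdim : Module.supportDim (Localization (Submonoid.powers x))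
      (LocalizedModule (Submonoid.powers x) R) < (n : WithBot ℕ∞) :=
    lt_of_le_of_lt (Module.supportDim_le_ringKrullDim _ _)
      (ringKrullDim_localization_powers_lt n hn x hx)
  have hsub : Subsingleton (LocCoh.H (Ideal.map (algebraMap R (Localization (Submonoid.powers x))) p) n
      (LocalizedModule (Submonoid.powers x) R)) :=
    subsingleton_of_supportDim_lt _ _ n hdim
  have hsub' : Subsingleton (LocalizedModule (Submonoid.powers x) (LocCoh.H p n R)) :=
    ε.toEquiv.subsingleton
  have h0 : LocalizedModule.mk (y : LocCoh.H p n R) (1 : Submonoid.powers x) = 0 :=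
    Subsingleton.elim _ _
  rw [← LocalizedModule.zero_mk (1 : Submonoid.powers x), LocalizedModule.mk_eq] at h0
  obtain ⟨u, hu⟩ := h0
  rw [smul_zero, smul_zero, one_smul] at hu
  obtain ⟨k, hk⟩ := u.2
  have hxy : x ^ k • y = 0 := by
    have : (u : R) • y = 0 := hu
    rw [← hk] at this
    exact this
  obtain ⟨z, hz⟩ := (Groth.Agent.Lib.Helper58.CmpSeq.mem_range_cmpH_iff p x n R y).2 ⟨k, hxy⟩
  refine ⟨⟨z, 0, fun h => hy ?_⟩⟩
  rw [← hz, h, map_zero]


open Groth.Agent.Lib.Helper41.QuotHeight in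
/-- An ideal `p` of a Noetherian local domain of dimension `n`, maximal among the ideals with
`H^n_p(R) ≠ 0` and `dim R/p > 0`, is prime with `dim R/p = 1`. -/
theorem isPrime_and_ringKrullDim_eq_one [IsDomain R] [IsNoetherianRing R] [IsLocalRing R] (n : ℕ)
    (hn : ringKrullDim R = n) (p : Ideal R)
    (hp : Nontrivial ((localCohomology p n).obj (ModuleCat.of R R)))
    (hp' : 0 < ringKrullDim (R ⧸ p))
    (hmax : ∀ b : Ideal R, p < b → Nontrivial ((localCohomology b n).obj (ModuleCat.of R R)) →
      ¬ 0 < ringKrullDim (R ⧸ b)) :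
    p.IsPrime ∧ ringKrullDim (R ⧸ p) = 1 := by
  have hB : ∀ x ∈ IsLocalRing.maximalIdeal R, x ∉ p →
      ¬ 0 < ringKrullDim (R ⧸ (p ⊔ Ideal.span {x})) := by
    intro x hx hxp
    refine hmax _ ?_ (nontrivial_H_sup_span n hn p hp x hx)
    refine lt_of_le_of_ne le_sup_left ?_
    intro h
    apply hxp
    rw [h]
    exact Ideal.mem_sup_right (Ideal.mem_span_singleton_self x)
  have hpos : ∀ (J q : Ideal R), q.IsPrime → J ≤ q → q ≠ IsLocalRing.maximalIdeal R →
      0 < ringKrullDim (R ⧸ J) := by
    intro J q hq hJq hqm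
    have hqm' : q < IsLocalRing.maximalIdeal R :=
      lt_of_le_of_ne (IsLocalRing.le_maximalIdeal hq.ne_top) hqm
    have h1 : (q.map (Ideal.Quotient.mk J)).IsPrime := map_mk_isPrime hJq
    have h2 : ((IsLocalRing.maximalIdeal R).map (Ideal.Quotient.mk J)).IsPrime :=
      map_mk_isPrime (hJq.trans hqm'.le)
    have hlt := map_mk_lt_map_mk (p := J) hJq hqm'
    rw [ringKrullDim, Order.krullDim_pos_iff]
    exact ⟨⟨_, h1⟩, ⟨_, h2⟩, hlt⟩
  have hall : ∀ q' : Ideal R, q'.IsPrime → p ≤ q' → q' ≠ IsLocalRing.maximalIdeal R → q' = p := by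
    intro q' hq' hpq' hq'm
    refine le_antisymm ?_ hpq'
    intro x hx
    by_contra hxp
    exact hB x (IsLocalRing.le_maximalIdeal hq'.ne_top hx) hxp
      (hpos _ q' hq' (sup_le hpq' ((Ideal.span_singleton_le_iff_mem _).2 hx)) hq'm)
  have hle_comap : ∀ Q : Ideal (R ⧸ p), p ≤ Q.comap (Ideal.Quotient.mk p) := by
    intro Q a ha
    rw [Ideal.mem_comap, Ideal.Quotient.eq_zero_iff_mem.2 ha]
    exact Q.zero_mem
  have hmapcomap : ∀ Q : Ideal (R ⧸ p), (Q.comap (Ideal.Quotient.mk p)).map (Ideal.Quotient.mk p) = Q :=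
    fun Q => Ideal.map_comap_of_surjective _ Ideal.Quotient.mk_surjective Q
  -- a prime `q ⊇ p` different from the maximal ideal
  obtain ⟨q, hq, hpq, hqm⟩ : ∃ q : Ideal R, q.IsPrime ∧ p ≤ q ∧ q ≠ IsLocalRing.maximalIdeal R := by
    have hp'' := hp'
    rw [ringKrullDim, Order.krullDim_pos_iff] at hp''
    obtain ⟨Q₀, Q₁, hlt⟩ := hp''
    refine ⟨Q₀.asIdeal.comap (Ideal.Quotient.mk p), Ideal.comap_isPrime _ _, hle_comap _, ?_⟩
    intro h
    have h1 : Q₁.asIdeal.comap (Ideal.Quotient.mk p) ≤ IsLocalRing.maximalIdeal R :=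
      IsLocalRing.le_maximalIdeal (Ideal.comap_isPrime _ Q₁.asIdeal).ne_top
    have h2 : Q₁.asIdeal ≤ Q₀.asIdeal := by
      rw [← hmapcomap Q₁.asIdeal, ← hmapcomap Q₀.asIdeal, h]
      exact Ideal.map_mono h1
    exact absurd hlt (not_lt_of_ge h2)
  have hqp : q = p := hall q hq hpq hqm
  have hpprime : p.IsPrime := hqp ▸ hq
  have hpm : p ≠ IsLocalRing.maximalIdeal R := hqp ▸ hqm
  refine ⟨hpprime, le_antisymm ?_ ?_⟩
  · rw [ringKrullDim_le_iff_isMaximal_height_le]
    intro M hM
    have hMprime : M.IsPrime := hM.isPrime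
    have hht : M.height ≤ ((1 : ℕ) : ℕ∞) := by
      rw [Ideal.height_le_iff]
      intro Q hQ hQM
      have hcQ : Q.comap (Ideal.Quotient.mk p) ≠ IsLocalRing.maximalIdeal R := by
        intro h
        have hMQ : M ≤ Q := by
          rw [← hmapcomap M, ← hmapcomap Q, h]
          exact Ideal.map_mono (IsLocalRing.le_maximalIdeal (Ideal.comap_isPrime _ M).ne_top)
        exact absurd hQM (not_lt_of_ge hMQ)
      have hcQp : Q.comap (Ideal.Quotient.mk p) = p :=
        hall _ (Ideal.comap_isPrime _ Q) (hle_comap Q) hcQ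
      have hQbot : Q = ⊥ := by
        rw [← hmapcomap Q, hcQp, Ideal.map_quotient_self]
      have hdom : IsDomain (R ⧸ p) := Ideal.Quotient.isDomain p
      rw [hQbot, Ideal.height_bot]
      exact_mod_cast Nat.zero_lt_one
    exact_mod_cast hht
  · rw [ringKrullDim, Order.one_le_krullDim_iff]
    rw [ringKrullDim, Order.krullDim_pos_iff] at hp'
    exact hp'

end Groth.Agent.Lib.Helper41.LC
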