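import Mathlib.RingTheory.Ideal.AssociatedPrime.Finiteness
import Mathlib.Algebra.Module.Torsion.Basic
import Groth.Agent.S11499

/-!
# Dévissage along associated primes

A class of finite modules over a Noetherian ring which is closed under submodules and extensions
and contains `A/p` for every associated prime `p` of `M` contains `M`.
-/

set_option autoImplicit false
universe u

namespace Groth.Agent.Lib.Helper41.AssDev

variable {A : Type u} [CommRing A]

open Submodule in
/-- `Ass(Q / (0 :_Q J)) ⊆ Ass(Q)`. -/
lemma associatedPrimes_quotient_torsionBySet_subset [IsNoetherianRing A] (Q : Type u)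
    [AddCommGroup Q] [Module A Q] (J : Ideal A) :
    associatedPrimes A (Q ⧸ Submodule.torsionBySet A Q (J : Set A)) ⊆ associatedPrimes A Q := by
  classical
  intro q hq
  obtain ⟨hqprime, x, hx⟩ := (isAssociatedPrime_iff).1 hq
  obtain ⟨y, rfl⟩ := Submodule.mkQ_surjective _ x
  obtain ⟨s, hs⟩ := (IsNoetherian.noetherian J : J.FG)
  have key : ∀ r : A, r ∈ q ↔ ∀ a ∈ s, r ∈ (⊥ : Submodule A Q).colon {a • y} := by
    intro r
    rw [hx, Submodule.mem_colon_singleton, Submodule.mem_bot, ← map_smul, Submodule.mkQ_apply,
      Submodule.Quotient.mk_eq_zero, Submodule.mem_torsionBySet_iff]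
    constructor
    · intro h a ha
      rw [Submodule.mem_colon_singleton, Submodule.mem_bot, smul_comm]
      have haJ : a ∈ J := hs ▸ Submodule.subset_span ha
      exact h ⟨a, haJ⟩
    · rintro h ⟨a, ha⟩
      have ha' : a ∈ Submodule.span A (s : Set A) := by rw [hs]; exact ha
      change a • r • y = 0
      refine Submodule.span_induction (p := fun a _ => a • r • y = 0) ?_ ?_ ?_ ?_ ha'
      · intro b hb
        have := h b hb
        rw [Submodule.mem_colon_singleton, Submodule.mem_bot, smul_comm] at this
        exact this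
      · exact zero_smul _ _
      · intro b c _ _ hb hc
        rw [add_smul, hb, hc, add_zero]
      · intro c b _ hb
        rw [smul_eq_mul, mul_smul, hb, smul_zero]
  have hle : s.inf (fun a => (⊥ : Submodule A Q).colon {a • y}) ≤ q := by
    intro r hr
    rw [Submodule.mem_finsetInf] at hr
    exact (key r).2 hr
  obtain ⟨a, has, haq⟩ := (Ideal.IsPrime.inf_le' hqprime).1 hle
  have hqa : q = (⊥ : Submodule A Q).colon {a • y} :=
    le_antisymm (fun r hr => (key r).1 hr a has) haq
  exact (isAssociatedPrime_iff).2 ⟨hqprime, a • y, hqa⟩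

/-- **Dévissage along associated primes.** -/
theorem devissage [IsNoetherianRing A]
    (F : ∀ (N : Type u) [AddCommGroup N] [Module A N], Prop)
    (hzero : ∀ (N : Type u) [AddCommGroup N] [Module A N], Subsingleton N → F N)
    (hsub : ∀ (N N' : Type u) [AddCommGroup N] [Module A N] [AddCommGroup N'] [Module A N']
      (_ : Module.Finite A N') (f : N →ₗ[A] N'), Function.Injective f → F N' → F N)
    (hext : ∀ (N₁ N₂ N₃ : Type u) [AddCommGroup N₁] [Module A N₁] [AddCommGroup N₂] [Module A N₂]
      [AddCommGroup N₃] [Module A N₃] (_ : Module.Finite A N₂) (f : N₁ →ₗ[A] N₂)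
      (g : N₂ →ₗ[A] N₃), Function.Injective f → Function.Surjective g → Function.Exact f g →
      F N₁ → F N₃ → F N₂)
    (M : Type u) [AddCommGroup M] [Module A M] [Module.Finite A M]
    (hM : ∀ p ∈ associatedPrimes A M, F (A ⧸ p)) : F M := by
  classical
  -- finite powers
  have hpi : ∀ (X : Type u) [AddCommGroup X] [Module A X] [Module.Finite A X], F X →
      ∀ r : ℕ, F (Fin r → X) := by
    intro X _ _ _ hX r
    induction r with
    | zero => exact hzero _ inferInstance
    | succ r ih =>
      refine hext X (Fin (r + 1) → X) (Fin r → X) inferInstance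
        (LinearMap.single A (fun _ : Fin (r + 1) => X) 0)
        (LinearMap.pi fun i => LinearMap.proj i.succ) ?_ ?_ ?_ hX ih
      · exact Pi.single_injective (M := fun _ : Fin (r + 1) => X) 0
      · intro w
        refine ⟨Fin.cons 0 w, ?_⟩
        funext i
        simp
      · intro v
        constructor
        · intro hv
          refine ⟨v 0, ?_⟩
          funext i
          refine Fin.cases ?_ (fun j => ?_) i
          · simp
          · have := congrFun hv j
            simp only [LinearMap.pi_apply, LinearMap.proj_apply, Pi.zero_apply] at this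
            simp [this]
        · rintro ⟨x, rfl⟩
          funext i
          simp
  have hnoeth : IsNoetherian A M := isNoetherian_of_isNoetherianRing_of_finite A M
  -- the set of good submodules
  let S : Set (Submodule A M) :=
    {K | F K ∧ associatedPrimes A (M ⧸ K) ⊆ associatedPrimes A M}
  have hbot : (⊥ : Submodule A M) ∈ S := by
    refine ⟨hzero _ inferInstance, ?_⟩
    rw [LinearEquiv.AssociatedPrimes.eq (Submodule.quotEquivOfEqBot (⊥ : Submodule A M) rfl)]
  obtain ⟨K, hKS, hKmax⟩ := set_has_maximal_iff_noetherian.mpr hnoeth S ⟨⊥, hbot⟩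
  by_cases hKtop : K = ⊤
  · have hFtop : F (⊤ : Submodule A M) := hKtop ▸ hKS.1
    exact hsub M (⊤ : Submodule A M) inferInstance
      (Submodule.topEquiv (R := A) (M := M)).symm.toLinearMap
      (Submodule.topEquiv (R := A) (M := M)).symm.injective hFtop
  · exfalso
    have hQnt : Nontrivial (M ⧸ K) := Submodule.Quotient.nontrivial_iff.2 hKtop
    have hne : (associatedPrimes A (M ⧸ K)).Nonempty := associatedPrimes.nonempty A (M ⧸ K)
    obtain ⟨p, hpAss, hpmax⟩ : ∃ p : Ideal A, p ∈ associatedPrimes A (M ⧸ K) ∧
        ∀ P : Ideal A, P ∈ associatedPrimes A (M ⧸ K) → ¬ p < P :=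
      set_has_maximal_iff_noetherian.mpr
        (inferInstance : IsNoetherian A A) (associatedPrimes A (M ⧸ K)) hne
    have hpprime : p.IsPrime := hpAss.isPrime
    have hpM : p ∈ associatedPrimes A M := hKS.2 hpAss
    let T : Submodule A (M ⧸ K) := Submodule.torsionBySet A (M ⧸ K) (p : Set A)
    have hTmem : ∀ t : M ⧸ K, t ∈ T ↔ ∀ a ∈ p, a • t = 0 := by
      intro t
      rw [Submodule.mem_torsionBySet_iff]
      exact ⟨fun h a ha => h ⟨a, ha⟩, fun h a => h a a.2⟩
    have hTne : T ≠ ⊥ := by
      obtain ⟨_, q, hq⟩ := (isAssociatedPrime_iff).1 hpAss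
      intro hbot
      have hqT : q ∈ T := by
        rw [hTmem]
        intro a ha
        have : a ∈ (⊥ : Submodule A (M ⧸ K)).colon {q} := hq ▸ ha
        rwa [Submodule.mem_colon_singleton, Submodule.mem_bot] at this
      rw [hbot, Submodule.mem_bot] at hqT
      apply hpprime.ne_top
      rw [hq, hqT, Ideal.eq_top_iff_one, Submodule.mem_colon_singleton, smul_zero]
      exact Submodule.zero_mem _
    have hdom : IsDomain (A ⧸ p) := Ideal.Quotient.isDomain p
    have hTtf : NoZeroSMulDivisors (A ⧸ p) T := by
      refine ⟨fun {c t} hct => ?_⟩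
      obtain ⟨b, rfl⟩ := Ideal.Quotient.mk_surjective c
      by_contra hcon
      push Not at hcon
      obtain ⟨hc, ht⟩ := hcon
      have hbp : b ∉ p := fun h => hc (Ideal.Quotient.eq_zero_iff_mem.2 h)
      have ht' : (t : M ⧸ K) ≠ 0 := fun h => ht (Subtype.ext h)
      obtain ⟨P, hP, hle⟩ := exists_le_isAssociatedPrime_of_isNoetherianRing A (t : M ⧸ K) ht'
      have hpP : p ≤ P := by
        intro a ha
        apply hle
        rw [Submodule.mem_colon_singleton, Submodule.mem_bot]
        exact (hTmem t).1 t.2 a ha
      have hbP : b ∈ P := by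
        apply hle
        rw [Submodule.mem_colon_singleton, Submodule.mem_bot]
        exact congrArg Subtype.val hct
      have hpeq : p = P := by
        by_contra hne'
        exact hpmax P hP (lt_of_le_of_ne hpP hne')
      exact hbp (hpeq ▸ hbP)
    have hTfinA : Module.Finite A T := inferInstance
    have hTfin : Module.Finite (A ⧸ p) T := Module.Finite.of_restrictScalars_finite A (A ⧸ p) T
    obtain ⟨f, hf⟩ := Groth.Agent.S11499.result (A ⧸ p) T _ rfl
    have hFT : F T := hsub T (Fin _ → A ⧸ p) inferInstance (f.restrictScalars A) hf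
      (hpi (A ⧸ p) (hM p hpM) _)
    -- the preimage of `T`
    let K' : Submodule A M := T.comap K.mkQ
    have hKK' : K ≤ K' := by
      intro k hk
      change K.mkQ k ∈ T
      rw [Submodule.mkQ_apply, (Submodule.Quotient.mk_eq_zero K).2 hk]
      exact T.zero_mem
    have hlt : K < K' := by
      refine lt_of_le_of_ne hKK' ?_
      intro heq
      apply hTne
      rw [eq_bot_iff]
      intro t ht
      obtain ⟨m, rfl⟩ := K.mkQ_surjective t
      have hm : m ∈ K' := ht
      rw [← heq] at hm
      rw [Submodule.mem_bot, Submodule.mkQ_apply, Submodule.Quotient.mk_eq_zero]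
      exact hm
    have hFK' : F K' := by
      refine hext K K' T inferInstance (Submodule.inclusion hKK')
        (LinearMap.codRestrict T (K.mkQ.comp K'.subtype) (fun k => k.2)) ?_ ?_ ?_ hKS.1 hFT
      · exact Submodule.inclusion_injective hKK'
      · rintro ⟨t, ht⟩
        obtain ⟨m, rfl⟩ := K.mkQ_surjective t
        exact ⟨⟨m, ht⟩, rfl⟩
      · intro k'
        constructor
        · intro h
          have h0 : K.mkQ (k' : M) = 0 := congrArg Subtype.val h
          rw [Submodule.mkQ_apply, Submodule.Quotient.mk_eq_zero] at h0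
          exact ⟨⟨k', h0⟩, rfl⟩
        · rintro ⟨k, rfl⟩
          apply Subtype.ext
          change K.mkQ (k : M) = 0
          rw [Submodule.mkQ_apply, Submodule.Quotient.mk_eq_zero]
          exact k.2
    have hAssK' : associatedPrimes A (M ⧸ K') ⊆ associatedPrimes A M := by
      have hinj : Function.Injective (K'.mapQ T K.mkQ le_rfl) := by
        rw [← LinearMap.ker_eq_bot, Submodule.ker_mapQ, Submodule.mkQ_map_self]
      exact (associatedPrimes.subset_of_injective hinj).trans
        ((associatedPrimes_quotient_torsionBySet_subset (M ⧸ K) p).trans hKS.2)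
    exact hKmax K' ⟨hFK', hAssK'⟩ hlt

end Groth.Agent.Lib.Helper41.AssDev
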