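import Groth.Agent.Lib.Helper41.LCAssFin
import Groth.Agent.Lib.Helper41.AssDevissage

/-!
# Finiteness of a local cohomology module along exact sequences of linear maps
-/

set_option autoImplicit false
universe u
open CategoryTheory CategoryTheory.Limits Opposite CategoryTheory.Abelian

namespace Groth.Agent.Lib.Helper41.LC

variable {R : Type u} [CommRing R]

/-- The short exact sequence in `ModuleCat` of a short exact sequence of linear maps. -/
lemma shortExact_of_linearMaps {N₁ N₂ N₃ : Type u} [AddCommGroup N₁] [Module R N₁]
    [AddCommGroup N₂] [Module R N₂] [AddCommGroup N₃] [Module R N₃] (f : N₁ →ₗ[R] N₂)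
    (g : N₂ →ₗ[R] N₃) (hf : Function.Injective f) (hg : Function.Surjective g)
    (hfg : Function.Exact f g) :
    (ModuleCat.shortComplexOfCompEqZero f g hfg.linearMap_comp_eq_zero).ShortExact :=
  ModuleCat.shortComplex_shortExact _ (fun y => hfg y) hf hg

/-- `H^i_I` of the middle term of a short exact sequence is finite if it is for the outer terms. -/
theorem finite_H_of_exact [IsNoetherianRing R] (I : Ideal R) (i : ℕ) {N₁ N₂ N₃ : Type u}
    [AddCommGroup N₁] [Module R N₁] [AddCommGroup N₂] [Module R N₂] [AddCommGroup N₃] [Module R N₃]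
    (f : N₁ →ₗ[R] N₂) (g : N₂ →ₗ[R] N₃) (hf : Function.Injective f) (hg : Function.Surjective g)
    (hfg : Function.Exact f g)
    (h1 : Module.Finite R ((localCohomology I i).obj (ModuleCat.of R N₁)))
    (h3 : Module.Finite R ((localCohomology I i).obj (ModuleCat.of R N₃))) :
    Module.Finite R ((localCohomology I i).obj (ModuleCat.of R N₂)) := by
  have hS := shortExact_of_linearMaps f g hf hg hfg
  refine finite_of_exact
    ((localCohomology I i).map (ModuleCat.shortComplexOfCompEqZero f g
      hfg.linearMap_comp_eq_zero).f).hom
    ((localCohomology I i).map (ModuleCat.shortComplexOfCompEqZero f g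
      hfg.linearMap_comp_eq_zero).g).hom ?_ h1 h3
  intro w
  constructor
  · intro hw
    exact exact₂ I hS i w hw
  · rintro ⟨v, rfl⟩
    exact map_map_eq_zero I (S := ModuleCat.shortComplexOfCompEqZero f g hfg.linearMap_comp_eq_zero) i v

/-- `H^{i+1}_I` of a submodule is finite if it is for the ambient module and `H^i_I` of the
quotient is finite. -/
theorem finite_H_succ_of_injective [IsNoetherianRing R] (I : Ideal R) (i : ℕ) {N N' : Type u}
    [AddCommGroup N] [Module R N] [AddCommGroup N'] [Module R N']
    (f : N →ₗ[R] N') (hf : Function.Injective f)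
    (h : Module.Finite R ((localCohomology I (i + 1)).obj (ModuleCat.of R N')))
    (h0 : Module.Finite R ((localCohomology I i).obj (ModuleCat.of R (N' ⧸ LinearMap.range f)))) :
    Module.Finite R ((localCohomology I (i + 1)).obj (ModuleCat.of R N)) := by
  have hfg : Function.Exact f (LinearMap.range f).mkQ := by
    intro y
    rw [Submodule.mkQ_apply, Submodule.Quotient.mk_eq_zero]
    rfl
  have hS := shortExact_of_linearMaps f (LinearMap.range f).mkQ hf
    (LinearMap.range f).mkQ_surjective hfg
  refine finite_of_exact (δ I hS i (i + 1) rfl)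
    ((localCohomology I (i + 1)).map (ModuleCat.shortComplexOfCompEqZero f (LinearMap.range f).mkQ
      hfg.linearMap_comp_eq_zero).f).hom ?_ h0 h
  intro w
  constructor
  · intro hw
    exact exact₁ I hS i (i + 1) rfl w hw
  · rintro ⟨v, rfl⟩
    exact map_δ_eq_zero I hS i (i + 1) rfl v

/-- `H^1_I(M)` is finite iff `H^1_I(A/p)` is finite for every associated prime `p` of `M` not
containing `I`. -/
theorem finite_H_one_iff [IsNoetherianRing R] (I : Ideal R) (M : Type u) [AddCommGroup M]
    [Module R M] [Module.Finite R M] :
    Module.Finite R ((localCohomology I 1).obj (ModuleCat.of R M)) ↔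
      ∀ p : Ideal R, p ∈ associatedPrimes R M → ¬ I ≤ p →
        Module.Finite R ((localCohomology I 1).obj (ModuleCat.of R (R ⧸ p))) := by
  constructor
  · intro h p hp _
    obtain ⟨hpprime, f, hf⟩ := (isAssociatedPrime_iff_exists_injective_linearMap p M).1 hp
    exact finite_H_succ_of_injective I 0 f hf h (finite_zero I (M ⧸ LinearMap.range f))
  · intro h
    refine Groth.Agent.Lib.Helper41.AssDev.devissage
      (F := fun (N : Type u) [AddCommGroup N] [Module R N] =>
        Module.Finite R ((localCohomology I 1).obj (ModuleCat.of R N)))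
      ?_ ?_ ?_ M ?_
    · intro N _ _ hN
      have htors : IsTorsion I N := fun m => ⟨0, fun a _ => Subsingleton.elim _ _⟩
      have := subsingleton_of_isTorsion I 1 (by omega) (ModuleCat.of R N) htors
      infer_instance
    · intro N N' _ _ _ _ hfin f hf hN'
      exact finite_H_succ_of_injective I 0 f hf hN' (finite_zero I (N' ⧸ LinearMap.range f))
    · intro N₁ N₂ N₃ _ _ _ _ _ _ _ f g hf hg hfg h1 h3
      exact finite_H_of_exact I 1 f g hf hg hfg h1 h3
    · intro p hp
      by_cases hIp : I ≤ p
      · have htors : IsTorsion I (R ⧸ p) := by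
          intro m
          refine ⟨1, fun a ha => ?_⟩
          rw [pow_one] at ha
          rw [Algebra.smul_def, Ideal.Quotient.algebraMap_eq,
            Ideal.Quotient.eq_zero_iff_mem.2 (hIp ha), zero_mul]
        have := subsingleton_of_isTorsion I 1 (by omega) (ModuleCat.of R (R ⧸ p)) htors
        infer_instance
      · exact h p hp hIp

end Groth.Agent.Lib.Helper41.LC
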