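import Groth.Agent.Lib.Helper2.LDCM
import Groth.Agent.Lib.Helper2.Matlis1
import Groth.Agent.S11665
import Groth.Agent.S0341

/-!
# Local duality over a Gorenstein local ring, vanishing form

`H^{d-i}_m(M) = 0 ↔ Ext^i_R(M,R) = 0` for a finite module over a Gorenstein local ring of
dimension `d` and `i ≤ d`.
-/

set_option autoImplicit false
universe u
open CategoryTheory CategoryTheory.Abelian IsLocalRing

namespace Groth.Agent.Lib.Helper41.GorDual

theorem depth_eq_of_gorenstein (R : Type u) [CommRing R] [LocCoh.IsGorensteinLocalRing R] (d : ℕ)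
    (hd : ringKrullDim R = d) : LocCoh.depth R R = d := by
  have hCM : LocCoh.IsCohenMacaulayLocalRing R := Groth.Agent.S0341.result R
  have h := hCM.supportDim_eq_depth
  rw [Module.supportDim_self_eq_ringKrullDim, hd] at h
  have h' : ((d : ℕ∞) : WithBot ℕ∞) = ((LocCoh.depth R R : ℕ∞) : WithBot ℕ∞) := h
  exact (WithBot.coe_injective h').symm

theorem subsingleton_H_iff (R : Type u) [CommRing R] [LocCoh.IsGorensteinLocalRing R] (d : ℕ)
    (hd : ringKrullDim R = d) (M : Type u) [AddCommGroup M] [Module R M] [Module.Finite R M]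
    (i : ℕ) (hi : i ≤ d) :
    Subsingleton (LocCoh.H (maximalIdeal R) (d - i) M) ↔
      Subsingleton (Ext.{u} (ModuleCat.of R M) (ModuleCat.of R R) i) := by
  obtain ⟨g, hg⟩ := Groth.Agent.S11665.result R d hd
  have hdepth : (d : ℕ∞) ≤ LocCoh.depth R R := (depth_eq_of_gorenstein R d hd).ge
  let eK : (R →ₗ[R] LocCoh.H (maximalIdeal R) d R) ≃ₗ[R] LocCoh.H (maximalIdeal R) d R :=
    LinearMap.ringLmapEquivSelf R R _
  obtain ⟨e⟩ := Groth.Agent.Lib.Helper2.LD.duality_ext (maximalIdeal R) d hd.le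
    (Groth.Agent.Lib.Helper2.LD.subsingleton_localCohomology_of_lt_depth d hdepth)
    hg.isInjective eK i hi M
  constructor
  · intro h
    have h1 : Subsingleton (Ext.{u} (ModuleCat.of R M) (ModuleCat.of R R) i →ₗ[R]
        LocCoh.H (maximalIdeal R) d R) := e.symm.toEquiv.subsingleton
    by_contra hne
    rw [not_subsingleton_iff_nontrivial] at hne
    obtain ⟨x, hx⟩ := exists_ne (0 : Ext.{u} (ModuleCat.of R M) (ModuleCat.of R R) i)
    obtain ⟨φ, hφ⟩ := Groth.Agent.Lib.Helper2.exists_linearMap_apply_ne_zero g hg x hx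
    apply hφ
    rw [Subsingleton.elim φ 0]
    rfl
  · intro h
    have h1 : Subsingleton (Ext.{u} (ModuleCat.of R M) (ModuleCat.of R R) i →ₗ[R]
        LocCoh.H (maximalIdeal R) d R) :=
      ⟨fun a b => LinearMap.ext fun x => by rw [Subsingleton.elim x 0]; simp⟩
    exact e.toEquiv.subsingleton

end Groth.Agent.Lib.Helper41.GorDual
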