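import Groth.Agent.Lib.Helper41.OldExt
import Groth.Prelude.Def_DualLC
import Mathlib.Algebra.Category.ModuleCat.FilteredColimits

/-!
# Element-level API for `Dual2.HT T i M` (local cohomology with supports in a subset `T`)

`HT T i M = colim_J Ext^i(R/J, M)` over the ideals `J` with `V(J) ⊆ T`.  This is a port of `LC.lean`
(which treats `localCohomology I i`) to the diagram `Dual2.idealsInDiagram T`.
-/

set_option autoImplicit false
universe u
open CategoryTheory CategoryTheory.Limits Opposite CategoryTheory.Abelian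

namespace Groth.Agent.Lib.Helper41.HTL

open Groth.Agent.Lib.Helper41.OldExt Dual2

variable {R : Type u} [CommRing R] (T : Set (PrimeSpectrum R))

/-- Morphisms of `IdealsIn T` from inequalities. -/
def homLE {J J' : IdealsIn T} (h : J.obj ≤ J'.obj) : J ⟶ J' := ObjectProperty.homMk (homOfLE h)

lemma le_of_hom {J J' : IdealsIn T} (f : J ⟶ J') : J.obj ≤ J'.obj := f.hom.le

/-- The unit ideal as an object of `IdealsIn T`. -/
def topI : IdealsIn T := ⟨⊤, by
  intro p hp
  exact absurd (hp (Submodule.mem_top : (1 : R) ∈ (⊤ : Ideal R))) (p.isPrime.one_notMem)⟩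

/-- The intersection of two objects. -/
def infI (J J' : IdealsIn T) : IdealsIn T := ⟨J.obj ⊓ J'.obj, by
  rw [PrimeSpectrum.zeroLocus_inf]
  exact Set.union_subset J.property J'.property⟩

/-- The product of two objects. -/
def mulI (J J' : IdealsIn T) : IdealsIn T := ⟨J.obj * J'.obj, by
  rw [PrimeSpectrum.zeroLocus_mul]
  exact Set.union_subset J.property J'.property⟩

instance : Nonempty (IdealsIn T) := ⟨topI T⟩

instance : IsCofiltered (IdealsIn T) where
  cone_objs J J' := ⟨infI T J J', homLE T inf_le_left, homLE T inf_le_right, trivial⟩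
  cone_maps J J' f g := ⟨J, 𝟙 J, by
    apply ObjectProperty.hom_ext
    exact Subsingleton.elim _ _⟩
  nonempty := inferInstance

instance : PreservesColimitsOfShape (IdealsIn T)ᵒᵖ (forget (ModuleCat.{u} R)) :=
  PreservesFilteredColimitsOfSize.preserves_filtered_colimits _

/-- `R/J` as an object of `ModuleCat R`. -/
abbrev Q (J : IdealsIn T) : ModuleCat.{u} R := ModuleCat.of R (R ⧸ J.obj)

/-- The projection `R/J → R/J'` for a morphism `J ⟶ J'`. -/
abbrev projM {J J' : IdealsIn T} (f : J ⟶ J') : Q T J ⟶ Q T J' :=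
  (localCohomology.ringModIdeals (idealsInDiagram T)).map f

variable (i : ℕ) (M : ModuleCat.{u} R)

/-- The diagram `J ↦ Ext^i(R/J, M)` (old-style Ext). -/
noncomputable abbrev evalDiagram : (IdealsIn T)ᵒᵖ ⥤ ModuleCat.{u} R :=
  localCohomology.diagram (idealsInDiagram T) i ⋙ (evaluation _ _).obj M

/-- `H^i_T(M)` as a module. -/
noncomputable abbrev HTobj : ModuleCat.{u} R :=
  (localCohomology.ofDiagram.{u, u} (idealsInDiagram T) i).obj M

/-- The colimit cocone on `evalDiagram` with point `H^i_T(M)`. -/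
noncomputable def evalCocone : Cocone (evalDiagram T i M) :=
  haveI := localCohomology.hasColimitDiagram.{u, u} (idealsInDiagram T) i
  ((evaluation _ _).obj M).mapCocone
    (colimit.cocone (localCohomology.diagram (idealsInDiagram T) i))

/-- It is a colimit cocone. -/
noncomputable def evalCoconeIsColimit : IsColimit (evalCocone T i M) :=
  haveI := localCohomology.hasColimitDiagram.{u, u} (idealsInDiagram T) i
  isColimitOfPreserves ((evaluation _ _).obj M) (colimit.isColimit _)

example : (evalCocone T i M).pt = HTobj T i M := rfl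

/-- The structure map `Ext^i(R/J, M) → H^i_T(M)`. -/
noncomputable def ιH (J : IdealsIn T) : Ext.{u} (Q T J) M i →ₗ[R] HTobj T i M :=
  ((evalCocone T i M).ι.app (op J)).hom ∘ₗ (oldNew i (Q T J) M).symm.toLinearMap

variable {T i M}

lemma ιH_apply (J : IdealsIn T) (e : Ext.{u} (Q T J) M i) :
    ιH T i M J e = ((evalCocone T i M).ι.app (op J)).hom ((oldNew i (Q T J) M).symm e) := rfl

lemma ι_eq_ιH (J : IdealsIn T) (y : oldExt i (Q T J) M) :
    ((evalCocone T i M).ι.app (op J)).hom y = ιH T i M J (oldNew i (Q T J) M y) := by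
  rw [ιH_apply, LinearEquiv.symm_apply_apply]

lemma exists_rep (x : HTobj T i M) :
    ∃ (J : IdealsIn T) (e : Ext.{u} (Q T J) M i), ιH T i M J e = x := by
  obtain ⟨j, y, hy⟩ := Concrete.isColimit_exists_rep (evalDiagram T i M) (evalCoconeIsColimit T i M) x
  refine ⟨j.unop, oldNew i _ M y, ?_⟩
  rw [← ι_eq_ιH]
  exact hy

lemma oldNew_evalDiagram_map {J J' : IdealsIn T} (f : J ⟶ J') (y : oldExt i (Q T J') M) :
    oldNew i (Q T J) M (((evalDiagram T i M).map f.op).hom y) =
      (Ext.mk₀ (projM T f)).comp (oldNew i (Q T J') M y) (zero_add i) :=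
  oldNew_map_left i (projM T f) M y

lemma ιH_comp {J J' : IdealsIn T} (f : J ⟶ J') (e : Ext.{u} (Q T J') M i) :
    ιH T i M J ((Ext.mk₀ (projM T f)).comp e (zero_add i)) = ιH T i M J' e := by
  have h1 := (evalCocone T i M).ι.naturality (X := op J') (Y := op J) f.op
  have h2 := congrArg (fun φ => φ.hom ((oldNew i (Q T J') M).symm e)) h1
  simp only [Functor.const_obj_obj, Functor.const_obj_map, Category.comp_id, ModuleCat.hom_comp,
    LinearMap.comp_apply] at h2
  rw [← ιH_apply] at h2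
  rw [← h2, ι_eq_ιH, oldNew_evalDiagram_map, LinearEquiv.apply_symm_apply]

lemma ιH_eq_zero_iff (J : IdealsIn T) (e : Ext.{u} (Q T J) M i) :
    ιH T i M J e = 0 ↔ ∃ (J' : IdealsIn T) (f : J' ⟶ J), (Ext.mk₀ (projM T f)).comp e (zero_add i) = 0 := by
  constructor
  · intro h0
    have h1 : (evalCocone T i M).ι.app (op J) ((oldNew i (Q T J) M).symm e) =
        (evalCocone T i M).ι.app (op J) 0 := by
      rw [map_zero]; exact h0
    obtain ⟨k, a, b, hab⟩ := Concrete.isColimit_exists_of_rep_eq (evalDiagram T i M)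
      (evalCoconeIsColimit T i M) _ _ h1
    refine ⟨k.unop, a.unop, ?_⟩
    rw [map_zero] at hab
    have := oldNew_evalDiagram_map a.unop ((oldNew i (Q T J) M).symm e)
    rw [LinearEquiv.apply_symm_apply] at this
    rw [← this]
    have h3 : ((evalDiagram T i M).map a.unop.op).hom ((oldNew i (Q T J) M).symm e) = 0 := hab
    rw [h3]
    exact map_zero (oldNew i (Q T (unop k)) M)
  · rintro ⟨J', f, hm⟩
    rw [← ιH_comp f, hm, map_zero]

lemma map_ιH {M' : ModuleCat.{u} R} (f : M ⟶ M') (J : IdealsIn T) (e : Ext.{u} (Q T J) M i) :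
    ((localCohomology.ofDiagram.{u, u} (idealsInDiagram T) i).map f).hom (ιH T i M J e) =
      ιH T i M' J (e.comp (Ext.mk₀ f) (add_zero i)) := by
  haveI := localCohomology.hasColimitDiagram.{u, u} (idealsInDiagram T) i
  have h1 := (colimit.ι (localCohomology.diagram (idealsInDiagram T) i) (op J)).naturality f
  have h2 := congrArg (fun φ => φ.hom ((oldNew i (Q T J) M).symm e)) h1
  simp only [ModuleCat.hom_comp, LinearMap.comp_apply] at h2
  rw [ιH_apply]
  refine h2.symm.trans ?_
  rw [ιH_apply]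
  congr 1
  apply (oldNew i (Q T J) M').injective
  rw [LinearEquiv.apply_symm_apply]
  have := oldNew_map_right i (Q T J) f ((oldNew i (Q T J) M).symm e)
  rw [LinearEquiv.apply_symm_apply] at this
  exact this

section desc

variable {N : Type u} [AddCommGroup N] [Module R N]
  (φ : ∀ J : IdealsIn T, Ext.{u} (Q T J) M i →ₗ[R] N)
  (hφ : ∀ (J J' : IdealsIn T) (f : J ⟶ J') (e : Ext.{u} (Q T J') M i),
    φ J ((Ext.mk₀ (projM T f)).comp e (zero_add i)) = φ J' e)

/-- The cocone used to define maps out of `H^i_T`. -/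
noncomputable def descCocone : Cocone (evalDiagram T i M) where
  pt := ModuleCat.of R N
  ι :=
    { app := fun j => ModuleCat.ofHom (φ j.unop ∘ₗ (oldNew i (Q T j.unop) M).toLinearMap)
      naturality := by
        intro a b f
        apply ModuleCat.hom_ext
        apply LinearMap.ext
        intro y
        simp only [Functor.const_obj_obj, Functor.const_obj_map, Category.comp_id, ModuleCat.hom_comp,
          LinearMap.comp_apply]
        refine Eq.trans ?_ (hφ _ _ f.unop _)
        exact congrArg _ (oldNew_evalDiagram_map f.unop y) }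

/-- Maps out of `H^i_T` from compatible families of maps out of the `Ext` groups. -/
noncomputable def descH : HTobj T i M →ₗ[R] N :=
  ((evalCoconeIsColimit T i M).desc (descCocone φ hφ)).hom

lemma descH_ιH (J : IdealsIn T) (e : Ext.{u} (Q T J) M i) : descH φ hφ (ιH T i M J e) = φ J e := by
  have h1 := (evalCoconeIsColimit T i M).fac (descCocone φ hφ) (op J)
  have h2 := congrArg (fun ψ => ψ.hom ((oldNew i (Q T J) M).symm e)) h1
  simp only [ModuleCat.hom_comp, LinearMap.comp_apply] at h2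
  rw [ιH_apply]
  refine h2.trans ?_
  change φ J (oldNew i (Q T J) M ((oldNew i (Q T J) M).symm e)) = φ J e
  rw [LinearEquiv.apply_symm_apply]

end desc

section postcomp

variable (T)

/-- Postcomposition with an `Ext` class induces maps on `H_T`. -/
noncomputable def postcompH {M M' : ModuleCat.{u} R} {k : ℕ} (β : Ext.{u} M M' k) (i j : ℕ) (h : i + k = j) :
    HTobj T i M →ₗ[R] HTobj T j M' :=
  descH (fun J => ιH T j M' J ∘ₗ β.postcompOfLinear R (Q T J) h) (by
    intro J J' f e
    simp only [LinearMap.comp_apply, LinearMap.flip_apply, Ext.bilinearCompOfLinear_apply_apply]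
    rw [Ext.comp_assoc _ _ _ (zero_add i) h (by omega), ιH_comp])

lemma postcompH_ιH {M M' : ModuleCat.{u} R} {k : ℕ} (β : Ext.{u} M M' k) (i j : ℕ) (h : i + k = j)
    (J : IdealsIn T) (e : Ext.{u} (Q T J) M i) :
    postcompH T β i j h (ιH T i M J e) = ιH T j M' J (e.comp β h) := by
  unfold postcompH
  rw [descH_ιH]
  rfl

lemma map_eq_postcompH {M M' : ModuleCat.{u} R} (f : M ⟶ M') (i : ℕ) :
    ((localCohomology.ofDiagram.{u, u} (idealsInDiagram T) i).map f).hom =
      postcompH T (Ext.mk₀ f) i i (add_zero i) := by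
  apply LinearMap.ext
  intro x
  obtain ⟨J, e, rfl⟩ := exists_rep x
  rw [map_ιH, postcompH_ιH]

lemma postcompH_comp {M M' M'' : ModuleCat.{u} R} {k k' : ℕ} (β : Ext.{u} M M' k) (β' : Ext.{u} M' M'' k')
    (i j l : ℕ) (h : i + k = j) (h' : j + k' = l) (kk : ℕ) (hkk : k + k' = kk)
    (x : HTobj T i M) :
    postcompH T β' j l h' (postcompH T β i j h x) = postcompH T (β.comp β' hkk) i l (by omega) x := by
  obtain ⟨J, e, rfl⟩ := exists_rep x
  rw [postcompH_ιH, postcompH_ιH, postcompH_ιH, Ext.comp_assoc _ _ _ h hkk (by omega)]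

lemma postcompH_zero {M M' : ModuleCat.{u} R} {k : ℕ} (i j : ℕ) (h : i + k = j) :
    postcompH T (0 : Ext.{u} M M' k) i j h = 0 := by
  apply LinearMap.ext
  intro x
  obtain ⟨J, e, rfl⟩ := exists_rep x
  rw [postcompH_ιH, Ext.comp_zero, map_zero, LinearMap.zero_apply]

end postcomp

section LES

variable (T) {S : ShortComplex (ModuleCat.{u} R)} (hS : S.ShortExact)

/-- The connecting homomorphism for a short exact sequence of modules. -/
noncomputable def δ (i j : ℕ) (h : i + 1 = j) : HTobj T i S.X₃ →ₗ[R] HTobj T j S.X₁ :=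
  postcompH T hS.extClass i j h

lemma δ_ιH (i j : ℕ) (h : i + 1 = j) (J : IdealsIn T) (e : Ext.{u} (Q T J) S.X₃ i) :
    δ T hS i j h (ιH T i S.X₃ J e) = ιH T j S.X₁ J (e.comp hS.extClass h) :=
  postcompH_ιH T _ i j h J e

lemma δ_map_eq_zero (i j : ℕ) (h : i + 1 = j) (x : HTobj T i S.X₂) :
    δ T hS i j h (((localCohomology.ofDiagram.{u, u} (idealsInDiagram T) i).map S.g).hom x) = 0 := by
  unfold δ
  rw [map_eq_postcompH, postcompH_comp T _ _ i i j _ _ 1 (zero_add 1), hS.comp_extClass, postcompH_zero,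
    LinearMap.zero_apply]

include hS in
/-- Exactness at `H^i(X₂)`. -/
theorem exact₂ (i : ℕ) (x₂ : HTobj T i S.X₂)
    (hx : ((localCohomology.ofDiagram.{u, u} (idealsInDiagram T) i).map S.g).hom x₂ = 0) :
    ∃ x₁ : HTobj T i S.X₁,
      ((localCohomology.ofDiagram.{u, u} (idealsInDiagram T) i).map S.f).hom x₁ = x₂ := by
  obtain ⟨J, e, rfl⟩ := exists_rep x₂
  rw [map_ιH, ιH_eq_zero_iff] at hx
  obtain ⟨J', f, h0⟩ := hx
  rw [← Ext.comp_assoc _ _ _ (zero_add i) (add_zero i) (by omega)] at h0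
  obtain ⟨e₁, he₁⟩ := Ext.covariant_sequence_exact₂ _ hS _ h0
  refine ⟨ιH T i S.X₁ J' e₁, ?_⟩
  rw [map_ιH, he₁, ιH_comp]

/-- Exactness at `H^i(X₃)`. -/
theorem exact₃ (i j : ℕ) (h : i + 1 = j) (x₃ : HTobj T i S.X₃)
    (hx : δ T hS i j h x₃ = 0) :
    ∃ x₂ : HTobj T i S.X₂,
      ((localCohomology.ofDiagram.{u, u} (idealsInDiagram T) i).map S.g).hom x₂ = x₃ := by
  obtain ⟨J, e, rfl⟩ := exists_rep x₃
  rw [δ_ιH, ιH_eq_zero_iff] at hx
  obtain ⟨J', f, h0⟩ := hx
  rw [← Ext.comp_assoc _ _ _ (zero_add i) h (by omega)] at h0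
  obtain ⟨e₂, he₂⟩ := Ext.covariant_sequence_exact₃ _ hS _ h h0
  refine ⟨ιH T i S.X₂ J' e₂, ?_⟩
  rw [map_ιH, he₂, ιH_comp]

/-- Exactness at `H^{i+1}(X₁)`. -/
theorem exact₁ (i j : ℕ) (h : i + 1 = j) (x₁ : HTobj T j S.X₁)
    (hx : ((localCohomology.ofDiagram.{u, u} (idealsInDiagram T) j).map S.f).hom x₁ = 0) :
    ∃ x₃ : HTobj T i S.X₃, δ T hS i j h x₃ = x₁ := by
  obtain ⟨J, e, rfl⟩ := exists_rep x₁
  rw [map_ιH, ιH_eq_zero_iff] at hx
  obtain ⟨J', f, h0⟩ := hx
  rw [← Ext.comp_assoc _ _ _ (zero_add j) (add_zero j) (by omega)] at h0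
  obtain ⟨e₃, he₃⟩ := Ext.covariant_sequence_exact₁ _ hS _ h0 h
  refine ⟨ιH T i S.X₃ J' e₃, ?_⟩
  rw [δ_ιH, he₃, ιH_comp]

end LES

end Groth.Agent.Lib.Helper41.HTL
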