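import Groth.Agent.Lib.Helper41.HT0
import Groth.Agent.Lib.Helper41.LCVanish

/-!
# Finiteness of `H^i_T(M)` for `i ≤ n` versus annihilation by an ideal `J` with `V(J) ⊆ T`
-/

set_option autoImplicit false
universe u
open CategoryTheory CategoryTheory.Limits Opposite CategoryTheory.Abelian

namespace Groth.Agent.Lib.Helper41.HTL

open Dual2

variable {R : Type u} [CommRing R] (T : Set (PrimeSpectrum R))

section Consequences

variable {S : ShortComplex (ModuleCat.{u} R)} (hS : S.ShortExact)

include hS in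
lemma map_g_injective_of_subsingleton (i : ℕ) (h1 : Subsingleton (HTobj T i S.X₁)) :
    Function.Injective ((localCohomology.ofDiagram.{u, u} (idealsInDiagram T) i).map S.g).hom := by
  rw [injective_iff_map_eq_zero]
  intro x hx
  obtain ⟨x₁, rfl⟩ := exact₂ T hS i x hx
  rw [Subsingleton.elim x₁ 0, map_zero]

include hS in
lemma map_g_surjective_of_subsingleton (i : ℕ) (h1 : Subsingleton (HTobj T (i + 1) S.X₁)) :
    Function.Surjective ((localCohomology.ofDiagram.{u, u} (idealsInDiagram T) i).map S.g).hom := by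
  intro x₃
  exact exact₃ T hS i (i + 1) rfl x₃ (Subsingleton.elim _ _)

lemma smul_eq_zero_X₃_of_surjective (i : ℕ) (a : R)
    (h2 : ∀ z : HTobj T i S.X₂, a • z = 0)
    (hsurj : Function.Surjective
      ((localCohomology.ofDiagram.{u, u} (idealsInDiagram T) i).map S.g).hom)
    (y : HTobj T i S.X₃) : a • y = 0 := by
  obtain ⟨z, rfl⟩ := hsurj y
  rw [← map_smul, h2, map_zero]

include hS in
lemma mul_smul_eq_zero_X₃ (i : ℕ) (a b : R)
    (h1 : ∀ y : HTobj T (i + 1) S.X₁, b • y = 0)
    (h2 : ∀ z : HTobj T i S.X₂, a • z = 0)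
    (z : HTobj T i S.X₃) : (a * b) • z = 0 := by
  have hδ : δ T hS i (i + 1) rfl (b • z) = 0 := by
    rw [map_smul]
    exact h1 _
  obtain ⟨w, hw⟩ := exact₃ T hS i (i + 1) rfl (b • z) hδ
  rw [mul_smul, ← hw, ← map_smul, h2, map_zero]

lemma δ_surjective_of_map_f_eq_zero (i : ℕ)
    (h : ∀ y : HTobj T (i + 1) S.X₁,
      ((localCohomology.ofDiagram.{u, u} (idealsInDiagram T) (i + 1)).map S.f).hom y = 0) :
    Function.Surjective (δ T hS i (i + 1) rfl) :=
  fun y => exact₁ T hS i (i + 1) rfl y (h y)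

end Consequences

variable [IsNoetherianRing R]

/-- `H^0_T(M)` is finite for a finite module over a Noetherian ring. -/
theorem finite_zero (M : Type u) [AddCommGroup M] [Module R M] [Module.Finite R M] :
    Module.Finite R (HTobj T 0 (ModuleCat.of R M)) :=
  Module.Finite.of_injective (toMod T (ModuleCat.of R M)) (toMod_injective T _)

/-- `H^0_T(M) = 0` iff `M` has no nonzero `T`-torsion. -/
theorem subsingleton_zero_of_torsT_eq_bot (M : Type u) [AddCommGroup M] [Module R M]
    (h : torsT T M = ⊥) : Subsingleton (HTobj T 0 (ModuleCat.of R M)) := by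
  refine ⟨fun x y => ?_⟩
  apply toMod_injective T (ModuleCat.of R M)
  have hx : toMod T (ModuleCat.of R M) x ∈ torsT T M :=
    (mem_range_toMod_iff T (ModuleCat.of R M) _).1 ⟨x, rfl⟩
  have hy : toMod T (ModuleCat.of R M) y ∈ torsT T M :=
    (mem_range_toMod_iff T (ModuleCat.of R M) _).1 ⟨y, rfl⟩
  rw [h, Submodule.mem_bot] at hx hy
  rw [hx, hy]

/-- Over a Noetherian ring, `M/Γ_T(M)` has no `T`-torsion. -/
theorem torsT_quotient_eq_bot (M : Type u) [AddCommGroup M] [Module R M] :
    torsT T (M ⧸ torsT T M) = ⊥ := by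
  rw [eq_bot_iff]
  rintro y ⟨J, hJ⟩
  obtain ⟨m, rfl⟩ := Submodule.Quotient.mk_surjective _ y
  rw [Submodule.mem_bot, Submodule.Quotient.mk_eq_zero]
  let S : Submodule R M := Submodule.map (LinearMap.toSpanSingleton R M m) J.obj
  have hSfg : S.FG := (IsNoetherian.noetherian J.obj).map _
  have hSle : S ≤ torsT T M := by
    rintro _ ⟨a, ha, rfl⟩
    have := hJ a ha
    rw [← Submodule.Quotient.mk_smul, Submodule.Quotient.mk_eq_zero] at this
    exact this
  obtain ⟨J', hJ'⟩ := exists_smul_eq_zero_of_fg T S hSfg hSle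
  refine ⟨mulI T J' J, fun c hc => ?_⟩
  refine Submodule.mul_induction_on hc ?_ ?_
  · intro b hb a ha
    rw [mul_smul]
    exact hJ' b hb _ ⟨a, ha, rfl⟩
  · intro x y hx hy
    rw [add_smul, hx, hy, add_zero]

/-- If `J` (with `V(J) ⊆ T`) kills `H^i_T(M)` for all `i ≤ n` (`M` finite over a Noetherian ring),
then these modules are finite. -/
theorem finite_of_smul_eq_zero (n : ℕ) :
    ∀ (M : Type u) [AddCommGroup M] [Module R M] [Module.Finite R M] (J : IdealsIn T),
      (∀ i ≤ n, ∀ a ∈ J.obj, ∀ x : HTobj T i (ModuleCat.of R M), a • x = 0) →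
      ∀ i ≤ n, Module.Finite R (HTobj T i (ModuleCat.of R M)) := by
  induction n with
  | zero =>
    intro M _ _ _ J _ i hi
    obtain rfl : i = 0 := by omega
    exact finite_zero T M
  | succ n ih =>
    intro M _ _ _ J hk i hi
    rcases Nat.eq_zero_or_pos i with rfl | hipos
    · exact finite_zero T M
    obtain ⟨j, rfl⟩ : ∃ j, i = j + 1 := ⟨i - 1, by omega⟩
    let Tor : Submodule R M := torsT T M
    have hS₁ := LC.subQuotSC_shortExact Tor
    have hT : ∀ i, 0 < i → Subsingleton (HTobj T i (LC.subQuotSC Tor).X₁) :=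
      fun i hi => subsingleton_of_isTorsT T i hi (ModuleCat.of R Tor) (isTorsT_torsT T M)
    have hN0 : torsT T (M ⧸ Tor) = ⊥ := torsT_quotient_eq_bot T M
    have hN0' : LC.powTorsion J.obj (M ⧸ Tor) = ⊥ := by
      rw [eq_bot_iff, ← hN0]
      exact powTorsion_le_torsT T J (M ⧸ Tor)
    obtain ⟨x, hxI, hreg⟩ := LC.exists_isSMulRegular_mem J.obj (M ⧸ Tor) hN0'
    have hS₂ := hreg.smulShortComplex_shortExact (M := ModuleCat.of R (M ⧸ Tor))
    -- `J` kills `H^i(N)` for `i ≤ n + 1`
    have hkN : ∀ i ≤ n + 1, ∀ a ∈ J.obj,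
        ∀ y : HTobj T i (ModuleCat.of R (M ⧸ Tor)), a • y = 0 := by
      intro i hi a ha y
      rcases Nat.eq_zero_or_pos i with rfl | hipos
      · have : Subsingleton (HTobj T 0 (ModuleCat.of R (M ⧸ Tor))) :=
          subsingleton_zero_of_torsT_eq_bot T (M ⧸ Tor) hN0
        exact Subsingleton.elim _ _
      · exact smul_eq_zero_X₃_of_surjective T i a (hk i hi a ha)
          (map_g_surjective_of_subsingleton T hS₁ i (hT (i + 1) (by omega))) y
    -- the quotient `Q = N / xN`
    have hkQ : ∀ i ≤ n, ∀ c ∈ (mulI T J J).obj,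
        ∀ z : HTobj T i (ModuleCat.of R (QuotSMulTop x (M ⧸ Tor))), c • z = 0 := by
      intro i hi c hc z
      have hle : J.obj * J.obj ≤ Module.annihilator R
          (HTobj T i (ModuleCat.of R (QuotSMulTop x (M ⧸ Tor)))) := by
        rw [Ideal.mul_le]
        intro a ha b hb
        rw [Module.mem_annihilator]
        intro z
        exact mul_smul_eq_zero_X₃ T hS₂ i a b (hkN (i + 1) (by omega) b hb)
          (hkN i (by omega) a ha) z
      exact (Module.mem_annihilator.1 (hle hc)) z
    have hfinQ : Module.Finite R (HTobj T j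
        ((ModuleCat.of R (M ⧸ Tor)).smulShortComplex x).X₃) :=
      ih (QuotSMulTop x (M ⧸ Tor)) (mulI T J J) hkQ j (by omega)
    -- `δ : H^j(Q) → H^{j+1}(N)` is surjective
    have hδ : Function.Surjective (δ T hS₂ j (j + 1) rfl) := by
      apply δ_surjective_of_map_f_eq_zero T hS₂ j
      intro y
      change ((localCohomology.ofDiagram.{u, u} (idealsInDiagram T) (j + 1)).map
        (x • 𝟙 (ModuleCat.of R (M ⧸ Tor)))).hom y = 0
      rw [map_smul_id]
      exact hkN (j + 1) hi x hxI y
    have hfinN : Module.Finite R (HTobj T (j + 1) (LC.subQuotSC Tor).X₃) :=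
      Module.Finite.of_surjective (δ T hS₂ j (j + 1) rfl) hδ
    have hinj := map_g_injective_of_subsingleton T hS₁ (j + 1) (hT (j + 1) (by omega))
    exact Module.Finite.of_injective
      ((localCohomology.ofDiagram.{u, u} (idealsInDiagram T) (j + 1)).map (LC.subQuotSC Tor).g).hom hinj

/-- Conversely, finite `H^i_T(M)` for `i ≤ n` are killed by a single `J` with `V(J) ⊆ T`. -/
theorem exists_smul_eq_zero_of_finite (n : ℕ) (M : Type u) [AddCommGroup M] [Module R M]
    (h : ∀ i ≤ n, Module.Finite R (HTobj T i (ModuleCat.of R M))) :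
    ∃ J : IdealsIn T, ∀ i ≤ n, ∀ a ∈ J.obj, ∀ x : HTobj T i (ModuleCat.of R M), a • x = 0 := by
  induction n with
  | zero =>
    have := h 0 le_rfl
    obtain ⟨J, hJ⟩ := exists_smul_eq_zero_of_fg T (⊤ : Submodule R (HTobj T 0 (ModuleCat.of R M)))
      (Module.finite_def.1 this) (fun x _ => isTorsT_H T 0 (ModuleCat.of R M) x)
    refine ⟨J, fun i hi a ha x => ?_⟩
    obtain rfl : i = 0 := by omega
    exact hJ a ha x Submodule.mem_top
  | succ n ih =>
    obtain ⟨J₁, hJ₁⟩ := ih (fun i hi => h i (by omega))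
    have := h (n + 1) le_rfl
    obtain ⟨J₂, hJ₂⟩ := exists_smul_eq_zero_of_fg T
      (⊤ : Submodule R (HTobj T (n + 1) (ModuleCat.of R M)))
      (Module.finite_def.1 this) (fun x _ => isTorsT_H T (n + 1) (ModuleCat.of R M) x)
    refine ⟨infI T J₁ J₂, fun i hi a ha x => ?_⟩
    rcases Nat.lt_or_ge i (n + 1) with hlt | hge
    · exact hJ₁ i (by omega) a ha.1 x
    · obtain rfl : i = n + 1 := by omega
      exact hJ₂ a ha.2 x Submodule.mem_top

end Groth.Agent.Lib.Helper41.HTL
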