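import Groth.Agent.Lib.Helper41.RelCodim

/-!
# More on `SGA2.relCodim`: codimension one and the ideal-height formula
-/

set_option autoImplicit false
universe u

namespace Groth.Agent.Lib.Helper41.RelCodim

variable {A : Type u} [CommRing A]

theorem height_Ici_le_one_of_covBy (p q : PrimeSpectrum A) (h : p ⋖ q) :
    Order.height (⟨q, h.le⟩ : Set.Ici p) ≤ 1 := by
  have : Order.height (⟨q, h.le⟩ : Set.Ici p) ≤ ((1 : ℕ) : ℕ∞) := by
    rw [Order.height_le_coe_iff]
    rintro ⟨y, hy⟩ hyq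
    have hyq' : y < q := hyq
    have hy' : p ≤ y := hy
    have hyp : y = p := by
      by_contra hne
      exact h.2 (lt_of_le_of_ne hy' (Ne.symm hne)) hyq'
    subst hyp
    have : Order.height (⟨y, hy⟩ : Set.Ici y) = 0 := by
      rw [Order.height_eq_zero]
      intro z _
      exact z.2
    rw [this]
    exact_mod_cast Nat.zero_lt_one
  simpa using this

theorem relCodim_eq_one_of_covBy (I : Ideal A) (p q : PrimeSpectrum A) (hp : ¬ I ≤ p.asIdeal)
    (hq : I ≤ q.asIdeal) (h : p ⋖ q) : SGA2.relCodim I p = 1 :=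
  le_antisymm ((relCodim_le I p q h.le hq).trans (height_Ici_le_one_of_covBy p q h))
    (one_le_relCodim I p hp)

theorem exists_covBy_of_relCodim_eq_one (I : Ideal A) (p : PrimeSpectrum A)
    (hc : SGA2.relCodim I p = 1) : ∃ q : PrimeSpectrum A, I ≤ q.asIdeal ∧ p ⋖ q := by
  obtain ⟨p', q, hpp', hcov, hIq, -, -, hht⟩ := exists_covBy_of_relCodim_eq I p 0 (by
    rw [hc]; rfl)
  have h0 : Order.height (⟨p', hpp'⟩ : Set.Ici p) = 0 := by rw [hht]; rfl
  rw [Order.height_eq_zero] at h0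
  have hle : (⟨p', hpp'⟩ : Set.Ici p) ≤ ⟨p, le_refl p⟩ :=
    h0 (show (⟨p, le_refl p⟩ : Set.Ici p) ≤ ⟨p', hpp'⟩ from hpp')
  have hp'p : p' = p := le_antisymm hle hpp'
  subst hp'p
  exact ⟨q, hIq, hcov⟩

/-- `relCodim I p` is the height of the ideal `(I + p)/p` of `A/p`. -/
theorem relCodim_eq_height_map (I : Ideal A) (p : PrimeSpectrum A) :
    SGA2.relCodim I p = ((I ⊔ p.asIdeal).map (Ideal.Quotient.mk p.asIdeal)).height := by
  apply le_antisymm
  · rw [Ideal.height_eq_inf_minimalPrimes]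
    refine le_iInf₂ fun Q hQ => ?_
    haveI := hQ.1.1
    have hpq : p.asIdeal ≤ Q.comap (Ideal.Quotient.mk p.asIdeal) := by
      intro x hx
      rw [Ideal.mem_comap, Ideal.Quotient.eq_zero_iff_mem.mpr hx]
      exact zero_mem _
    have hIq : I ≤ Q.comap (Ideal.Quotient.mk p.asIdeal) := by
      intro x hx
      rw [Ideal.mem_comap]
      exact hQ.1.2 (Ideal.mem_map_of_mem _ (Ideal.mem_sup_left hx))
    let q : PrimeSpectrum A := ⟨Q.comap (Ideal.Quotient.mk p.asIdeal), Ideal.IsPrime.comap _⟩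
    have h1 := relCodim_le I p q hpq hIq
    rw [height_Ici_eq p q hpq] at h1
    have h2 : q.asIdeal.map (Ideal.Quotient.mk p.asIdeal) = Q :=
      Ideal.map_comap_of_surjective _ Ideal.Quotient.mk_surjective Q
    rwa [h2] at h1
  · unfold SGA2.relCodim
    refine le_iInf fun q => ?_
    rw [height_Ici_eq p q.1 q.2.1]
    exact Ideal.height_mono (Ideal.map_mono (sup_le q.2.2 q.2.1))

end Groth.Agent.Lib.Helper41.RelCodim
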