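import Groth.Agent.Lib.Helper41.TildeFlasque
import Groth.Agent.Lib.Helper41.LC0
import Groth.Agent.Lib.Helper41.LCChar
import Groth.Agent.Lib.QCoh.Affine
import Groth.Agent.Lib.Cohomology.helper5_HHLES
import Groth.Agent.S6023
import Groth.Prelude.Def_LocCohZ

/-!
# Affine comparison: cohomology with supports of `N~` is the local cohomology of `N`

For a Noetherian ring `A`, an ideal `I` and an `A`-module `N`:
`H^i_{V(I)}(Spec A, N~) ≃+ H^i_I(N)`.
-/

set_option autoImplicit false
universe u
open AlgebraicGeometry CategoryTheory CategoryTheory.Limits Opposite TopologicalSpace Abelian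

namespace Groth.Agent.Lib.Helper41.AffLC

open Groth.Agent.Lib.Helper46.TildePunctured Groth.Agent.Lib.Helper41.LC
  Groth.Agent.Lib.Helper41.TildeFlasque Groth.Agent.Lib.Cohomology.HHLES

variable (A : Type u) [CommRing A]

instance tildeAdditive : (tilde.functor (CommRingCat.of A)).Additive :=
  (fun R : CommRingCat.{u} => (inferInstance : (tilde.functor R).Additive)) (CommRingCat.of A)
instance tildePFL : PreservesFiniteLimits (tilde.functor (CommRingCat.of A)) :=
  (fun R : CommRingCat.{u} => (inferInstance : PreservesFiniteLimits (tilde.functor R))) (CommRingCat.of A)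
instance tildePFC : PreservesFiniteColimits (tilde.functor (CommRingCat.of A)) :=
  (fun R : CommRingCat.{u} => (inferInstance : PreservesFiniteColimits (tilde.functor R))) (CommRingCat.of A)

/-- The functor `N ↦ N~` to abelian sheaves on `Spec A`. -/
noncomputable def shF : ModuleCat.{u} A ⥤ CohTop.Ab (Spec (CommRingCat.of A)).carrier :=
  tilde.functor (CommRingCat.of A) ⋙ toAbF (Spec (CommRingCat.of A))

lemma shF_obj (N : ModuleCat.{u} A) : (shF A).obj N = shf A N := rfl

instance shF_additive : (shF A).Additive :=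
  inferInstanceAs (tilde.functor (CommRingCat.of A) ⋙ toAbF (Spec (CommRingCat.of A))).Additive

variable {A}

/-- `shF` preserves short exact sequences. -/
lemma shF_shortExact {S : ShortComplex (ModuleCat.{u} A)} (hS : S.ShortExact) :
    (S.map (shF A)).ShortExact := by
  have h1 : (S.map (tilde.functor (CommRingCat.of A))).ShortExact := hS.map_of_exact _
  exact toAb_shortExact h1

variable [IsNoetherianRing A] (I : Ideal A)

/-- The sheaf `ℤ_X/ℤ_U` for `U = Spec A ∖ V(I)`. -/
noncomputable abbrev QI : CohTop.Ab (Spec (CommRingCat.of A)).carrier :=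
  LocCohZ.zq (le_top : LocCoh.puncturedOpen A I ≤ ⊤)

/-- `H^{k+1}_Z(Spec A, E~) = 0` for `E` injective. -/
theorem subsingleton_T_of_injective (E : ModuleCat.{u} A) [Injective E] (k : ℕ) :
    Subsingleton (Ext.{u} (QI I) ((shF A).obj E) (k + 1)) := by
  have : Module.Injective A E := Module.injective_module_of_injective_object A E
  have hfl : TopCat.Sheaf.IsFlasque (shf A E) := isFlasque_tilde_of_injective E
  exact Groth.Agent.S6023.partA (shf A E) _ _ le_top k


/-! ### Degree zero -/

omit [IsNoetherianRing A] in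
lemma toU_top_bijective (N : Type u) [AddCommGroup N] [Module A N] :
    Function.Bijective (toU (M := N) (⊤ : (Spec (CommRingCat.of A)).Opens)) := by
  have : IsIso (tilde.toOpen (R := CommRingCat.of A) (ModuleCat.of A N) ⊤) :=
    (fun (R : CommRingCat.{u}) (M : ModuleCat.{u} R) => (tilde.isIso_toOpen_top : IsIso (tilde.toOpen M ⊤)))
      (CommRingCat.of A) (ModuleCat.of A N)
  exact ConcreteCategory.bijective_of_isIso (tilde.toOpen (R := CommRingCat.of A) (ModuleCat.of A N) ⊤)

omit [IsNoetherianRing A] in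
lemma shF_map_toU {N N' : ModuleCat.{u} A} (φ : N ⟶ N') (U : (Spec (CommRingCat.of A)).Opens) (n : N) :
    (((shF A).map φ).hom.app (op U)).hom (toU (M := N) U n) = toU (M := N') U (φ.hom n) := by
  have h := tilde.toOpen_map_app (R := CommRingCat.of A) φ U
  have h2 := congrArg (fun ψ => ψ.hom n) h
  exact h2

/-- Global sections of `N~` are `N`. -/
noncomputable def τ (N : ModuleCat.{u} A) : N ≃+ (shf A N).obj.obj (op ⊤) :=
  AddEquiv.ofBijective (toU (M := N) (⊤ : (Spec (CommRingCat.of A)).Opens)).toAddMonoidHom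
    (toU_top_bijective N)

omit [IsNoetherianRing A] in
lemma τ_apply (N : ModuleCat.{u} A) (n : N) :
    τ N n = toU (M := N) (⊤ : (Spec (CommRingCat.of A)).Opens) n := rfl

/-- A global section `τ n` vanishes on `U = Spec A ∖ V(I)` iff `n` is `I`-power torsion. -/
lemma res_τ_eq_zero_iff (N : ModuleCat.{u} A) (n : N) :
    ((shf A N).obj.map (homOfLE (le_top : LocCoh.puncturedOpen A I ≤ ⊤)).op).hom (τ N n) = 0 ↔
      n ∈ powTorsion I N := by
  have h := res_toU (M := N) (le_top : LocCoh.puncturedOpen A I ≤ ⊤) n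
  rw [← ker_toU_eq_powTorsion, LinearMap.mem_ker, ← h]
  rfl

/-- `Γ_Z(Spec A, N~) ≃ Γ_I(N)`. -/
noncomputable def sectEquiv (N : ModuleCat.{u} A) :
    LocCohZ.sectZ (shf A N) (le_top : LocCoh.puncturedOpen A I ≤ ⊤) ≃+ powTorsion I N where
  toFun s := ⟨(τ N).symm s.1, by
    rw [← res_τ_eq_zero_iff, AddEquiv.apply_symm_apply]
    exact s.2⟩
  invFun n := ⟨τ N n.1, by
    rw [AddMonoidHom.mem_ker]
    exact (res_τ_eq_zero_iff I N n.1).2 n.2⟩
  left_inv s := by
    apply Subtype.ext
    exact (τ N).apply_symm_apply s.1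
  right_inv n := by
    apply Subtype.ext
    exact (τ N).symm_apply_apply n.1
  map_add' s t := by
    apply Subtype.ext
    exact map_add (τ N).symm s.1 t.1

/-- `H^0_Z(Spec A, N~) ≃ Γ_I(N)`. -/
noncomputable def eT (N : ModuleCat.{u} A) :
    Ext.{u} (QI I) ((shF A).obj N) 0 ≃+ powTorsion I N :=
  (LocCohZ.sect0Equiv (shf A N) (le_top : LocCoh.puncturedOpen A I ≤ ⊤)).trans (sectEquiv I N)

omit [IsNoetherianRing A] in
lemma addEquiv₀_comp_mk₀ {C : Type*} [Category C] [Abelian C] [HasExt.{u} C] {X Y Z : C}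
    (x : Ext.{u} X Y 0) (ψ : Y ⟶ Z) :
    Ext.addEquiv₀ (x.comp (Ext.mk₀ ψ) (add_zero 0)) = Ext.addEquiv₀ x ≫ ψ := by
  apply Ext.addEquiv₀.symm.injective
  rw [AddEquiv.symm_apply_apply, Ext.addEquiv₀_symm_apply, ← Ext.mk₀_comp_mk₀, Ext.mk₀_addEquiv₀_apply]

/-- Naturality of `sect0Equiv`. -/
lemma sect0Equiv_comp {X : TopCat.{u}} {F G : CohTop.Ab X} (ψ : F ⟶ G) {W V : Opens X} (h : W ≤ V)
    (x : Ext.{u} (LocCohZ.zq h) F 0) :
    (LocCohZ.sect0Equiv G h (x.comp (Ext.mk₀ ψ) (add_zero 0))).1 =
      (ψ.hom.app (op V)).hom (LocCohZ.sect0Equiv F h x).1 := by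
  change CohFree.evalGen (Opens.grothendieckTopology X) V G
      (cokernel.π _ ≫ Ext.addEquiv₀ (x.comp (Ext.mk₀ ψ) (add_zero 0))) =
    (ψ.hom.app (op V)).hom (CohFree.evalGen (Opens.grothendieckTopology X) V F
      (cokernel.π _ ≫ Ext.addEquiv₀ x))
  rw [addEquiv₀_comp_mk₀, ← Category.assoc]
  rfl

/-- Naturality of `eT`. -/
lemma eT_naturality {N N' : ModuleCat.{u} A} (φ : N ⟶ N') (x : Ext.{u} (QI I) ((shF A).obj N) 0) :
    (eT I N' (x.comp (Ext.mk₀ ((shF A).map φ)) (add_zero 0))).1 = φ.hom (eT I N x).1 := by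
  apply (τ N').injective
  have h1 := sect0Equiv_comp ((shF A).map φ) (le_top : LocCoh.puncturedOpen A I ≤ ⊤) x
  have h2 : τ N' (eT I N' (x.comp (Ext.mk₀ ((shF A).map φ)) (add_zero 0))).1 =
      (LocCohZ.sect0Equiv ((shF A).obj N') (le_top : LocCoh.puncturedOpen A I ≤ ⊤)
        (x.comp (Ext.mk₀ ((shF A).map φ)) (add_zero 0))).1 := (τ N').apply_symm_apply _
  have h3 : τ N (eT I N x).1 =
      (LocCohZ.sect0Equiv ((shF A).obj N) (le_top : LocCoh.puncturedOpen A I ≤ ⊤) x).1 :=
    (τ N).apply_symm_apply _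
  rw [h2, h1, ← h3, τ_apply, shF_map_toU]
  rfl


/-- `H^0_I(N) ≃ Γ_I(N)`. -/
noncomputable def eL (N : ModuleCat.{u} A) :
    (localCohomology I 0).obj N ≃+ powTorsion I N :=
  AddEquiv.ofBijective
    ((LinearMap.codRestrict (powTorsion I N) (toMod I N)
      (fun x => (mem_range_toMod_iff I N _).1 ⟨x, rfl⟩)).toAddMonoidHom) (by
    constructor
    · intro x y hxy
      apply toMod_injective I N
      exact congrArg Subtype.val hxy
    · rintro ⟨m, hm⟩
      obtain ⟨x, hx⟩ := (mem_range_toMod_iff I N m).2 hm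
      exact ⟨x, Subtype.ext hx⟩)

omit [IsNoetherianRing A] in
lemma eL_apply (N : ModuleCat.{u} A) (x : (localCohomology I 0).obj N) :
    (eL I N x).1 = toMod I N x := rfl

omit [IsNoetherianRing A] in
lemma eL_naturality {N N' : ModuleCat.{u} A} (φ : N ⟶ N') (x : (localCohomology I 0).obj N) :
    (eL I N' (((localCohomology I 0).map φ).hom x)).1 = φ.hom (eL I N x).1 := by
  rw [eL_apply, eL_apply, toMod_naturality]

omit [IsNoetherianRing A] in
/-- Two surjections with kernels matched by an isomorphism have isomorphic targets. -/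
lemma nonempty_addEquiv_of_surjective {G G' T L : Type u} [AddCommGroup G] [AddCommGroup G']
    [AddCommGroup T] [AddCommGroup L] (dT : G →+ T) (dL : G' →+ L)
    (hT : Function.Surjective dT) (hL : Function.Surjective dL) (ψ : G ≃+ G')
    (h : ∀ x, dT x = 0 ↔ dL (ψ x) = 0) : Nonempty (T ≃+ L) := by
  have e1 := QuotientAddGroup.quotientKerEquivOfSurjective dT hT
  have e2 := QuotientAddGroup.quotientKerEquivOfSurjective dL hL
  have hmap : AddSubgroup.map (ψ : G →+ G') dT.ker = dL.ker := by
    ext y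
    constructor
    · rintro ⟨x, hx, rfl⟩
      exact (h x).1 hx
    · intro hy
      refine ⟨ψ.symm y, ?_, ψ.apply_symm_apply y⟩
      change dT (ψ.symm y) = 0
      rw [h, ψ.apply_symm_apply]
      exact hy
  exact ⟨e1.symm.trans ((QuotientAddGroup.congr dT.ker dL.ker ψ hmap).trans e2)⟩

/-- The comparison in degree one. -/
theorem nonempty_equiv_one (N : ModuleCat.{u} A) :
    Nonempty (Ext.{u} (QI I) ((shF A).obj N) 1 ≃+ (localCohomology I 1).obj N) := by
  let E := Injective.under N
  let f : N ⟶ E := Injective.ι N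
  have hS := shortExact_of_mono f
  set S := ShortComplex.mk f (cokernel.π f) (cokernel.condition f) with hSdef
  have hS' := shF_shortExact hS
  have hTE : Subsingleton (Ext.{u} (QI I) ((shF A).obj E) 1) := subsingleton_T_of_injective I E 0
  have hLE : Subsingleton ((localCohomology I 1).obj E) := subsingleton_of_injective I E 1 (by omega)
  -- the two connecting maps
  let dT : Ext.{u} (QI I) ((shF A).obj S.X₃) 0 →+ Ext.{u} (QI I) ((shF A).obj S.X₁) 1 :=
    hS'.extClass.postcomp (QI I) (zero_add 1)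
  let dL : (localCohomology I 0).obj S.X₃ →+ (localCohomology I 1).obj S.X₁ :=
    (δ I hS 0 1 rfl).toAddMonoidHom
  have hdT : Function.Surjective dT := by
    intro x₁
    obtain ⟨x₃, hx₃⟩ := Ext.covariant_sequence_exact₁ (QI I) hS' x₁ (Subsingleton.elim (α := Ext.{u} (QI I) ((shF A).obj E) 1) _ _) (zero_add 1)
    exact ⟨x₃, hx₃⟩
  have hdL : Function.Surjective dL := by
    intro x₁
    exact exact₁ I hS 0 1 rfl x₁ (Subsingleton.elim (α := (localCohomology I 1).obj E) _ _)
  let ψ : Ext.{u} (QI I) ((shF A).obj S.X₃) 0 ≃+ (localCohomology I 0).obj S.X₃ :=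
    (eT I S.X₃).trans (eL I S.X₃).symm
  refine nonempty_addEquiv_of_surjective dT dL hdT hdL ψ (fun x => ?_)
  have hψ : ∀ x, (eL I S.X₃ (ψ x)) = eT I S.X₃ x := fun x => (eL I S.X₃).apply_symm_apply _
  constructor
  · intro hx
    -- `x` comes from `T^0(E)`
    obtain ⟨x₂', hx₂''⟩ := Ext.covariant_sequence_exact₃ (QI I) hS' x (zero_add 1) hx
    let x₂ : Ext.{u} (QI I) ((shF A).obj S.X₂) 0 := x₂'
    have hx₂ : x₂.comp (Ext.mk₀ ((shF A).map S.g)) (add_zero 0) = x := hx₂''
    -- transport to `L^0(E)`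
    let z : (localCohomology I 0).obj S.X₂ := (eL I S.X₂).symm (eT I S.X₂ x₂)
    have hz : ((localCohomology I 0).map S.g).hom z = ψ x := by
      apply (eL I S.X₃).injective
      apply Subtype.ext
      rw [eL_naturality, hψ, ← hx₂]
      have := eT_naturality I S.g x₂
      rw [this]
      congr 2
      exact (eL I S.X₂).apply_symm_apply _
    change δ I hS 0 1 rfl (ψ x) = 0
    rw [← hz, δ_map_eq_zero]
  · intro hx
    obtain ⟨z, hz⟩ := exact₃ I hS 0 1 rfl (ψ x) hx
    let x₂ : Ext.{u} (QI I) ((shF A).obj S.X₂) 0 := (eT I S.X₂).symm (eL I S.X₂ z)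
    have hx₂ : x₂.comp (Ext.mk₀ ((shF A).map S.g)) (add_zero 0) = x := by
      apply (eT I S.X₃).injective
      apply Subtype.ext
      rw [eT_naturality, ← hψ, ← hz, eL_naturality]
      congr 2
      exact (eT I S.X₂).apply_symm_apply _
    change x.comp hS'.extClass (zero_add 1) = 0
    have h0 : (Ext.mk₀ ((shF A).map S.g)).comp hS'.extClass (zero_add 1) = 0 := hS'.comp_extClass
    rw [← hx₂, Ext.comp_assoc_of_second_deg_zero, h0, Ext.comp_zero]


/-- The comparison in all degrees (categorical form). -/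
theorem nonempty_equiv (i : ℕ) : ∀ N : ModuleCat.{u} A,
    Nonempty (Ext.{u} (QI I) ((shF A).obj N) i ≃+ (localCohomology I i).obj N) := by
  induction i using Nat.strong_induction_on with
  | _ i ih =>
    intro N
    rcases i with _ | _ | k
    · exact ⟨(eT I N).trans (eL I N).symm⟩
    · exact nonempty_equiv_one I N
    · let E := Injective.under N
      let f : N ⟶ E := Injective.ι N
      have hS := shortExact_of_mono f
      set S := ShortComplex.mk f (cokernel.π f) (cokernel.condition f) with hSdef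
      have hS' := shF_shortExact hS
      have hTE1 : Subsingleton (Ext.{u} (QI I) ((shF A).obj E) (k + 1)) := subsingleton_T_of_injective I E k
      have hTE2 : Subsingleton (Ext.{u} (QI I) ((shF A).obj E) (k + 2)) :=
        subsingleton_T_of_injective I E (k + 1)
      have hLE1 : Subsingleton ((localCohomology I (k + 1)).obj S.X₂) :=
        subsingleton_of_injective I E (k + 1) (by omega)
      have hLE2 : Subsingleton ((localCohomology I (k + 1 + 1)).obj S.X₂) :=
        subsingleton_of_injective I E (k + 2) (by omega)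
      let dT : Ext.{u} (QI I) ((shF A).obj S.X₃) (k + 1) →+ Ext.{u} (QI I) ((shF A).obj S.X₁) (k + 2) :=
        hS'.extClass.postcomp (QI I) (by omega)
      have hdT : Function.Bijective dT := by
        constructor
        · rw [injective_iff_map_eq_zero]
          intro x hx
          obtain ⟨x₂, hx₂⟩ := Ext.covariant_sequence_exact₃ (QI I) hS' x (by omega) hx
          have : x₂ = 0 := Subsingleton.elim (α := Ext.{u} (QI I) ((shF A).obj E) (k + 1)) _ _
          rw [← hx₂, this, Ext.zero_comp]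
          rfl
        · intro x₁
          obtain ⟨x₃, hx₃⟩ := Ext.covariant_sequence_exact₁ (n₀ := k + 1) (QI I) hS' x₁
            (Subsingleton.elim (α := Ext.{u} (QI I) ((shF A).obj E) (k + 2)) _ _) (by omega)
          exact ⟨x₃, hx₃⟩
      have hdL := δ_bijective_of_subsingleton I hS (k + 1) hLE1 hLE2
      obtain ⟨e⟩ := ih (k + 1) (by omega) S.X₃
      exact ⟨(AddEquiv.ofBijective dT hdT).symm.trans
        (e.trans (AddEquiv.ofBijective (δ I hS (k + 1) (k + 1 + 1) rfl).toAddMonoidHom hdL))⟩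

/-- **Affine comparison**: for a Noetherian ring `A`, an ideal `I` and an `A`-module `N`,
`H^i_{V(I)}(Spec A, N~) ≃+ H^i_I(N)`. -/
theorem nonempty_HZM_equiv (N : Type u) [AddCommGroup N] [Module A N] (i : ℕ) :
    Nonempty (LocCohZ.HZM (Spec (CommRingCat.of A))
      (AlgebraicGeometry.tilde (R := CommRingCat.of A) (ModuleCat.of A N)) i
      (LocCoh.puncturedOpen A I) ≃+ LocCoh.H I i N) :=
  nonempty_equiv I i (ModuleCat.of A N)

end Groth.Agent.Lib.Helper41.AffLC
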