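import Groth.Agent.Lib.Helper41.AffLC

/-!
# The affine comparison is compatible with scalar multiplication
-/

set_option autoImplicit false
universe u
open AlgebraicGeometry CategoryTheory CategoryTheory.Limits Opposite TopologicalSpace Abelian

namespace Groth.Agent.Lib.Helper41.AffLCLin

open Groth.Agent.Lib.Helper46.TildePunctured Groth.Agent.Lib.Helper41.LC
  Groth.Agent.Lib.Helper41.TildeFlasque Groth.Agent.Lib.Cohomology.HHLES Groth.Agent.Lib.Helper41.AffLC

/-- module morphisms commute with multiplication by a global function -/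
lemma smulAb_naturality {X : Scheme.{u}} {M M' : X.Modules} (f : M ⟶ M') (r : Coh.Γtop X) :
    Coh.smulAb M r ≫ (toAbF X).map f = (toAbF X).map f ≫ Coh.smulAb M' r := by
  ext U m
  change ((toAbF X).map f).hom.app U ((Coh.smulAb M r).hom.app U m) =
    (Coh.smulAb M' r).hom.app U (((toAbF X).map f).hom.app U m)
  rw [Coh.smulAb_app, Coh.smulAb_app]
  exact (f.val.app U).hom.map_smul (Coh.resTop X U r) m

variable {A : Type u} [CommRing A]

/-- the global function on `Spec A` attached to `a : A` -/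
noncomputable def rr (a : A) : Coh.Γtop (Spec (CommRingCat.of A)) :=
  (Scheme.ΓSpecIso (CommRingCat.of A)).inv.hom a

/-- multiplication by `a` on the sheaf `N~` -/
noncomputable def sm (N : ModuleCat.{u} A) (a : A) : (shF A).obj N ⟶ (shF A).obj N :=
  Coh.smulAb (tilde (R := CommRingCat.of A) N) (rr a)

lemma sm_naturality {N N' : ModuleCat.{u} A} (φ : N ⟶ N') (a : A) :
    sm N a ≫ (shF A).map φ = (shF A).map φ ≫ sm N' a :=
  smulAb_naturality ((tilde.functor (CommRingCat.of A)).map φ) (rr a)

lemma sm_app_top (N : ModuleCat.{u} A) (a : A) (n : N) :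
    ((sm N a).hom.app (op ⊤)).hom (τ N n) = τ N (a • n) := by
  rw [τ_apply, τ_apply, (toU (M := N) (⊤ : (Spec (CommRingCat.of A)).Opens)).map_smul]
  rfl

variable [IsNoetherianRing A] (I : Ideal A)

lemma eT_sm (N : ModuleCat.{u} A) (a : A) (x : Ext.{u} (QI I) ((shF A).obj N) 0) :
    (eT I N (x.comp (Ext.mk₀ (sm N a)) (add_zero 0))).1 = a • (eT I N x).1 := by
  apply (τ N).injective
  have h1 := sect0Equiv_comp (sm N a) (le_top : LocCoh.puncturedOpen A I ≤ ⊤) x
  have h2 : τ N (eT I N (x.comp (Ext.mk₀ (sm N a)) (add_zero 0))).1 =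
      (LocCohZ.sect0Equiv ((shF A).obj N) (le_top : LocCoh.puncturedOpen A I ≤ ⊤)
        (x.comp (Ext.mk₀ (sm N a)) (add_zero 0))).1 := (τ N).apply_symm_apply _
  have h3 : τ N (eT I N x).1 =
      (LocCohZ.sect0Equiv ((shF A).obj N) (le_top : LocCoh.puncturedOpen A I ≤ ⊤) x).1 :=
    (τ N).apply_symm_apply _
  rw [h2, h1, ← h3, sm_app_top]


/-- degree zero -/
theorem exists_equiv_lin_zero (N : ModuleCat.{u} A) :
    ∃ e : Ext.{u} (QI I) ((shF A).obj N) 0 ≃+ (localCohomology I 0).obj N,
      ∀ (a : A) (x : Ext.{u} (QI I) ((shF A).obj N) 0),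
        e (x.comp (Ext.mk₀ (sm N a)) (add_zero 0)) = a • e x := by
  refine ⟨(eT I N).trans (eL I N).symm, fun a x => ?_⟩
  apply (eL I N).injective
  apply Subtype.ext
  have h1 : eL I N (((eT I N).trans (eL I N).symm) (x.comp (Ext.mk₀ (sm N a)) (add_zero 0))) =
      eT I N (x.comp (Ext.mk₀ (sm N a)) (add_zero 0)) := (eL I N).apply_symm_apply _
  have h2 : eL I N (((eT I N).trans (eL I N).symm) x) = eT I N x := (eL I N).apply_symm_apply _
  rw [h1, eT_sm, eL_apply, map_smul, ← eL_apply, h2]

omit [IsNoetherianRing A] in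
/-- Two surjections with kernels matched by an isomorphism have isomorphic targets (with the
characterizing property). -/
lemma exists_addEquiv_of_surjective {G G' T L : Type u} [AddCommGroup G] [AddCommGroup G']
    [AddCommGroup T] [AddCommGroup L] (dT : G →+ T) (dL : G' →+ L)
    (hT : Function.Surjective dT) (hL : Function.Surjective dL) (ψ : G ≃+ G')
    (h : ∀ x, dT x = 0 ↔ dL (ψ x) = 0) : ∃ e : T ≃+ L, ∀ x, e (dT x) = dL (ψ x) := by
  have e1 := QuotientAddGroup.quotientKerEquivOfSurjective dT hT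
  have e2 := QuotientAddGroup.quotientKerEquivOfSurjective dL hL
  -- define directly
  have hwd : ∀ x y, dT x = dT y → dL (ψ x) = dL (ψ y) := by
    intro x y hxy
    have : dT (x - y) = 0 := by rw [map_sub, hxy, sub_self]
    have := (h _).1 this
    rwa [map_sub, map_sub, sub_eq_zero] at this
  have hwd' : ∀ x y, dL (ψ x) = dL (ψ y) → dT x = dT y := by
    intro x y hxy
    have : dL (ψ (x - y)) = 0 := by rw [map_sub, map_sub, hxy, sub_self]
    have := (h _).2 this
    rwa [map_sub, sub_eq_zero] at this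
  choose sT hsT using hT
  let f : T →+ L :=
    { toFun := fun t => dL (ψ (sT t))
      map_zero' := by
        have : dT (sT 0) = dT 0 := by rw [hsT, map_zero]
        rw [hwd _ _ this, map_zero, map_zero]
      map_add' := by
        intro t t'
        have : dT (sT (t + t')) = dT (sT t + sT t') := by rw [hsT, map_add, hsT, hsT]
        rw [hwd _ _ this, map_add, map_add] }
  have hf : ∀ x, f (dT x) = dL (ψ x) := fun x => hwd _ _ (hsT (dT x))
  have hinj : Function.Injective f := by
    rw [injective_iff_map_eq_zero]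
    intro t ht
    rw [← hsT t] at ht ⊢
    rw [hf] at ht
    exact (h _).2 ht
  have hsurj : Function.Surjective f := by
    intro l
    obtain ⟨g', rfl⟩ := hL l
    refine ⟨dT (ψ.symm g'), ?_⟩
    rw [hf, ψ.apply_symm_apply]
  exact ⟨AddEquiv.ofBijective f ⟨hinj, hsurj⟩, hf⟩

omit [IsNoetherianRing A] in
/-- naturality of the connecting map of `T` with respect to scalars -/
lemma comp_extClass_sm {S : ShortComplex (ModuleCat.{u} A)} (hS : S.ShortExact) (a : A) {n m : ℕ}
    (h : n + 1 = m) (x : Ext.{u} (QI I) ((shF A).obj S.X₃) n) :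
    (x.comp (shF_shortExact hS).extClass h).comp (Ext.mk₀ (sm S.X₁ a)) (add_zero m) =
      (x.comp (Ext.mk₀ (sm S.X₃ a)) (add_zero n)).comp (shF_shortExact hS).extClass h := by
  have hS' := shF_shortExact hS
  let f : S.map (shF A) ⟶ S.map (shF A) :=
    ShortComplex.homMk (sm S.X₁ a) (sm S.X₂ a) (sm S.X₃ a)
      (sm_naturality S.f a) (sm_naturality S.g a)
  have hnat := ShortComplex.ShortExact.extClass_naturality hS' hS' f
  have h1 : (x.comp hS'.extClass h).comp (Ext.mk₀ (sm S.X₁ a)) (add_zero m) =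
      x.comp (hS'.extClass.comp (Ext.mk₀ (sm S.X₁ a)) (add_zero 1)) h :=
    Ext.comp_assoc_of_third_deg_zero _ _ _ _
  have h2 : (x.comp (Ext.mk₀ (sm S.X₃ a)) (add_zero n)).comp hS'.extClass h =
      x.comp ((Ext.mk₀ (sm S.X₃ a)).comp hS'.extClass (zero_add 1)) h :=
    Ext.comp_assoc_of_second_deg_zero _ _ _ _
  rw [h1, h2]
  exact congrArg (fun y => x.comp y h) hnat


/-- degree one -/
theorem exists_equiv_lin_one (N : ModuleCat.{u} A) :
    ∃ e : Ext.{u} (QI I) ((shF A).obj N) 1 ≃+ (localCohomology I 1).obj N,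
      ∀ (a : A) (x : Ext.{u} (QI I) ((shF A).obj N) 1),
        e (x.comp (Ext.mk₀ (sm N a)) (add_zero 1)) = a • e x := by
  let E := Injective.under N
  let f : N ⟶ E := Injective.ι N
  have hS := shortExact_of_mono f
  set S := ShortComplex.mk f (cokernel.π f) (cokernel.condition f) with hSdef
  have hS' := shF_shortExact hS
  have hTE : Subsingleton (Ext.{u} (QI I) ((shF A).obj E) 1) := subsingleton_T_of_injective I E 0
  have hLE : Subsingleton ((localCohomology I 1).obj E) := subsingleton_of_injective I E 1 (by omega)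
  let dT : Ext.{u} (QI I) ((shF A).obj S.X₃) 0 →+ Ext.{u} (QI I) ((shF A).obj S.X₁) 1 :=
    hS'.extClass.postcomp (QI I) (zero_add 1)
  let dL : (localCohomology I 0).obj S.X₃ →+ (localCohomology I 1).obj S.X₁ :=
    (δ I hS 0 1 rfl).toAddMonoidHom
  have hdT : Function.Surjective dT := by
    intro x₁
    obtain ⟨x₃, hx₃⟩ := Ext.covariant_sequence_exact₁ (QI I) hS' x₁
      (Subsingleton.elim (α := Ext.{u} (QI I) ((shF A).obj E) 1) _ _) (zero_add 1)
    exact ⟨x₃, hx₃⟩
  have hdL : Function.Surjective dL := by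
    intro x₁
    exact exact₁ I hS 0 1 rfl x₁ (Subsingleton.elim (α := (localCohomology I 1).obj E) _ _)
  let ψ : Ext.{u} (QI I) ((shF A).obj S.X₃) 0 ≃+ (localCohomology I 0).obj S.X₃ :=
    (eT I S.X₃).trans (eL I S.X₃).symm
  have hψlin : ∀ (a : A) (x : Ext.{u} (QI I) ((shF A).obj S.X₃) 0),
      ψ (x.comp (Ext.mk₀ (sm S.X₃ a)) (add_zero 0)) = a • ψ x := by
    intro a x
    apply (eL I S.X₃).injective
    apply Subtype.ext
    have h1 : eL I S.X₃ (ψ (x.comp (Ext.mk₀ (sm S.X₃ a)) (add_zero 0))) =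
        eT I S.X₃ (x.comp (Ext.mk₀ (sm S.X₃ a)) (add_zero 0)) := (eL I S.X₃).apply_symm_apply _
    have h2 : eL I S.X₃ (ψ x) = eT I S.X₃ x := (eL I S.X₃).apply_symm_apply _
    rw [h1, eT_sm, eL_apply, map_smul, ← eL_apply, h2]
  have hψ : ∀ x, (eL I S.X₃ (ψ x)) = eT I S.X₃ x := fun x => (eL I S.X₃).apply_symm_apply _
  obtain ⟨e, he⟩ := exists_addEquiv_of_surjective dT dL hdT hdL ψ (fun x => by
    constructor
    · intro hx
      obtain ⟨x₂', hx₂''⟩ := Ext.covariant_sequence_exact₃ (QI I) hS' x (zero_add 1) hx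
      let x₂ : Ext.{u} (QI I) ((shF A).obj S.X₂) 0 := x₂'
      have hx₂ : x₂.comp (Ext.mk₀ ((shF A).map S.g)) (add_zero 0) = x := hx₂''
      let z : (localCohomology I 0).obj S.X₂ := (eL I S.X₂).symm (eT I S.X₂ x₂)
      have hz : ((localCohomology I 0).map S.g).hom z = ψ x := by
        apply (eL I S.X₃).injective
        apply Subtype.ext
        rw [eL_naturality, hψ, ← hx₂]
        have := eT_naturality I S.g x₂
        rw [this]
        congr 2
        exact (eL I S.X₂).apply_symm_apply _
      change δ I hS 0 1 rfl (ψ x) = 0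
      rw [← hz, δ_map_eq_zero]
    · intro hx
      obtain ⟨z, hz⟩ := exact₃ I hS 0 1 rfl (ψ x) hx
      let x₂ : Ext.{u} (QI I) ((shF A).obj S.X₂) 0 := (eT I S.X₂).symm (eL I S.X₂ z)
      have hx₂ : x₂.comp (Ext.mk₀ ((shF A).map S.g)) (add_zero 0) = x := by
        apply (eT I S.X₃).injective
        apply Subtype.ext
        rw [eT_naturality, ← hψ, ← hz, eL_naturality]
        congr 2
        exact (eT I S.X₂).apply_symm_apply _
      change x.comp hS'.extClass (zero_add 1) = 0
      have h0 : (Ext.mk₀ ((shF A).map S.g)).comp hS'.extClass (zero_add 1) = 0 := hS'.comp_extClass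
      rw [← hx₂, Ext.comp_assoc_of_second_deg_zero, h0, Ext.comp_zero])
  refine ⟨e, fun a y => ?_⟩
  obtain ⟨x, rfl⟩ := hdT y
  have h1 : (dT x).comp (Ext.mk₀ (sm N a)) (add_zero 1) =
      dT (x.comp (Ext.mk₀ (sm S.X₃ a)) (add_zero 0)) :=
    comp_extClass_sm I hS a (zero_add 1) x
  rw [h1, he, he, hψlin]
  exact (δ I hS 0 1 rfl).map_smul a (ψ x)

/-- **The affine comparison, compatible with scalars.** -/
theorem exists_equiv_lin (i : ℕ) : ∀ N : ModuleCat.{u} A,
    ∃ e : Ext.{u} (QI I) ((shF A).obj N) i ≃+ (localCohomology I i).obj N,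
      ∀ (a : A) (x : Ext.{u} (QI I) ((shF A).obj N) i),
        e (x.comp (Ext.mk₀ (sm N a)) (add_zero i)) = a • e x := by
  induction i using Nat.strong_induction_on with
  | _ i ih =>
    intro N
    rcases i with _ | _ | k
    · exact exists_equiv_lin_zero I N
    · exact exists_equiv_lin_one I N
    · let E := Injective.under N
      let f : N ⟶ E := Injective.ι N
      have hS := shortExact_of_mono f
      set S := ShortComplex.mk f (cokernel.π f) (cokernel.condition f) with hSdef
      have hS' := shF_shortExact hS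
      have hTE1 : Subsingleton (Ext.{u} (QI I) ((shF A).obj E) (k + 1)) :=
        subsingleton_T_of_injective I E k
      have hTE2 : Subsingleton (Ext.{u} (QI I) ((shF A).obj E) (k + 2)) :=
        subsingleton_T_of_injective I E (k + 1)
      have hLE1 : Subsingleton ((localCohomology I (k + 1)).obj S.X₂) :=
        subsingleton_of_injective I E (k + 1) (by omega)
      have hLE2 : Subsingleton ((localCohomology I (k + 1 + 1)).obj S.X₂) :=
        subsingleton_of_injective I E (k + 2) (by omega)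
      let dT : Ext.{u} (QI I) ((shF A).obj S.X₃) (k + 1) →+
          Ext.{u} (QI I) ((shF A).obj S.X₁) (k + 2) :=
        hS'.extClass.postcomp (QI I) (by omega)
      have hdT : Function.Bijective dT := by
        constructor
        · rw [injective_iff_map_eq_zero]
          intro x hx
          obtain ⟨x₂, hx₂⟩ := Ext.covariant_sequence_exact₃ (QI I) hS' x (by omega) hx
          have : x₂ = 0 := Subsingleton.elim (α := Ext.{u} (QI I) ((shF A).obj E) (k + 1)) _ _
          rw [← hx₂, this, Ext.zero_comp]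
          rfl
        · intro x₁
          obtain ⟨x₃, hx₃⟩ := Ext.covariant_sequence_exact₁ (n₀ := k + 1) (QI I) hS' x₁
            (Subsingleton.elim (α := Ext.{u} (QI I) ((shF A).obj E) (k + 2)) _ _) (by omega)
          exact ⟨x₃, hx₃⟩
      have hdL := δ_bijective_of_subsingleton I hS (k + 1) hLE1 hLE2
      obtain ⟨e, he⟩ := ih (k + 1) (by omega) S.X₃
      refine ⟨(AddEquiv.ofBijective dT hdT).symm.trans
        (e.trans (AddEquiv.ofBijective (δ I hS (k + 1) (k + 1 + 1) rfl).toAddMonoidHom hdL)),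
        fun a y => ?_⟩
      obtain ⟨x, rfl⟩ := hdT.2 y
      have h1 : (dT x).comp (Ext.mk₀ (sm N a)) (add_zero (k + 2)) =
          dT (x.comp (Ext.mk₀ (sm S.X₃ a)) (add_zero (k + 1))) :=
        comp_extClass_sm I hS a (by omega) x
      have h2 : ∀ z, (AddEquiv.ofBijective dT hdT).symm (dT z) = z :=
        fun z => (AddEquiv.ofBijective dT hdT).symm_apply_apply z
      change (AddEquiv.ofBijective (δ I hS (k + 1) (k + 1 + 1) rfl).toAddMonoidHom hdL)
          (e ((AddEquiv.ofBijective dT hdT).symm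
            ((dT x).comp (Ext.mk₀ (sm N a)) (add_zero (k + 2))))) =
        a • (AddEquiv.ofBijective (δ I hS (k + 1) (k + 1 + 1) rfl).toAddMonoidHom hdL)
          (e ((AddEquiv.ofBijective dT hdT).symm (dT x)))
      rw [h1, h2, h2, he]
      exact (δ I hS (k + 1) (k + 1 + 1) rfl).map_smul a (e x)

end Groth.Agent.Lib.Helper41.AffLCLin
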