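import Groth.Agent.Lib.Helper41.OpenImmExt

/-!
# Cohomology with supports on an affine open of a scheme is local cohomology

For a scheme `X`, an affine open `V` with Noetherian ring `A = Γ(X, V)`, a quasi-coherent module `M`
and an open `U`: `H^i_{V∖U}(V, M) ≃+ H^i_I(N)` where `I` is the ideal of `V ∖ U` and `N` the
`A`-module of sections of `M` over `V` (in its `Spec`-side incarnation `NΓ`).
-/

set_option autoImplicit false
universe u
open AlgebraicGeometry CategoryTheory CategoryTheory.Limits Opposite TopologicalSpace Abelian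

namespace Groth.Agent.Lib.Helper41.AffOpenLC

open Groth.Agent.Lib.Helper41 Groth.Agent.Lib.Helper41.OpenImmExt

section Spec

variable (R : CommRingCat.{u}) (M' : (Spec R).Modules) [M'.IsQuasicoherent]

/-- the module of global sections of a module on `Spec R` -/
noncomputable abbrev NΓ : ModuleCat.{u} R := (modulesSpecToSheaf.obj M').presheaf.obj (op ⊤)

/-- a quasi-coherent module on `Spec R` is the tilde of its global sections -/
noncomputable def tildeIso : tilde (NΓ R M') ≅ M' :=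
  haveI : IsIso (Scheme.Modules.fromTildeΓ M') := Scheme.Modules.isIso_fromTildeΓ_of_isQuasicoherent M'
  asIso (Scheme.Modules.fromTildeΓ M')

/-- The affine comparison for an arbitrary quasi-coherent module on `Spec R`. -/
theorem spec_equiv [IsNoetherianRing R] (I : Ideal R) (i : ℕ) :
    Nonempty (LocCohZ.HZ (Coh.toAb M') i (le_top : LocCoh.puncturedOpen R I ≤ ⊤) ≃+
      LocCoh.H I i (NΓ R M')) := by
  obtain ⟨e1⟩ := nonempty_HZ_equiv_of_iso
    ((SheafOfModules.toSheaf (Spec R).ringCatSheaf).mapIso (tildeIso R M')) i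
    (le_top : LocCoh.puncturedOpen R I ≤ ⊤)
  obtain ⟨e2⟩ := AffLC.nonempty_HZM_equiv (A := R) I (NΓ R M') i
  exact ⟨e1.symm.trans e2⟩

end Spec

variable {X : Scheme.{u}} (M : X.Modules) [M.IsQuasicoherent] (U : X.Opens) {V : X.Opens}
  (hV : IsAffineOpen V)

/-- The ideal of `V ∖ U` in `Γ(X, V)`. -/
noncomputable def idealOf : Ideal Γ(X, V) :=
  PrimeSpectrum.vanishingIdeal (((hV.fromSpec ⁻¹ᵁ U).1 : Set (PrimeSpectrum Γ(X, V))))ᶜ

lemma preimage_eq_puncturedOpen :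
    hV.fromSpec ⁻¹ᵁ U = LocCoh.puncturedOpen Γ(X, V) (idealOf U hV) := by
  apply Opens.ext
  change ((hV.fromSpec ⁻¹ᵁ U).1 : Set (PrimeSpectrum Γ(X, V))) = (PrimeSpectrum.zeroLocus _)ᶜ
  unfold idealOf
  rw [PrimeSpectrum.zeroLocus_vanishingIdeal_eq_closure]
  have hc : IsClosed (((hV.fromSpec ⁻¹ᵁ U).1 : Set (PrimeSpectrum Γ(X, V))))ᶜ :=
    (hV.fromSpec ⁻¹ᵁ U).2.isClosed_compl
  exact (by rw [hc.closure_eq, compl_compl] :
    ((hV.fromSpec ⁻¹ᵁ U).1 : Set (PrimeSpectrum Γ(X, V))) =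
      (closure ((hV.fromSpec ⁻¹ᵁ U).1 : Set (PrimeSpectrum Γ(X, V)))ᶜ)ᶜ)

lemma idealOf_le_iff (y : PrimeSpectrum Γ(X, V)) :
    idealOf U hV ≤ y.asIdeal ↔ hV.fromSpec y ∉ U := by
  have h : y ∈ hV.fromSpec ⁻¹ᵁ U ↔ y ∈ LocCoh.puncturedOpen Γ(X, V) (idealOf U hV) := by
    rw [← preimage_eq_puncturedOpen]
  have h2 : y ∈ LocCoh.puncturedOpen Γ(X, V) (idealOf U hV) ↔ ¬ (idealOf U hV ≤ y.asIdeal) := by
    change y ∈ (PrimeSpectrum.zeroLocus _)ᶜ ↔ _
    rw [Set.mem_compl_iff, PrimeSpectrum.mem_zeroLocus]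
    rfl
  have h3 : y ∈ hV.fromSpec ⁻¹ᵁ U ↔ hV.fromSpec y ∈ U := Iff.rfl
  rw [← h3, h, h2, not_not]

/-- the `Γ(X, V)`-module of sections of `M` over `V`, in its `Spec`-side incarnation -/
noncomputable abbrev NV : ModuleCat.{u} Γ(X, V) := NΓ Γ(X, V) (M.restrict hV.fromSpec)

/-- **Cohomology with supports on an affine open is local cohomology.** -/
theorem nonempty_HZ_equiv_affineOpen [IsNoetherianRing Γ(X, V)] (i : ℕ) :
    Nonempty (LocCohZ.HZ (Coh.toAb M) i (inf_le_left : V ⊓ U ≤ V) ≃+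
      LocCoh.H (idealOf U hV) i (NV M hV)) := by
  have hW : hV.fromSpec ''ᵁ (hV.fromSpec ⁻¹ᵁ U) = V ⊓ U := by
    rw [Scheme.Hom.image_preimage_eq_opensRange_inf, hV.opensRange_fromSpec]
  have hT : hV.fromSpec ''ᵁ ⊤ = V := by
    rw [Scheme.Hom.image_top_eq_opensRange, hV.opensRange_fromSpec]
  obtain ⟨e0⟩ := nonempty_HZ_equiv_of_eq (Coh.toAb M) i (inf_le_left : V ⊓ U ≤ V)
    (image_le hV.fromSpec (le_top : hV.fromSpec ⁻¹ᵁ U ≤ ⊤)) hW.symm hT.symm
  obtain ⟨e1⟩ := nonempty_HZ_equiv hV.fromSpec (le_top : hV.fromSpec ⁻¹ᵁ U ≤ ⊤) (Coh.toAb M) i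
  obtain ⟨e2⟩ := nonempty_HZ_equiv_of_eq (Coh.toAb (M.restrict hV.fromSpec)) i
    (le_top : hV.fromSpec ⁻¹ᵁ U ≤ ⊤)
    (le_top : LocCoh.puncturedOpen Γ(X, V) (idealOf U hV) ≤ ⊤) (preimage_eq_puncturedOpen U hV) rfl
  obtain ⟨e3⟩ := spec_equiv Γ(X, V) (M.restrict hV.fromSpec) (idealOf U hV) i
  exact ⟨e0.trans (e1.trans (e2.trans e3))⟩

end Groth.Agent.Lib.Helper41.AffOpenLC
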