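import Mathlib

/-!
# The canonical comparison map of `Ext` groups along an exact functor

For an exact additive functor `R : C ⥤ D`, objects `A : C`, `B : D` and `u : B ⟶ R.obj A`, the
canonical map `Φ : Ext^n(A, F) → Ext^n(B, R F)`, `x ↦ u ≫ R(x)`.  It is natural in `F`, commutes with
the connecting maps, and is bijective in all degrees as soon as it is in degree `0` and
`Ext^{n+1}(B, R I) = 0` for injective `I`.
-/

set_option autoImplicit false
universe w w' v v' u u'
open CategoryTheory CategoryTheory.Limits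

namespace Groth.Agent.Lib.Helper41.ExtCanon

open Abelian

variable {C : Type u} [Category.{v} C] [Abelian C] [HasExt.{w} C]
variable {D : Type u'} [Category.{v'} D] [Abelian D] [HasExt.{w'} D]
variable (R : C ⥤ D) [R.Additive] [PreservesFiniteLimits R] [PreservesFiniteColimits R]
variable {A : C} {B : D} (u : B ⟶ R.obj A)

/-- the canonical comparison map -/
noncomputable def Φ (F : C) (n : ℕ) : Ext.{w} A F n →+ Ext.{w'} B (R.obj F) n :=
  ((Ext.mk₀ u).precomp (R.obj F) (zero_add n)).comp (R.mapExtAddHom A F n)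

lemma Φ_apply (F : C) (n : ℕ) (x : Ext.{w} A F n) :
    Φ R u F n x = (Ext.mk₀ u).comp (x.mapExactFunctor R) (zero_add n) := rfl

lemma Φ_comp_mk₀ {F G : C} (g : F ⟶ G) (n : ℕ) (x : Ext.{w} A F n) :
    Φ R u G n (x.comp (Ext.mk₀ g) (add_zero n)) =
      (Φ R u F n x).comp (Ext.mk₀ (R.map g)) (add_zero n) := by
  rw [Φ_apply, Φ_apply, Ext.mapExactFunctor_comp, Ext.mapExactFunctor_mk₀,
    Ext.comp_assoc_of_third_deg_zero]

lemma Φ_extClass {S : ShortComplex C} (hS : S.ShortExact) (n : ℕ) (x : Ext.{w} A S.X₃ n) :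
    Φ R u S.X₁ (n + 1) (x.comp hS.extClass rfl) =
      (Φ R u S.X₃ n x).comp (hS.map_of_exact R).extClass rfl := by
  rw [Φ_apply, Φ_apply, Ext.mapExactFunctor_comp, Ext.mapExactFunctor_extClass]
  exact (Ext.comp_assoc _ _ _ (zero_add n) rfl (by omega)).symm

lemma Φ_mk₀ (F : C) (φ : A ⟶ F) : Φ R u F 0 (Ext.mk₀ φ) = Ext.mk₀ (u ≫ R.map φ) := by
  rw [Φ_apply, Ext.mapExactFunctor_mk₀, Ext.mk₀_comp_mk₀]

variable [EnoughInjectives C]

/-- The canonical short exact sequence `0 → F → I → Q → 0` with `I` injective. -/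
noncomputable abbrev injSES (F : C) : ShortComplex C :=
  ShortComplex.mk _ _ (cokernel.condition (Injective.ι F))

omit [HasExt.{w} C] in
lemma injSES_shortExact (F : C) : (injSES F).ShortExact :=
  { exact := ShortComplex.exact_of_g_is_cokernel _ (cokernelIsCokernel (injSES F).f) }

instance (F : C) : Injective (injSES F).X₂ := inferInstanceAs (Injective (Injective.under F))

/-- **Bijectivity of the canonical comparison map** by dimension shifting. -/
theorem Φ_bijective
    (h0 : ∀ F : C, Function.Bijective (fun φ : A ⟶ F => u ≫ R.map φ))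
    (hR : ∀ (I : C) [Injective I] (n : ℕ) (x : Ext.{w'} B (R.obj I) (n + 1)), x = 0) :
    ∀ (n : ℕ) (F : C), Function.Bijective (Φ R u F n) := by
  intro n
  induction n with
  | zero =>
    intro F
    have h1 : ∀ x, Φ R u F 0 x = Ext.mk₀ (u ≫ R.map (Ext.homEquiv₀ x)) := by
      intro x
      obtain ⟨φ, rfl⟩ := (Ext.mk₀_bijective A F).2 x
      rw [Φ_mk₀]
      congr 3
      exact (Ext.homEquiv₀.apply_symm_apply φ).symm
    constructor
    · intro x y hxy
      rw [h1, h1] at hxy
      have := (h0 F).1 ((Ext.mk₀_bijective _ _).1 hxy)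
      exact Ext.homEquiv₀.injective this
    · intro y
      obtain ⟨ψ, rfl⟩ := (Ext.mk₀_bijective _ _).2 y
      obtain ⟨φ, hφ⟩ := (h0 F).2 ψ
      refine ⟨Ext.mk₀ φ, ?_⟩
      rw [Φ_mk₀]
      exact congrArg _ hφ
  | succ n ih =>
    intro F
    have hS := injSES_shortExact F
    have hS' := hS.map_of_exact R
    set S := injSES F
    constructor
    · rw [injective_iff_map_eq_zero]
      intro x hx
      -- `x = δ ψ`
      obtain ⟨ψ, rfl⟩ := Ext.covariant_sequence_exact₁ A hS x (Ext.eq_zero_of_injective _) rfl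
      have hx' : (Φ R u S.X₃ n ψ).comp hS'.extClass rfl = 0 :=
        (Φ_extClass R u hS n ψ).symm.trans hx
      obtain ⟨ψ₂', hψ₂'⟩ := Ext.covariant_sequence_exact₃ B hS' (Φ R u S.X₃ n ψ) rfl hx'
      obtain ⟨ψ₂, rfl⟩ := (ih S.X₂).2 ψ₂'
      have h2 : Φ R u S.X₃ n (ψ₂.comp (Ext.mk₀ S.g) (add_zero n)) = Φ R u S.X₃ n ψ := by
        rw [Φ_comp_mk₀]
        exact hψ₂'
      have h3 := (ih S.X₃).1 h2
      rw [← h3, Ext.comp_assoc_of_second_deg_zero, hS.comp_extClass, Ext.comp_zero]
    · intro y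
      obtain ⟨ψ', rfl⟩ := Ext.covariant_sequence_exact₁ B hS' y (hR S.X₂ n _) rfl
      obtain ⟨ψ, rfl⟩ := (ih S.X₃).2 ψ'
      exact ⟨ψ.comp hS.extClass rfl, Φ_extClass R u hS n ψ⟩

end Groth.Agent.Lib.Helper41.ExtCanon
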