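import Mathlib

/-!
# Localization of `Ext` (vanishing form)

For a Noetherian ring `R`, a multiplicative set `S`, a finite module `M` and any module `N`:
`Ext^k_R(M,N)` is `S`-torsion iff `Ext^k_{S⁻¹R}(S⁻¹M, S⁻¹N) = 0`.
-/

set_option autoImplicit false
universe u w
open CategoryTheory CategoryTheory.Limits CategoryTheory.Abelian

namespace Groth.Agent.Lib.Helper41.ExtLoc

section Abstract

variable {C : Type*} [Category C] [Abelian C] [HasExt.{w} C]
variable {S : ShortComplex C} (hS : S.ShortExact) (Y : C)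

include hS in
theorem exists_extClass_comp [Projective S.X₂] (k : ℕ) (e : Ext S.X₃ Y (k + 1)) :
    ∃ e₁ : Ext S.X₁ Y k, hS.extClass.comp e₁ (show 1 + k = k + 1 by omega) = e :=
  Ext.contravariant_sequence_exact₃ hS Y e (Ext.eq_zero_of_projective _) (by omega)

theorem eq_zero_of_extClass_comp_eq_zero [Projective S.X₂] (k : ℕ) (hk : 0 < k)
    (e₁ : Ext S.X₁ Y k) (h : hS.extClass.comp e₁ (show 1 + k = k + 1 by omega) = 0) : e₁ = 0 := by
  obtain ⟨x₂, hx₂⟩ := Ext.contravariant_sequence_exact₁ hS Y e₁ _ h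
  obtain ⟨j, rfl⟩ : ∃ j, k = j + 1 := ⟨k - 1, by omega⟩
  rw [← hx₂, Ext.eq_zero_of_projective x₂, Ext.comp_zero]

theorem extClass_comp_mk₀_eq_zero_iff (φ : S.X₁ ⟶ Y) :
    hS.extClass.comp (Ext.mk₀ φ) (show 1 + 0 = 1 by omega) = 0 ↔ ∃ h : S.X₂ ⟶ Y, S.f ≫ h = φ := by
  constructor
  · intro h
    obtain ⟨x₂, hx₂⟩ := Ext.contravariant_sequence_exact₁ hS Y (Ext.mk₀ φ) _ h
    obtain ⟨χ, rfl⟩ := Ext.addEquiv₀.symm.surjective x₂
    refine ⟨χ, ?_⟩
    change (Ext.mk₀ S.f).comp (Ext.mk₀ χ) (zero_add 0) = _ at hx₂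
    rw [Ext.mk₀_comp_mk₀] at hx₂
    exact Ext.addEquiv₀.symm.injective hx₂
  · rintro ⟨h, rfl⟩
    rw [← Ext.mk₀_comp_mk₀, ← Ext.comp_assoc _ _ _ (add_zero 1) (zero_add 0) (by omega),
      hS.extClass_comp, Ext.zero_comp]

end Abstract

section AbstractLinear

variable {A : Type*} [CommRing A] {C : Type*} [Category C] [Abelian C] [Linear A C] [HasExt.{w} C]
variable {Sx : ShortComplex C} (hS : Sx.ShortExact) (Y : C) (T : Submonoid A)

include hS in
theorem tors_succ_iff [Projective Sx.X₂] (k : ℕ) (hk : 0 < k) :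
    (∀ e : Ext Sx.X₃ Y (k + 1), ∃ s ∈ T, s • e = 0) ↔
      (∀ e₁ : Ext Sx.X₁ Y k, ∃ s ∈ T, s • e₁ = 0) := by
  constructor
  · intro h e₁
    obtain ⟨s, hs, h0⟩ := h (hS.extClass.comp e₁ (show 1 + k = k + 1 by omega))
    refine ⟨s, hs, ?_⟩
    rw [← Ext.comp_smul] at h0
    exact eq_zero_of_extClass_comp_eq_zero hS Y k hk _ h0
  · intro h e
    obtain ⟨e₁, rfl⟩ := exists_extClass_comp hS Y k e
    obtain ⟨s, hs, h0⟩ := h e₁
    refine ⟨s, hs, ?_⟩
    rw [← Ext.comp_smul, h0, Ext.comp_zero]

include hS in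
theorem tors_one_iff [Projective Sx.X₂] :
    (∀ e : Ext Sx.X₃ Y 1, ∃ s ∈ T, s • e = 0) ↔
      ∀ φ : Sx.X₁ ⟶ Y, ∃ s ∈ T, ∃ h : Sx.X₂ ⟶ Y, Sx.f ≫ h = s • φ := by
  constructor
  · intro h φ
    obtain ⟨s, hs, h0⟩ := h (hS.extClass.comp (Ext.mk₀ φ) (show 1 + 0 = 1 by omega))
    refine ⟨s, hs, ?_⟩
    rw [← Ext.comp_smul, ← Ext.mk₀_smul] at h0
    exact (extClass_comp_mk₀_eq_zero_iff hS Y _).mp h0
  · intro h e
    obtain ⟨e₁, rfl⟩ := exists_extClass_comp hS Y 0 e
    obtain ⟨φ, rfl⟩ := Ext.addEquiv₀.symm.surjective e₁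
    obtain ⟨s, hs, g, hg⟩ := h φ
    refine ⟨s, hs, ?_⟩
    change s • hS.extClass.comp (Ext.mk₀ φ) _ = 0
    rw [← Ext.comp_smul, ← Ext.mk₀_smul]
    exact (extClass_comp_mk₀_eq_zero_iff hS Y _).mpr ⟨g, hg⟩

end AbstractLinear

section ModuleLevel

variable {R : Type u} [CommRing R] [IsNoetherianRing R] (S : Submonoid R)
  (N : Type u) [AddCommGroup N] [Module R N]

omit [IsNoetherianRing R] in
/-- Two `S⁻¹R`-linear maps out of `S⁻¹M` agreeing on the image of `M` are equal. -/
theorem hom_ext_of_comp_mk {M : Type u} [AddCommGroup M] [Module R M]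
    (ψ ψ' : LocalizedModule S M →ₗ[Localization S] LocalizedModule S N)
    (h : ∀ m : M, ψ (LocalizedModule.mkLinearMap S M m) = ψ' (LocalizedModule.mkLinearMap S M m)) :
    ψ = ψ' := by
  apply LinearMap.restrictScalars_injective R
  apply IsLocalizedModule.linearMap_ext S (LocalizedModule.mkLinearMap S M)
    (LocalizedModule.mkLinearMap S N)
  ext m
  exact h m

theorem hom_loc_eq_zero {M : Type u} [AddCommGroup M] [Module R M] [Module.Finite R M]
    (h : ∀ φ : M →ₗ[R] N, ∃ s ∈ S, s • φ = 0)
    (ψ : LocalizedModule S M →ₗ[Localization S] LocalizedModule S N) : ψ = 0 := by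
  have : Module.FinitePresentation R M := Module.finitePresentation_of_finite R M
  apply hom_ext_of_comp_mk
  intro m
  obtain ⟨φ, t, ht⟩ := Module.FinitePresentation.exists_lift_of_isLocalizedModule S
    (LocalizedModule.mkLinearMap S N) ((ψ.restrictScalars R) ∘ₗ LocalizedModule.mkLinearMap S M)
  obtain ⟨s, hs, h0⟩ := h φ
  have h1 : (⟨s, hs⟩ * t : S) • ψ (LocalizedModule.mkLinearMap S M m) = 0 := by
    have := LinearMap.congr_fun ht m
    simp only [LinearMap.coe_comp, Function.comp_apply, LinearMap.smul_apply,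
      LinearMap.coe_restrictScalars] at this
    rw [mul_smul, ← this]
    change s • (LocalizedModule.mkLinearMap S N) (φ m) = 0
    rw [← map_smul, ← LinearMap.smul_apply, h0, LinearMap.zero_apply, map_zero]
  rw [LinearMap.zero_apply]
  apply IsLocalizedModule.smul_injective (LocalizedModule.mkLinearMap S N) (⟨s, hs⟩ * t)
  simp only [smul_zero]
  exact h1

theorem exists_smul_eq_zero_of_hom_loc {M : Type u} [AddCommGroup M] [Module R M]
    [Module.Finite R M]
    (h : ∀ ψ : LocalizedModule S M →ₗ[Localization S] LocalizedModule S N, ψ = 0)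
    (φ : M →ₗ[R] N) : ∃ s ∈ S, s • φ = 0 := by
  have h1 : (LocalizedModule.mkLinearMap S N).comp φ =
      (LocalizedModule.mkLinearMap S N).comp (0 : M →ₗ[R] N) := by
    ext m
    have := LinearMap.congr_fun (h (LocalizedModule.map S φ)) (LocalizedModule.mk m 1)
    rw [LocalizedModule.map_mk] at this
    simpa using this
  obtain ⟨s, hs⟩ := Module.Finite.exists_smul_of_comp_eq_of_isLocalizedModule S
    (LocalizedModule.mkLinearMap S N) φ 0 h1
  exact ⟨s.1, s.2, by rw [smul_zero] at hs; exact hs⟩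

variable {K F : Type u} [AddCommGroup K] [Module R K] [Module.Finite R K]
  [AddCommGroup F] [Module R F] [Module.Finite R F] (i : K →ₗ[R] F)

theorem ext_loc_of_ext (h : ∀ φ : K →ₗ[R] N, ∃ s ∈ S, ∃ g : F →ₗ[R] N, g ∘ₗ i = s • φ)
    (ψ : LocalizedModule S K →ₗ[Localization S] LocalizedModule S N) :
    ∃ g' : LocalizedModule S F →ₗ[Localization S] LocalizedModule S N,
      g' ∘ₗ LocalizedModule.map S i = ψ := by
  have : Module.FinitePresentation R K := Module.finitePresentation_of_finite R K
  obtain ⟨φ, t, ht⟩ := Module.FinitePresentation.exists_lift_of_isLocalizedModule S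
    (LocalizedModule.mkLinearMap S N) ((ψ.restrictScalars R) ∘ₗ LocalizedModule.mkLinearMap S K)
  obtain ⟨s, hs, g, hg⟩ := h φ
  let u : S := ⟨s, hs⟩ * t
  refine ⟨(IsLocalization.mk' (Localization S) (1 : R) u) • LocalizedModule.map S g, ?_⟩
  apply hom_ext_of_comp_mk
  intro k
  have h1 := LinearMap.congr_fun ht k
  have h2 := LinearMap.congr_fun hg k
  simp only [LinearMap.coe_comp, Function.comp_apply, LinearMap.smul_apply,
    LinearMap.coe_restrictScalars] at h1 h2
  simp only [LinearMap.coe_comp, Function.comp_apply, LinearMap.smul_apply,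
    LocalizedModule.mkLinearMap_apply, LocalizedModule.map_mk]
  rw [h2]
  have h3 : LocalizedModule.mk (s • φ k) (1 : S) =
      (u : R) • ψ (LocalizedModule.mk k 1) := by
    change _ = ((⟨s, hs⟩ * t : S) : R) • _
    rw [Submonoid.coe_mul, mul_smul]
    change _ = s • (t • ψ (LocalizedModule.mkLinearMap S K k))
    rw [← h1]
    exact (LocalizedModule.mkLinearMap S N).map_smul s (φ k)
  rw [h3, ← algebraMap_smul (Localization S) (u : R), smul_smul, mul_comm,
    IsLocalization.mk'_spec', map_one, one_smul]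

theorem ext_of_ext_loc
    (h : ∀ ψ : LocalizedModule S K →ₗ[Localization S] LocalizedModule S N,
      ∃ g' : LocalizedModule S F →ₗ[Localization S] LocalizedModule S N,
        g' ∘ₗ LocalizedModule.map S i = ψ)
    (φ : K →ₗ[R] N) : ∃ s ∈ S, ∃ g : F →ₗ[R] N, g ∘ₗ i = s • φ := by
  have : Module.FinitePresentation R F := Module.finitePresentation_of_finite R F
  obtain ⟨g', hg'⟩ := h (LocalizedModule.map S φ)
  obtain ⟨g, s, hgs⟩ := Module.FinitePresentation.exists_lift_of_isLocalizedModule S
    (LocalizedModule.mkLinearMap S N) ((g'.restrictScalars R) ∘ₗ LocalizedModule.mkLinearMap S F)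
  have h1 : (LocalizedModule.mkLinearMap S N).comp (g ∘ₗ i) =
      (LocalizedModule.mkLinearMap S N).comp ((s : R) • φ) := by
    ext k
    have h2 := LinearMap.congr_fun hgs (i k)
    have h3 := LinearMap.congr_fun hg' (LocalizedModule.mk k 1)
    simp only [LinearMap.coe_comp, Function.comp_apply, LinearMap.smul_apply,
      LinearMap.coe_restrictScalars, LocalizedModule.mkLinearMap_apply,
      LocalizedModule.map_mk] at h2 h3 ⊢
    rw [h2, h3]
    change s • LocalizedModule.mk (φ k) (1 : S) = _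
    rw [Submonoid.smul_def, LocalizedModule.smul'_mk]
  obtain ⟨t, ht⟩ := Module.Finite.exists_smul_of_comp_eq_of_isLocalizedModule S
    (LocalizedModule.mkLinearMap S N) _ _ h1
  refine ⟨(t * s : S), (t * s).2, (t : R) • g, ?_⟩
  rw [LinearMap.smul_comp, Submonoid.coe_mul, mul_smul]
  exact ht

end ModuleLevel

section Main

variable {R : Type u} [CommRing R] [IsNoetherianRing R] (S : Submonoid R)
  (N : Type u) [AddCommGroup N] [Module R N]

/-- The localized presentation sequence `0 → S⁻¹K → S⁻¹F → S⁻¹M → 0`. -/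
noncomputable def locSC {M : Type u} [AddCommGroup M] [Module R M] {b : ℕ}
    (g : (Fin b → R) →ₗ[R] M) : ShortComplex (ModuleCat.{u} (Localization S)) :=
  ShortComplex.mk
    (X₁ := ModuleCat.of (Localization S) (LocalizedModule S (LinearMap.ker g)))
    (X₂ := ModuleCat.of (Localization S) (LocalizedModule S (Fin b → R)))
    (X₃ := ModuleCat.of (Localization S) (LocalizedModule S M))
    (ModuleCat.ofHom (LocalizedModule.map S (LinearMap.ker g).subtype))
    (ModuleCat.ofHom (LocalizedModule.map S g)) (by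
      apply ModuleCat.hom_ext
      apply LinearMap.ext
      intro x
      induction x using LocalizedModule.induction_on with
      | h m s =>
        simp only [ModuleCat.hom_comp, ModuleCat.hom_ofHom, LinearMap.comp_apply,
          LocalizedModule.map_mk, Submodule.subtype_apply, ModuleCat.hom_zero,
          LinearMap.zero_apply]
        rw [LinearMap.mem_ker.mp m.2, LocalizedModule.zero_mk])

omit [IsNoetherianRing R] in
theorem locSC_shortExact {M : Type u} [AddCommGroup M] [Module R M] {b : ℕ}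
    (g : (Fin b → R) →ₗ[R] M) (hg : Function.Surjective g) : (locSC S g).ShortExact where
  exact := (ShortComplex.ShortExact.moduleCat_exact_iff_function_exact _).mpr (by
    have := LocalizedModule.map_exact S (LinearMap.ker g).subtype g
      (LinearMap.exact_subtype_ker_map g)
    intro y
    exact this y)
  mono_f := (ModuleCat.mono_iff_injective _).mpr (by
    have := LocalizedModule.map_injective S (LinearMap.ker g).subtype
      (Submodule.injective_subtype _)
    exact this)
  epi_g := (ModuleCat.epi_iff_surjective _).mpr (by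
    have := LocalizedModule.map_surjective S g hg
    exact this)

/-- `Ext^k_R(M,N)` is `S`-torsion. -/
def TorsExt (k : ℕ) (M : Type u) [AddCommGroup M] [Module R M] : Prop :=
  ∀ e : Ext.{u} (ModuleCat.of R M) (ModuleCat.of R N) k, ∃ s ∈ S, s • e = 0

/-- `Ext^k_{S⁻¹R}(S⁻¹M,S⁻¹N) = 0`, phrased as torsion for the trivial submonoid. -/
def VanExt (k : ℕ) (M : Type u) [AddCommGroup M] [Module R M] : Prop :=
  ∀ e : Ext.{u} (ModuleCat.of (Localization S) (LocalizedModule S M))
    (ModuleCat.of (Localization S) (LocalizedModule S N)) k,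
    ∃ s ∈ (⊥ : Submonoid (Localization S)), s • e = 0

omit [IsNoetherianRing R] in
theorem vanExt_iff (k : ℕ) (M : Type u) [AddCommGroup M] [Module R M] :
    VanExt S N k M ↔ Subsingleton (Ext.{u} (ModuleCat.of (Localization S) (LocalizedModule S M))
      (ModuleCat.of (Localization S) (LocalizedModule S N)) k) := by
  constructor
  · intro h
    refine ⟨fun a b => ?_⟩
    have h0 : ∀ e : Ext.{u} (ModuleCat.of (Localization S) (LocalizedModule S M))
        (ModuleCat.of (Localization S) (LocalizedModule S N)) k, e = 0 := by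
      intro e
      obtain ⟨s, hs, h1⟩ := h e
      rw [Submonoid.mem_bot] at hs
      rwa [hs, one_smul] at h1
    rw [h0 a, h0 b]
  · intro h e
    exact ⟨1, Submonoid.one_mem _, Subsingleton.elim _ _⟩

theorem torsExt_zero_iff (M : Type u) [AddCommGroup M] [Module R M] [Module.Finite R M] :
    TorsExt S N 0 M ↔ VanExt S N 0 M := by
  constructor
  · intro h e
    refine ⟨1, Submonoid.one_mem _, ?_⟩
    rw [one_smul]
    obtain ⟨ψ, rfl⟩ := Ext.addEquiv₀.symm.surjective e
    have hψ : ψ.hom = 0 := by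
      apply hom_loc_eq_zero S N
      intro φ
      obtain ⟨s, hs, h0⟩ := h (Ext.mk₀ (ModuleCat.ofHom φ))
      refine ⟨s, hs, ?_⟩
      rw [← Ext.mk₀_smul, Ext.mk₀_eq_zero_iff] at h0
      have := congrArg ModuleCat.Hom.hom h0
      exact this
    have : ψ = 0 := ModuleCat.hom_ext hψ
    rw [this]
    exact Ext.mk₀_zero _ _
  · intro h e
    obtain ⟨φ, rfl⟩ := Ext.addEquiv₀.symm.surjective e
    have hall : ∀ ψ : LocalizedModule S M →ₗ[Localization S] LocalizedModule S N, ψ = 0 := by
      intro ψ
      obtain ⟨s, hs, h0⟩ := h (Ext.mk₀ (ModuleCat.ofHom ψ))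
      rw [Submonoid.mem_bot] at hs
      rw [hs, one_smul, Ext.mk₀_eq_zero_iff] at h0
      exact congrArg ModuleCat.Hom.hom h0
    obtain ⟨s, hs, h0⟩ := exists_smul_eq_zero_of_hom_loc S N hall φ.hom
    refine ⟨s, hs, ?_⟩
    change s • Ext.mk₀ φ = 0
    rw [← Ext.mk₀_smul]
    have : s • φ = 0 := ModuleCat.hom_ext h0
    rw [this]
    exact Ext.mk₀_zero _ _

/-- **Localization of `Ext`, vanishing form.** -/
theorem torsExt_iff (k : ℕ) : ∀ (M : Type u) [AddCommGroup M] [Module R M] [Module.Finite R M],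
    TorsExt S N k M ↔ VanExt S N k M := by
  induction k with
  | zero => exact fun M _ _ _ => torsExt_zero_iff S N M
  | succ k ih =>
    intro M _ _ _
    obtain ⟨b, g, hg⟩ := Module.Finite.exists_fin' R M
    have hS := LinearMap.shortExact_shortComplexKer hg
    have hS' := locSC_shortExact S g hg
    haveI : Projective (g.shortComplexKer).X₂ :=
      (inferInstance : Projective (ModuleCat.of R (Fin b → R)))
    haveI : Projective (locSC S g).X₂ := by
      change Projective (ModuleCat.of (Localization S) (LocalizedModule S (Fin b → R)))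
      rw [← IsProjective.iff_projective]
      infer_instance
    haveI : Module.Finite R (LinearMap.ker g) := inferInstance
    rcases Nat.eq_zero_or_pos k with rfl | hk
    · refine Iff.trans (tors_one_iff hS (ModuleCat.of R N) S)
        (Iff.trans ?_ (tors_one_iff hS' (ModuleCat.of (Localization S) (LocalizedModule S N))
          (⊥ : Submonoid (Localization S))).symm)
      constructor
      · intro h ψ
        obtain ⟨g', hg'⟩ := ext_loc_of_ext S N (LinearMap.ker g).subtype (fun φ => by
            obtain ⟨s, hs, h1, h2⟩ := h (ModuleCat.ofHom φ)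
            exact ⟨s, hs, h1.hom, congrArg ModuleCat.Hom.hom h2⟩) ψ.hom
        refine ⟨1, Submonoid.one_mem _, ModuleCat.ofHom g', ?_⟩
        rw [one_smul]
        exact ModuleCat.hom_ext hg'
      · intro h φ
        obtain ⟨s, hs, g1, hg1⟩ := ext_of_ext_loc S N (LinearMap.ker g).subtype (fun ψ => by
            obtain ⟨s, hs, h1, h2⟩ := h (ModuleCat.ofHom ψ)
            rw [Submonoid.mem_bot] at hs
            subst hs
            rw [one_smul] at h2
            exact ⟨h1.hom, congrArg ModuleCat.Hom.hom h2⟩) φ.hom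
        exact ⟨s, hs, ModuleCat.ofHom g1, ModuleCat.hom_ext hg1⟩
    · refine Iff.trans (tors_succ_iff hS (ModuleCat.of R N) S k hk)
        (Iff.trans ?_ (tors_succ_iff hS' (ModuleCat.of (Localization S) (LocalizedModule S N))
          (⊥ : Submonoid (Localization S)) k hk).symm)
      exact ih (LinearMap.ker g)

omit [IsNoetherianRing R] in
/-- `Ext` into isomorphic objects: subsingleton transfers. -/
theorem subsingleton_ext_of_iso {A : Type u} [CommRing A] {X Y Y' : ModuleCat.{u} A} (e : Y ≅ Y')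
    (k : ℕ) (h : Subsingleton (Ext.{u} X Y k)) : Subsingleton (Ext.{u} X Y' k) := by
  refine ⟨fun a b => ?_⟩
  have key : ∀ x : Ext.{u} X Y' k, x = 0 := by
    intro x
    have h1 : (x.comp (Ext.mk₀ e.inv) (add_zero k)).comp (Ext.mk₀ e.hom) (add_zero k) = x := by
      rw [Ext.comp_assoc_of_third_deg_zero, Ext.mk₀_comp_mk₀, e.inv_hom_id, Ext.comp_mk₀_id]
    rw [← h1, Subsingleton.elim (x.comp (Ext.mk₀ e.inv) (add_zero k)) 0, Ext.zero_comp]
  rw [key a, key b]

/-- **Localization of `Ext`** for an arbitrary model `N'` of `S⁻¹N`. -/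
theorem subsingleton_ext_iff_torsExt (k : ℕ) (M : Type u) [AddCommGroup M] [Module R M]
    [Module.Finite R M] (N' : Type u) [AddCommGroup N'] [Module R N'] [Module (Localization S) N']
    [IsScalarTower R (Localization S) N'] (g : N →ₗ[R] N') [IsLocalizedModule S g] :
    Subsingleton (Ext.{u} (ModuleCat.of (Localization S) (LocalizedModule S M))
      (ModuleCat.of (Localization S) N') k) ↔ TorsExt S N k M := by
  rw [torsExt_iff S N k M, vanExt_iff]
  let e : LocalizedModule S N ≃ₗ[Localization S] N' :=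
    LinearEquiv.extendScalarsOfIsLocalization S (Localization S)
      (IsLocalizedModule.linearEquiv S (LocalizedModule.mkLinearMap S N) g)
  exact ⟨subsingleton_ext_of_iso e.toModuleIso.symm k, subsingleton_ext_of_iso e.toModuleIso k⟩

end Main

end Groth.Agent.Lib.Helper41.ExtLoc
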