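import Groth.Agent.Lib.Helper41.ExtLoc

/-!
# Localization of `Ext` (annihilator form, one direction)

For a Noetherian ring `R`, a multiplicative set `S`, a finite module `M`, any module `N` and
`β : R`: if every element of `Ext^k_R(M,N)` is killed by some `s * β` with `s ∈ S`, then the image
of `β` kills `Ext^k_{S⁻¹R}(S⁻¹M, S⁻¹N)`.
-/

set_option autoImplicit false
universe u w
open CategoryTheory CategoryTheory.Limits CategoryTheory.Abelian

namespace Groth.Agent.Lib.Helper41.ExtLocB

open Groth.Agent.Lib.Helper41.ExtLoc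

section AbstractLinear

variable {A : Type*} [CommRing A] {C : Type*} [Category C] [Abelian C] [Linear A C] [HasExt.{w} C]
variable {Sx : ShortComplex C} (hS : Sx.ShortExact) (Y : C) (T : Set A)

include hS in
theorem tors_succ_iff [Projective Sx.X₂] (k : ℕ) (hk : 0 < k) :
    (∀ e : Ext Sx.X₃ Y (k + 1), ∃ s ∈ T, s • e = 0) ↔
      (∀ e₁ : Ext Sx.X₁ Y k, ∃ s ∈ T, s • e₁ = 0) := by
  constructor
  · intro h e₁
    obtain ⟨s, hs, h0⟩ := h (hS.extClass.comp e₁ (show 1 + k = k + 1 by omega))
    refine ⟨s, hs, ?_⟩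
    rw [← Ext.comp_smul] at h0
    exact eq_zero_of_extClass_comp_eq_zero hS Y k hk _ h0
  · intro h e
    obtain ⟨e₁, rfl⟩ := exists_extClass_comp hS Y k e
    obtain ⟨s, hs, h0⟩ := h e₁
    refine ⟨s, hs, ?_⟩
    rw [← Ext.comp_smul, h0, Ext.comp_zero]

include hS in
theorem tors_one_iff [Projective Sx.X₂] :
    (∀ e : Ext Sx.X₃ Y 1, ∃ s ∈ T, s • e = 0) ↔
      ∀ φ : Sx.X₁ ⟶ Y, ∃ s ∈ T, ∃ h : Sx.X₂ ⟶ Y, Sx.f ≫ h = s • φ := by
  constructor
  · intro h φ
    obtain ⟨s, hs, h0⟩ := h (hS.extClass.comp (Ext.mk₀ φ) (show 1 + 0 = 1 by omega))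
    refine ⟨s, hs, ?_⟩
    rw [← Ext.comp_smul, ← Ext.mk₀_smul] at h0
    exact (extClass_comp_mk₀_eq_zero_iff hS Y _).mp h0
  · intro h e
    obtain ⟨e₁, rfl⟩ := exists_extClass_comp hS Y 0 e
    obtain ⟨φ, rfl⟩ := Ext.addEquiv₀.symm.surjective e₁
    obtain ⟨s, hs, g, hg⟩ := h φ
    refine ⟨s, hs, ?_⟩
    change s • hS.extClass.comp (Ext.mk₀ φ) _ = 0
    rw [← Ext.comp_smul, ← Ext.mk₀_smul]
    exact (extClass_comp_mk₀_eq_zero_iff hS Y _).mpr ⟨g, hg⟩

end AbstractLinear

section ModuleLevel

variable {R : Type u} [CommRing R] [IsNoetherianRing R] (S : Submonoid R)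
  (N : Type u) [AddCommGroup N] [Module R N] (β : R)

theorem hom_loc_smul_eq_zero {M : Type u} [AddCommGroup M] [Module R M] [Module.Finite R M]
    (h : ∀ φ : M →ₗ[R] N, ∃ s ∈ S, (s * β) • φ = 0)
    (ψ : LocalizedModule S M →ₗ[Localization S] LocalizedModule S N) :
    algebraMap R (Localization S) β • ψ = 0 := by
  have : Module.FinitePresentation R M := Module.finitePresentation_of_finite R M
  apply hom_ext_of_comp_mk
  intro m
  obtain ⟨φ, t, ht⟩ := Module.FinitePresentation.exists_lift_of_isLocalizedModule S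
    (LocalizedModule.mkLinearMap S N) ((ψ.restrictScalars R) ∘ₗ LocalizedModule.mkLinearMap S M)
  obtain ⟨s, hs, h0⟩ := h φ
  have h1 : (⟨s, hs⟩ * t : S) • (β • ψ (LocalizedModule.mkLinearMap S M m)) = 0 := by
    have := LinearMap.congr_fun ht m
    simp only [LinearMap.coe_comp, Function.comp_apply, LinearMap.smul_apply,
      LinearMap.coe_restrictScalars] at this
    rw [smul_comm, mul_smul, ← this]
    change β • (s • (LocalizedModule.mkLinearMap S N) (φ m)) = 0
    rw [smul_smul, mul_comm, ← map_smul, ← LinearMap.smul_apply, h0, LinearMap.zero_apply,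
      map_zero]
  rw [LinearMap.zero_apply, LinearMap.smul_apply, algebraMap_smul]
  apply IsLocalizedModule.smul_injective (LocalizedModule.mkLinearMap S N) (⟨s, hs⟩ * t)
  simp only [smul_zero]
  exact h1

variable {K F : Type u} [AddCommGroup K] [Module R K] [Module.Finite R K]
  [AddCommGroup F] [Module R F] [Module.Finite R F] (i : K →ₗ[R] F)

theorem ext_loc_of_ext_smul
    (h : ∀ φ : K →ₗ[R] N, ∃ s ∈ S, ∃ g : F →ₗ[R] N, g ∘ₗ i = (s * β) • φ)
    (ψ : LocalizedModule S K →ₗ[Localization S] LocalizedModule S N) :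
    ∃ g' : LocalizedModule S F →ₗ[Localization S] LocalizedModule S N,
      g' ∘ₗ LocalizedModule.map S i = algebraMap R (Localization S) β • ψ := by
  have : Module.FinitePresentation R K := Module.finitePresentation_of_finite R K
  obtain ⟨φ, t, ht⟩ := Module.FinitePresentation.exists_lift_of_isLocalizedModule S
    (LocalizedModule.mkLinearMap S N) ((ψ.restrictScalars R) ∘ₗ LocalizedModule.mkLinearMap S K)
  obtain ⟨s, hs, g, hg⟩ := h φ
  let u : S := ⟨s, hs⟩ * t
  refine ⟨(IsLocalization.mk' (Localization S) (1 : R) u) • LocalizedModule.map S g, ?_⟩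
  apply hom_ext_of_comp_mk
  intro k
  have h1 := LinearMap.congr_fun ht k
  have h2 := LinearMap.congr_fun hg k
  simp only [LinearMap.coe_comp, Function.comp_apply, LinearMap.smul_apply,
    LinearMap.coe_restrictScalars] at h1 h2
  simp only [LinearMap.coe_comp, Function.comp_apply, LinearMap.smul_apply,
    LocalizedModule.mkLinearMap_apply, LocalizedModule.map_mk]
  rw [h2]
  have h3 : LocalizedModule.mk ((s * β) • φ k) (1 : S) =
      (u : R) • (β • ψ (LocalizedModule.mk k 1)) := by
    have e1 : (u : R) • (β • ψ (LocalizedModule.mk k 1)) =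
        (s * β) • (t • ψ (LocalizedModule.mkLinearMap S K k)) := by
      change ((s * (t : R)) : R) • (β • ψ (LocalizedModule.mk k 1)) =
        (s * β) • ((t : R) • ψ (LocalizedModule.mk k 1))
      rw [smul_smul, smul_smul]
      congr 1
      ring
    rw [e1, ← h1]
    exact (LocalizedModule.mkLinearMap S N).map_smul (s * β) (φ k)
  rw [h3, ← algebraMap_smul (Localization S) (u : R), smul_smul, mul_comm,
    IsLocalization.mk'_spec', map_one, one_smul, algebraMap_smul]

end ModuleLevel

section Main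

variable {R : Type u} [CommRing R] [IsNoetherianRing R] (S : Submonoid R)
  (N : Type u) [AddCommGroup N] [Module R N] (β : R)

/-- Every element of `Ext^k_R(M,N)` is killed by some `s * β`, `s ∈ S`. -/
def TorsExtB (k : ℕ) (M : Type u) [AddCommGroup M] [Module R M] : Prop :=
  ∀ e : Ext.{u} (ModuleCat.of R M) (ModuleCat.of R N) k, ∃ s ∈ S, (s * β) • e = 0

/-- `β' ∈ S⁻¹R` kills `Ext^k_{S⁻¹R}(S⁻¹M,S⁻¹N)`. -/
def KillExt (β' : Localization S) (k : ℕ) (M : Type u) [AddCommGroup M] [Module R M] : Prop :=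
  ∀ e : Ext.{u} (ModuleCat.of (Localization S) (LocalizedModule S M))
    (ModuleCat.of (Localization S) (LocalizedModule S N)) k, β' • e = 0

theorem killExt_zero (M : Type u) [AddCommGroup M] [Module R M] [Module.Finite R M]
    (h : TorsExtB S N β 0 M) : KillExt S N (algebraMap R (Localization S) β) 0 M := by
  intro e
  obtain ⟨ψ, rfl⟩ := Ext.addEquiv₀.symm.surjective e
  have hψ : algebraMap R (Localization S) β • ψ.hom = 0 := by
    apply hom_loc_smul_eq_zero S N β
    intro φ
    obtain ⟨s, hs, h0⟩ := h (Ext.mk₀ (ModuleCat.ofHom φ))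
    refine ⟨s, hs, ?_⟩
    rw [← Ext.mk₀_smul, Ext.mk₀_eq_zero_iff] at h0
    have := congrArg ModuleCat.Hom.hom h0
    exact this
  have : algebraMap R (Localization S) β • ψ = 0 := ModuleCat.hom_ext hψ
  change algebraMap R (Localization S) β • Ext.mk₀ ψ = 0
  rw [← Ext.mk₀_smul, this]
  exact Ext.mk₀_zero _ _

/-- **Localization of `Ext`, annihilator form.** -/
theorem killExt_of_torsExtB (k : ℕ) :
    ∀ (M : Type u) [AddCommGroup M] [Module R M] [Module.Finite R M],
    TorsExtB S N β k M → KillExt S N (algebraMap R (Localization S) β) k M := by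
  induction k with
  | zero => exact fun M _ _ _ => killExt_zero S N β M
  | succ k ih =>
    intro M _ _ _ hT
    obtain ⟨b, g, hg⟩ := Module.Finite.exists_fin' R M
    have hS := LinearMap.shortExact_shortComplexKer hg
    have hS' := locSC_shortExact S g hg
    haveI : Projective (g.shortComplexKer).X₂ :=
      (inferInstance : Projective (ModuleCat.of R (Fin b → R)))
    haveI : Projective (locSC S g).X₂ := by
      change Projective (ModuleCat.of (Localization S) (LocalizedModule S (Fin b → R)))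
      rw [← IsProjective.iff_projective]
      infer_instance
    haveI : Module.Finite R (LinearMap.ker g) := inferInstance
    -- rephrase both sides with `Set`-torsion
    have hT' : ∀ e : Ext.{u} (g.shortComplexKer).X₃ (ModuleCat.of R N) (k + 1),
        ∃ s ∈ {t : R | ∃ s ∈ S, t = s * β}, s • e = 0 := by
      intro e
      obtain ⟨s, hs, h0⟩ := hT e
      exact ⟨s * β, ⟨s, hs, rfl⟩, h0⟩
    suffices hK : ∀ e : Ext.{u} (locSC S g).X₃
        (ModuleCat.of (Localization S) (LocalizedModule S N)) (k + 1),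
        ∃ s ∈ ({algebraMap R (Localization S) β} : Set (Localization S)), s • e = 0 by
      intro e
      obtain ⟨s, hs, h0⟩ := hK e
      rw [Set.mem_singleton_iff] at hs
      rwa [hs] at h0
    rcases Nat.eq_zero_or_pos k with rfl | hk
    · rw [tors_one_iff hS' (ModuleCat.of (Localization S) (LocalizedModule S N))]
      rw [tors_one_iff hS (ModuleCat.of R N)] at hT'
      intro ψ
      obtain ⟨g', hg'⟩ := ext_loc_of_ext_smul S N β (LinearMap.ker g).subtype (fun φ => by
          obtain ⟨t, ⟨s, hs, rfl⟩, h1, h2⟩ := hT' (ModuleCat.ofHom φ)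
          exact ⟨s, hs, h1.hom, congrArg ModuleCat.Hom.hom h2⟩) ψ.hom
      exact ⟨_, rfl, ModuleCat.ofHom g', ModuleCat.hom_ext hg'⟩
    · rw [tors_succ_iff hS' (ModuleCat.of (Localization S) (LocalizedModule S N)) _ k hk]
      rw [tors_succ_iff hS (ModuleCat.of R N) _ k hk] at hT'
      intro e₁
      refine ⟨_, rfl, ?_⟩
      apply ih (LinearMap.ker g)
      intro e
      obtain ⟨t, ⟨s, hs, rfl⟩, h0⟩ := hT' e
      exact ⟨s, hs, h0⟩

omit [IsNoetherianRing R] in
/-- Annihilation of `Ext` transfers along an isomorphism of the second variable. -/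
theorem smul_ext_eq_zero_of_iso {A : Type u} [CommRing A] {X Y Y' : ModuleCat.{u} A} (e : Y ≅ Y')
    (k : ℕ) (r : A) (h : ∀ x : Ext.{u} X Y k, r • x = 0) (x : Ext.{u} X Y' k) : r • x = 0 := by
  have h1 : (x.comp (Ext.mk₀ e.inv) (add_zero k)).comp (Ext.mk₀ e.hom) (add_zero k) = x := by
    rw [Ext.comp_assoc_of_third_deg_zero, Ext.mk₀_comp_mk₀, e.inv_hom_id, Ext.comp_mk₀_id]
  rw [← h1, ← Ext.smul_comp, h, Ext.zero_comp]

/-- **Localization of `Ext`, annihilator form**, for an arbitrary model `N'` of `S⁻¹N`. -/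
theorem smul_ext_eq_zero_of_torsExtB (k : ℕ) (M : Type u) [AddCommGroup M] [Module R M]
    [Module.Finite R M] (N' : Type u) [AddCommGroup N'] [Module R N'] [Module (Localization S) N']
    [IsScalarTower R (Localization S) N'] (g : N →ₗ[R] N') [IsLocalizedModule S g]
    (h : TorsExtB S N β k M)
    (x : Ext.{u} (ModuleCat.of (Localization S) (LocalizedModule S M))
      (ModuleCat.of (Localization S) N') k) : algebraMap R (Localization S) β • x = 0 := by
  let e : LocalizedModule S N ≃ₗ[Localization S] N' :=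
    LinearEquiv.extendScalarsOfIsLocalization S (Localization S)
      (IsLocalizedModule.linearEquiv S (LocalizedModule.mkLinearMap S N) g)
  exact smul_ext_eq_zero_of_iso e.toModuleIso k _ (killExt_of_torsExtB S N β k M h) x

end Main

end Groth.Agent.Lib.Helper41.ExtLocB
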