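import Groth.Agent.S11660
import Groth.Agent.Lib.Helper41.RelCodim2
import Groth.Agent.Lib.Helper41.LCAdjDepth
import Groth.Agent.Lib.Helper41.LCFaltings

/-!
# Finiteness criterion for local cohomology over quotients of regular rings

`H^i_I(M)` is finite for all `i ≤ n` iff `depth M_p + c(p) > n` for all primes `p ⊉ I`.
-/

set_option autoImplicit false
universe u
open CategoryTheory CategoryTheory.Limits Opposite CategoryTheory.Abelian

namespace Groth.Agent.Lib.Helper41.FinCrit

open Groth.Agent.Lib.Helper41 Groth.Agent.Lib.Helper41.LC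

variable {A : Type u} [CommRing A] [IsNoetherianRing A]

/-- Finiteness for `i ≤ n` iff `I ≤ √Ann H^i_I(M)` for `i ≤ n`. -/
theorem finite_iff_le_radical (I : Ideal A) (M : Type u) [AddCommGroup M] [Module A M]
    [Module.Finite A M] (n : ℕ) :
    (∀ i : ℕ, i ≤ n → Module.Finite A (LocCoh.H I i M)) ↔
      ∀ i : ℕ, i ≤ n → I ≤ (Module.annihilator A (LocCoh.H I i M)).radical := by
  constructor
  · intro h i hi a ha
    haveI := h i hi
    obtain ⟨k, hk⟩ := exists_pow_smul_eq_zero_of_fg I (isTorsion_H I i (ModuleCat.of A M))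
      (⊤ : Submodule A (LocCoh.H I i M)) Module.Finite.fg_top
    refine ⟨k, ?_⟩
    rw [Module.mem_annihilator]
    intro x
    exact hk _ (Ideal.pow_mem_pow ha k) x Submodule.mem_top
  · intro h
    have hk : ∀ i : ℕ, ∃ k : ℕ, i ≤ n → I ^ k ≤ Module.annihilator A (LocCoh.H I i M) := by
      intro i
      by_cases hi : i ≤ n
      · obtain ⟨k, hk⟩ := Ideal.exists_pow_le_of_le_radical_of_fg (h i hi)
          (IsNoetherian.noetherian I)
        exact ⟨k, fun _ => hk⟩
      · exact ⟨0, fun h' => absurd h' hi⟩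
    choose kf hkf using hk
    let k : ℕ := (Finset.range (n + 1)).sup kf
    apply finite_of_pow_smul_eq_zero I n M k
    intro i hi a ha x
    have h1 : kf i ≤ k := Finset.le_sup (f := kf) (Finset.mem_range.mpr (Nat.lt_succ_of_le hi))
    have h2 := hkf i hi (Ideal.pow_le_pow_right h1 ha)
    exact Module.mem_annihilator.mp h2 x

/-- `I ≤ √Ann H^i_I(M)` for `i ≤ n` iff `n < f_I(M)`. -/
theorem le_radical_iff_lt_finDimRel (I : Ideal A) (M : Type u) [AddCommGroup M] [Module A M]
    (n : ℕ) :
    (∀ i : ℕ, i ≤ n → I ≤ (Module.annihilator A (LocCoh.H I i M)).radical) ↔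
      (n : ℕ∞) < LocCoh.finDimRel I I M := by
  constructor
  · intro h
    have : ((n + 1 : ℕ) : ℕ∞) ≤ LocCoh.finDimRel I I M := by
      unfold LocCoh.finDimRel
      refine le_iInf₂ fun i hi => ?_
      by_contra hlt
      rw [not_le] at hlt
      have : i < n + 1 := by exact_mod_cast hlt
      exact hi (h i (by omega))
    refine lt_of_lt_of_le ?_ this
    exact_mod_cast Nat.lt_succ_self n
  · intro h i hi
    by_contra hnot
    have h1 := finDimRel_le_of_not I I M i hnot
    have : (n : ℕ∞) < i := lt_of_lt_of_le h h1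
    have : n < i := by exact_mod_cast this
    omega

/-- **Finiteness criterion.** -/
theorem finite_iff_depth_relCodim (R : Type u) [CommRing R] [IsRegularRing R] (π : R →+* A)
    (hπ : Function.Surjective π) (I : Ideal A) (M : Type u) [AddCommGroup M] [Module A M]
    [Module.Finite A M] (n : ℕ) :
    (∀ i : ℕ, i ≤ n → Module.Finite A (LocCoh.H I i M)) ↔
      ∀ p : PrimeSpectrum A, ¬ I ≤ p.asIdeal →
        (n : ℕ∞) < LocCoh.depth (Localization.AtPrime p.asIdeal)
          (LocalizedModule p.asIdeal.primeCompl M) + SGA2.relCodim I p := by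
  rw [finite_iff_le_radical, le_radical_iff_lt_finDimRel]
  have heq : LocCoh.finDimRel I I M = LocCoh.minAdjDepth I I M :=
    le_antisymm (finDimRel_le_minAdjDepth I I M) (Groth.Agent.S11660.result R A π hπ I I M)
  rw [heq]
  unfold LocCoh.minAdjDepth LocCoh.adjDepth
  constructor
  · intro h p hp
    rw [RelCodim.relCodim_eq_height_map]
    exact lt_of_lt_of_le h (iInf₂_le p hp)
  · intro h
    have : ((n + 1 : ℕ) : ℕ∞) ≤ ⨅ (p : PrimeSpectrum A) (_ : ¬ I ≤ p.asIdeal),
        LocCoh.depth (Localization.AtPrime p.asIdeal) (LocalizedModule p.asIdeal.primeCompl M) +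
          ((I ⊔ p.asIdeal).map (Ideal.Quotient.mk p.asIdeal)).height := by
      refine le_iInf₂ fun p hp => ?_
      have := h p hp
      rw [RelCodim.relCodim_eq_height_map] at this
      have h2 : ((n + 1 : ℕ) : ℕ∞) = (n : ℕ∞) + 1 := by push_cast; rfl
      rw [h2]
      exact Order.add_one_le_of_lt this
    refine lt_of_lt_of_le ?_ this
    exact_mod_cast Nat.lt_succ_self n

end Groth.Agent.Lib.Helper41.FinCrit
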