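import Groth.Agent.Lib.Helper41.GorLoc
import Groth.Agent.Lib.Helper41.LCAdjDepth

/-!
# Annihilators under Matlis duality, and radical-of-annihilator via localizations
-/

set_option autoImplicit false
universe u
open CategoryTheory CategoryTheory.Abelian IsLocalRing

namespace Groth.Agent.Lib.Helper41.GorAnn

open Groth.Agent.Lib.Helper41

/-- Local duality isomorphisms over a Gorenstein local ring, with `E = H^d_m(R)`. -/
theorem exists_dual_equiv (R : Type u) [CommRing R] [LocCoh.IsGorensteinLocalRing R] (d : ℕ)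
    (hd : ringKrullDim R = d) :
    ∃ (E : Type u) (_ : AddCommGroup E) (_ : Module R E) (g : ResidueField R →ₗ[R] E),
      InjHull.IsInjectiveHull g ∧
      ∀ (i : ℕ), i ≤ d → ∀ (M : Type u) [AddCommGroup M] [Module R M] [Module.Finite R M],
        Nonempty (LocCoh.H (maximalIdeal R) (d - i) M ≃ₗ[R]
          (Ext.{u} (ModuleCat.of R M) (ModuleCat.of R R) i →ₗ[R] E)) := by
  obtain ⟨g, hg⟩ := Groth.Agent.S11665.result R d hd
  have hdepth : (d : ℕ∞) ≤ LocCoh.depth R R := (GorDual.depth_eq_of_gorenstein R d hd).ge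
  let eK : (R →ₗ[R] LocCoh.H (maximalIdeal R) d R) ≃ₗ[R] LocCoh.H (maximalIdeal R) d R :=
    LinearMap.ringLmapEquivSelf R R _
  refine ⟨LocCoh.H (maximalIdeal R) d R, inferInstance, inferInstance, g, hg, ?_⟩
  intro i hi M _ _ _
  exact Groth.Agent.Lib.Helper2.LD.duality_ext (maximalIdeal R) d hd.le
    (Groth.Agent.Lib.Helper2.LD.subsingleton_localCohomology_of_lt_depth d hdepth)
    hg.isInjective eK i hi M

/-- `r` kills `Hom(X,E)` iff `r` kills `X`, for `E` an injective hull of the residue field. -/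
theorem smul_dual_eq_zero_iff {R : Type u} [CommRing R] [IsLocalRing R] {E : Type u}
    [AddCommGroup E] [Module R E] (g : ResidueField R →ₗ[R] E) (hg : InjHull.IsInjectiveHull g)
    (X : Type u) [AddCommGroup X] [Module R X] (r : R) :
    (∀ φ : X →ₗ[R] E, r • φ = 0) ↔ ∀ x : X, r • x = 0 := by
  constructor
  · intro h x
    by_contra hx
    obtain ⟨φ, hφ⟩ := Groth.Agent.Lib.Helper2.exists_linearMap_apply_ne_zero g hg (r • x) hx
    apply hφ
    have := LinearMap.congr_fun (h φ) x
    rw [LinearMap.smul_apply, LinearMap.zero_apply] at this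
    rw [map_smul]
    exact this
  · intro h φ
    ext x
    rw [LinearMap.smul_apply, ← map_smul, h x, map_zero, LinearMap.zero_apply]

/-- For a finite module over a Noetherian ring: `J ≤ √Ann X` iff `X_P = 0` for all `P ⊉ J`. -/
theorem le_radical_annihilator_iff {R : Type u} [CommRing R] [IsNoetherianRing R] (X : Type u)
    [AddCommGroup X] [Module R X] [Module.Finite R X] (J : Ideal R) :
    J ≤ (Module.annihilator R X).radical ↔ ∀ (P : Ideal R) [P.IsPrime], ¬ J ≤ P → LC.LZ P X := by
  constructor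
  · intro h P _ hJP x
    obtain ⟨a, haJ, haP⟩ := SetLike.not_le_iff_exists.mp hJP
    obtain ⟨n, hn⟩ := h haJ
    refine ⟨a ^ n, fun hmem => haP (Ideal.IsPrime.mem_of_pow_mem inferInstance n hmem), ?_⟩
    exact Module.mem_annihilator.mp hn x
  · intro h a haJ
    by_contra hrad
    rw [Ideal.radical_eq_sInf, Ideal.mem_sInf] at hrad
    push Not at hrad
    obtain ⟨P, ⟨hAnnP, hPprime⟩, haP⟩ := hrad
    haveI := hPprime
    have hlz := h P (fun hJP => haP (hJP haJ))
    have hle : (⊤ : Submodule R X) ≤ LC.satKer P X := fun x _ => hlz x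
    obtain ⟨s, hsP, hs⟩ := LC.exists_smul_eq_zero_of_fg_le_satKer P (⊤ : Submodule R X)
      Module.Finite.fg_top hle
    apply hsP
    apply hAnnP
    rw [Module.mem_annihilator]
    exact fun x => hs x Submodule.mem_top

end Groth.Agent.Lib.Helper41.GorAnn
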