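import Groth.Agent.Lib.Helper41.GorAnn
import Groth.Agent.Lib.Helper41.GorTransfer

/-!
# Radical of the annihilator of `H^i_m(M)` over (a quotient of) a Gorenstein local ring
-/

set_option autoImplicit false
universe u
open CategoryTheory CategoryTheory.Abelian IsLocalRing

namespace Groth.Agent.Lib.Helper41.GorAnn

open Groth.Agent.Lib.Helper41

/-- Over a Gorenstein local ring `B` of dimension `d`, for `i ≤ d`: every element of `J` acts
nilpotently on `H^i_m(M)` iff `Ext^{d-i}_B(M,B)` is locally zero at all primes `P ⊉ J`. -/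
theorem pow_kill_H_iff (B : Type u) [CommRing B] [LocCoh.IsGorensteinLocalRing B] (d : ℕ)
    (hd : ringKrullDim B = d) (M : Type u) [AddCommGroup M] [Module B M] [Module.Finite B M]
    (J : Ideal B) (i : ℕ) (hi : i ≤ d) :
    (∀ r ∈ J, ∃ n : ℕ, ∀ y : LocCoh.H (maximalIdeal B) i M, r ^ n • y = 0) ↔
      ∀ (P : Ideal B) [P.IsPrime], ¬ J ≤ P → ExtLoc.TorsExt P.primeCompl B (d - i) M := by
  obtain ⟨E, _, _, g, hg, hdual⟩ := exists_dual_equiv B d hd
  obtain ⟨e⟩ := hdual (d - i) (Nat.sub_le d i) M
  rw [Nat.sub_sub_self hi] at e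
  have h1 : (∀ r ∈ J, ∃ n : ℕ, ∀ y : LocCoh.H (maximalIdeal B) i M, r ^ n • y = 0) ↔
      J ≤ (Module.annihilator B
        (Ext.{u} (ModuleCat.of B M) (ModuleCat.of B B) (d - i))).radical := by
    refine forall₂_congr fun r _ => ?_
    change _ ↔ ∃ n : ℕ, r ^ n ∈ Module.annihilator B _
    refine exists_congr fun n => ?_
    rw [Module.mem_annihilator, ← smul_dual_eq_zero_iff g hg
      (Ext.{u} (ModuleCat.of B M) (ModuleCat.of B B) (d - i)) (r ^ n)]
    constructor
    · intro h φ
      obtain ⟨y, rfl⟩ := e.surjective φ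
      rw [← map_smul, h y, map_zero]
    · intro h y
      apply e.injective
      rw [map_smul, h (e y), map_zero]
  rw [h1, le_radical_annihilator_iff]
  refine forall_congr' fun P => forall_congr' fun _ => forall_congr' fun _ => ?_
  constructor
  · intro h x
    obtain ⟨s, hs, hsx⟩ := h x
    exact ⟨s, hs, hsx⟩
  · intro h x
    obtain ⟨s, hs, hsx⟩ := h x
    exact ⟨s, hs, hsx⟩

theorem withBot_enat_decomp (x : WithBot ℕ∞) (h d : ℕ)
    (hx : (d : WithBot ℕ∞) = x + ((h : ℕ∞) : WithBot ℕ∞)) :
    ∃ e₀ : ℕ, x = e₀ ∧ d = e₀ + h := by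
  induction x using WithBot.recBotCoe with
  | bot => rw [WithBot.bot_add] at hx; exact absurd hx (by simp)
  | coe x =>
    induction x using ENat.recTopCoe with
    | top =>
      exfalso
      rw [← WithBot.coe_add, top_add] at hx
      have : ((d : ℕ∞) : WithBot ℕ∞) = ((⊤ : ℕ∞) : WithBot ℕ∞) := hx
      have := WithBot.coe_injective this
      exact ENat.natCast_ne_top d this
    | coe e₀ =>
      refine ⟨e₀, rfl, ?_⟩
      rw [← WithBot.coe_add] at hx
      have : ((d : ℕ∞) : WithBot ℕ∞) = (((e₀ : ℕ∞) + (h : ℕ∞) : ℕ∞) : WithBot ℕ∞) := hx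
      have := WithBot.coe_injective this
      exact_mod_cast this

section Relative

variable (B : Type u) [CommRing B] [LocCoh.IsGorensteinLocalRing B] (d : ℕ)
  (hd : ringKrullDim B = d) (A : Type u) [CommRing A] [IsNoetherianRing A] [IsLocalRing A]
  [Algebra B A] (hg : Function.Surjective (algebraMap B A))
  (M : Type u) [AddCommGroup M] [Module A M] [Module B M] [IsScalarTower B A M]
  [Module.Finite A M]

include hg in
theorem map_maximalIdeal : Ideal.map (algebraMap B A) (maximalIdeal B) = maximalIdeal A := by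
  have h1 : (maximalIdeal A).comap (algebraMap B A) = maximalIdeal B := by
    have := Ideal.comap_isMaximal_of_surjective (algebraMap B A) hg (K := maximalIdeal A)
    exact IsLocalRing.eq_maximalIdeal this
  rw [← h1, Ideal.map_comap_of_surjective _ hg]

include hd hg in
/-- dimension data for a prime of `A` and its contraction to `B`. -/
theorem dim_data (p : Ideal A) [p.IsPrime] :
    ∃ e₀ h : ℕ, ringKrullDim (A ⧸ p) = e₀ ∧ (p.comap (algebraMap B A)).height = h ∧
      d = e₀ + h := by
  haveI : LocCoh.IsCohenMacaulayLocalRing B := Groth.Agent.S0341.result B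
  have h1 := Groth.Agent.Lib.Helper33.Unmixed.ringKrullDim_eq_quotient_add_height B
    (p.comap (algebraMap B A))
  rw [hd, GorTransfer.ringKrullDim_quotient_comap (algebraMap B A) hg p] at h1
  obtain ⟨h, hh⟩ := ENat.ne_top_iff_exists.mp
    (Ideal.height_ne_top_of_isPrime (I := p.comap (algebraMap B A)))
  rw [← hh] at h1
  obtain ⟨e₀, he₀, hde⟩ := withBot_enat_decomp _ h d h1
  exact ⟨e₀, h, he₀, hh.symm, hde⟩

include hg in
theorem isGorensteinRing_of_local : LocCoh.IsGorensteinRing B :=
  ((Groth.Agent.S0345.result B).mp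
    (LocCoh.IsGorensteinLocalRing.exists_hasInjectiveDimensionLT (A := B))).1

include hd hg in
theorem torsExt_all_iff (J : Ideal A) (i : ℕ) (hi : i ≤ d) :
    (∀ (P : Ideal B) [P.IsPrime], ¬ J.comap (algebraMap B A) ≤ P →
      ExtLoc.TorsExt P.primeCompl B (d - i) M) ↔
    ∀ (p : Ideal A) [p.IsPrime], ¬ J ≤ p → ∀ j : ℕ,
      (j : WithBot ℕ∞) + ringKrullDim (A ⧸ p) = i →
      Subsingleton (LocCoh.H (maximalIdeal (Localization.AtPrime p)) j
        (LocalizedModule p.primeCompl M)) := by
  haveI : LocCoh.IsGorensteinRing B := isGorensteinRing_of_local B A hg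
  have hfin : Module.Finite B M := GorTransfer.finite_of_surjective B A hg M
  constructor
  · intro h p _ hJp j hj
    obtain ⟨e₀, h₀, he₀, hh, hde⟩ := dim_data B d hd A hg p
    rw [he₀] at hj
    have hj' : j + e₀ = i := by exact_mod_cast hj
    have hP : ¬ J.comap (algebraMap B A) ≤ p.comap (algebraMap B A) := fun hle => hJp (by
      have := Ideal.map_mono hle (f := algebraMap B A)
      rwa [Ideal.map_comap_of_surjective _ hg, Ideal.map_comap_of_surjective _ hg] at this)
    have h1 := h (p.comap (algebraMap B A)) hP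
    rw [GorTransfer.subsingleton_H_iff_comap B A hg M p j,
      GorLoc.subsingleton_H_atPrime_iff B M _ h₀ hh j (by omega)]
    have : h₀ - j = d - i := by omega
    rw [this]
    exact h1
  · intro h P _ hJP
    by_cases hker : RingHom.ker (algebraMap B A) ≤ P
    · have hPeq : (P.map (algebraMap B A)).comap (algebraMap B A) = P := by
        rw [Ideal.comap_map_of_surjective _ hg, ← RingHom.ker_eq_comap_bot,
          sup_eq_left.mpr hker]
      obtain ⟨p, hp, rfl⟩ : ∃ p : Ideal A, p.IsPrime ∧ p.comap (algebraMap B A) = P :=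
        ⟨P.map _, Ideal.map_isPrime_of_surjective hg hker, hPeq⟩
      have hJp : ¬ J ≤ p := fun hle => hJP (Ideal.comap_mono hle)
      obtain ⟨e₀, h₀, he₀, hh, hde⟩ := dim_data B d hd A hg p
      rcases Nat.lt_or_ge i e₀ with hie | hie
      · exact GorLoc.torsExt_of_gt B M _ h₀ hh (d - i) (by omega)
      · have h1 := h p hJp (i - e₀) (by
          rw [he₀]
          exact_mod_cast (by omega : (i - e₀) + e₀ = i))
        rw [GorTransfer.subsingleton_H_iff_comap B A hg M p (i - e₀),
          GorLoc.subsingleton_H_atPrime_iff B M _ h₀ hh (i - e₀) (by omega)] at h1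
        have : h₀ - (i - e₀) = d - i := by omega
        rw [this] at h1
        exact h1
    · apply GorLoc.torsExt_of_subsingleton B M P.primeCompl B _ (d - i)
      obtain ⟨s, hsker, hsP⟩ := SetLike.not_le_iff_exists.mp hker
      rw [LocalizedModule.subsingleton_iff]
      intro m
      refine ⟨s, hsP, ?_⟩
      rw [← algebraMap_smul A s m, (RingHom.mem_ker).mp hsker, zero_smul]

include hd hg in
/-- **Annihilators of local cohomology over a quotient of a Gorenstein local ring.** -/
theorem le_radical_annihilator_H_iff (J : Ideal A) (i : ℕ) :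
    J ≤ (Module.annihilator A (LocCoh.H (maximalIdeal A) i M)).radical ↔
    ∀ (p : Ideal A) [p.IsPrime], ¬ J ≤ p → ∀ j : ℕ,
      (j : WithBot ℕ∞) + ringKrullDim (A ⧸ p) = i →
      Subsingleton (LocCoh.H (maximalIdeal (Localization.AtPrime p)) j
        (LocalizedModule p.primeCompl M)) := by
  haveI : LocCoh.IsGorensteinRing B := isGorensteinRing_of_local B A hg
  have hfin : Module.Finite B M := GorTransfer.finite_of_surjective B A hg M
  obtain ⟨φ, hφ⟩ := Groth.Agent.S11614.result B A (maximalIdeal B) M i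
  have hmax := map_maximalIdeal B A hg
  revert φ
  rw [hmax]
  intro φ hφ
  have hL1 : J ≤ (Module.annihilator A (LocCoh.H (maximalIdeal A) i M)).radical ↔
      ∀ r ∈ J.comap (algebraMap B A), ∃ n : ℕ,
        ∀ y : LocCoh.H (maximalIdeal B) i M, r ^ n • y = 0 := by
    constructor
    · intro h r hr
      obtain ⟨n, hn⟩ := h (Ideal.mem_comap.mp hr)
      refine ⟨n, fun y => ?_⟩
      obtain ⟨x, rfl⟩ := φ.surjective y
      rw [← hφ, map_pow, Module.mem_annihilator.mp hn x, map_zero]
    · intro h a ha
      obtain ⟨r, rfl⟩ := hg a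
      obtain ⟨n, hn⟩ := h r (Ideal.mem_comap.mpr ha)
      refine ⟨n, ?_⟩
      rw [Module.mem_annihilator]
      intro x
      apply φ.injective
      rw [← map_pow, hφ, hn, map_zero]
  rw [hL1]
  rcases Nat.lt_or_ge d i with hdi | hdi
  · have hsub : Subsingleton (LocCoh.H (maximalIdeal B) i M) := by
      apply LC.subsingleton_of_supportDim_lt
      refine lt_of_le_of_lt (Module.supportDim_le_ringKrullDim _ _) ?_
      rw [hd]
      exact_mod_cast hdi
    constructor
    · intro _ p _ hJp j hj
      obtain ⟨e₀, h₀, he₀, hh, hde⟩ := dim_data B d hd A hg p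
      rw [he₀] at hj
      have hj' : j + e₀ = i := by exact_mod_cast hj
      rw [GorTransfer.subsingleton_H_iff_comap B A hg M p j]
      exact GorLoc.subsingleton_H_atPrime_of_gt B M _ h₀ hh j (by omega)
    · intro _ r _
      exact ⟨0, fun y => Subsingleton.elim _ _⟩
  · rw [pow_kill_H_iff B d hd M _ i hdi]
    exact torsExt_all_iff B d hd A hg M J i hdi

end Relative

end Groth.Agent.Lib.Helper41.GorAnn
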