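import Groth.Agent.Lib.Helper41.GorDual
import Groth.Agent.Lib.Helper41.ExtLoc
import Groth.Agent.Lib.Helper41.LCVanish
import Groth.Agent.S18865
import Groth.Agent.Lib.Helper33.Unmixed
import Groth.Agent.S0345

/-!
# Local cohomology at primes of a Gorenstein ring via `Ext(M,R)`

For a Gorenstein ring `R` (all `R_P` Gorenstein local), a finite module `M`, a prime `P` of height
`h` and `j ≤ h`: `H^j_{PR_P}(M_P) = 0 ↔ Ext^{h-j}_R(M,R)` is `P.primeCompl`-torsion.
Consequence: for `P ≤ P'` with `ht P' = ht P + k`, `H^{j+k}_{P'}(M_{P'}) = 0 → H^j_P(M_P) = 0`.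
-/

set_option autoImplicit false
universe u
open CategoryTheory CategoryTheory.Abelian IsLocalRing

namespace Groth.Agent.Lib.Helper41.GorLoc

open Groth.Agent.Lib.Helper41

variable (R : Type u) [CommRing R] [LocCoh.IsGorensteinRing R] (M : Type u) [AddCommGroup M]
  [Module R M] [Module.Finite R M]

theorem ringKrullDim_atPrime (P : Ideal R) [P.IsPrime] (h : ℕ) (hh : P.height = h) :
    ringKrullDim (Localization.AtPrime P) = h := by
  rw [IsLocalization.AtPrime.ringKrullDim_eq_height P, hh]
  rfl

theorem subsingleton_H_atPrime_iff (P : Ideal R) [P.IsPrime] (h : ℕ) (hh : P.height = h) (j : ℕ)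
    (hj : j ≤ h) :
    Subsingleton (LocCoh.H (maximalIdeal (Localization.AtPrime P)) j
      (LocalizedModule P.primeCompl M)) ↔ ExtLoc.TorsExt P.primeCompl R (h - j) M := by
  haveI := LocCoh.IsGorensteinRing.isGorensteinLocalRing_localization P
  have hd := ringKrullDim_atPrime R P h hh
  have h1 := GorDual.subsingleton_H_iff (Localization.AtPrime P) h hd
    (LocalizedModule P.primeCompl M) (h - j) (Nat.sub_le h j)
  rw [Nat.sub_sub_self hj] at h1
  rw [h1]
  exact ExtLoc.subsingleton_ext_iff_torsExt P.primeCompl R (h - j) M (Localization.AtPrime P)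
    (Algebra.linearMap R (Localization.AtPrime P))

theorem subsingleton_H_atPrime_of_gt (P : Ideal R) [P.IsPrime] (h : ℕ) (hh : P.height = h) (j : ℕ)
    (hj : h < j) :
    Subsingleton (LocCoh.H (maximalIdeal (Localization.AtPrime P)) j
      (LocalizedModule P.primeCompl M)) := by
  apply LC.subsingleton_of_supportDim_lt
  refine lt_of_le_of_lt (Module.supportDim_le_ringKrullDim _ _) ?_
  rw [ringKrullDim_atPrime R P h hh]
  exact_mod_cast hj

omit [Module.Finite R M] in
theorem torsExt_mono {S S' : Submonoid R} (hSS : S ≤ S') (N : Type u) [AddCommGroup N] [Module R N]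
    (k : ℕ) (h : ExtLoc.TorsExt S N k M) : ExtLoc.TorsExt S' N k M := by
  intro e
  obtain ⟨s, hs, h0⟩ := h e
  exact ⟨s, hSS hs, h0⟩

/-- **Core lemma**: nonvanishing of local cohomology propagates up along `P ≤ P'`. -/
theorem subsingleton_H_of_le (P P' : Ideal R) [P.IsPrime] [P'.IsPrime] (hPP' : P ≤ P')
    (h k : ℕ) (hh : P.height = h) (hh' : P'.height = (h + k : ℕ)) (j : ℕ)
    (hsub : Subsingleton (LocCoh.H (maximalIdeal (Localization.AtPrime P')) (j + k)
      (LocalizedModule P'.primeCompl M))) :
    Subsingleton (LocCoh.H (maximalIdeal (Localization.AtPrime P)) j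
      (LocalizedModule P.primeCompl M)) := by
  rcases Nat.lt_or_ge h j with hj | hj
  · exact subsingleton_H_atPrime_of_gt R M P h hh j hj
  · rw [subsingleton_H_atPrime_iff R M P h hh j hj]
    have h1 := (subsingleton_H_atPrime_iff R M P' (h + k) hh' (j + k) (by omega)).mp hsub
    have h2 : h + k - (j + k) = h - j := by omega
    rw [h2] at h1
    refine torsExt_mono R M ?_ R (h - j) h1
    intro s hs
    exact fun hsP => hs (hPP' hsP)

/-- Above the height of `P`, `Ext^k_R(M,R)` is `P.primeCompl`-torsion (injective dimension). -/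
theorem torsExt_of_gt (P : Ideal R) [P.IsPrime] (h : ℕ) (hh : P.height = h) (k : ℕ) (hk : h < k) :
    ExtLoc.TorsExt P.primeCompl R k M := by
  have := LocCoh.IsGorensteinRing.isGorensteinLocalRing_localization P
  rw [← ExtLoc.subsingleton_ext_iff_torsExt P.primeCompl R k M (Localization.AtPrime P)
    (Algebra.linearMap R (Localization.AtPrime P))]
  obtain ⟨n₀, hn₀⟩ :=
    LocCoh.IsGorensteinLocalRing.exists_hasInjectiveDimensionLT (A := Localization.AtPrime P)
  obtain ⟨r, -, hdim, hinj⟩ :=
    Groth.Agent.S0345.injDim_of_gorenstein_local (Localization.AtPrime P) n₀ hn₀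
  have hr : r = h := by
    have := ringKrullDim_atPrime R P h hh
    rw [hdim] at this
    exact_mod_cast this
  subst hr
  exact HasInjectiveDimensionLT.subsingleton _ (r + 1) k (by omega) _

omit [LocCoh.IsGorensteinRing R] in
/-- If `S⁻¹M = 0` then every `Ext^k_R(M,N)` is `S`-torsion. -/
theorem torsExt_of_subsingleton [IsNoetherianRing R] (S : Submonoid R) (N : Type u)
    [AddCommGroup N] [Module R N] (hM : Subsingleton (LocalizedModule S M)) (k : ℕ) :
    ExtLoc.TorsExt S N k M := by
  rw [ExtLoc.torsExt_iff, ExtLoc.vanExt_iff]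
  refine ⟨fun a b => ?_⟩
  have key : ∀ e : Ext.{u} (ModuleCat.of (Localization S) (LocalizedModule S M))
      (ModuleCat.of (Localization S) (LocalizedModule S N)) k, e = 0 := by
    intro e
    have h0 : 𝟙 (ModuleCat.of (Localization S) (LocalizedModule S M)) = 0 := by
      apply ModuleCat.hom_ext
      apply LinearMap.ext
      intro x
      exact Subsingleton.elim _ _
    rw [← Ext.mk₀_id_comp e, h0, Ext.mk₀_zero, Ext.zero_comp]
  rw [key a, key b]

end Groth.Agent.Lib.Helper41.GorLoc
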