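import Groth.Agent.Lib.Helper41.ExtLocB
import Groth.Agent.Lib.Helper41.GorAnn

/-!
# Annihilation of local cohomology at primes of a Gorenstein ring via `Ext(M,R)`
-/

set_option autoImplicit false
universe u
open CategoryTheory CategoryTheory.Abelian IsLocalRing

namespace Groth.Agent.Lib.Helper41.GorLocB

open Groth.Agent.Lib.Helper41

variable (R : Type u) [CommRing R] [LocCoh.IsGorensteinRing R] (M : Type u) [AddCommGroup M]
  [Module R M] [Module.Finite R M]

/-- If every element of `Ext^{h-j}_R(M,R)` is killed by `s * β` for some `s ∉ P` (`h = ht P`),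
then `β` kills `H^j_{PR_P}(M_P)`. -/
theorem smul_H_atPrime_eq_zero (P : Ideal R) [P.IsPrime] (h : ℕ) (hh : P.height = h) (j : ℕ)
    (hj : j ≤ h) (β : R) (hT : ExtLocB.TorsExtB P.primeCompl R β (h - j) M)
    (x : LocCoh.H (maximalIdeal (Localization.AtPrime P)) j (LocalizedModule P.primeCompl M)) :
    algebraMap R (Localization.AtPrime P) β • x = 0 := by
  haveI := LocCoh.IsGorensteinRing.isGorensteinLocalRing_localization P
  have hd := GorLoc.ringKrullDim_atPrime R P h hh
  obtain ⟨E, _, _, g, hg, hdual⟩ := GorAnn.exists_dual_equiv (Localization.AtPrime P) h hd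
  obtain ⟨ε⟩ := hdual (h - j) (Nat.sub_le h j) (LocalizedModule P.primeCompl M)
  rw [Nat.sub_sub_self hj] at ε
  apply ε.injective
  rw [map_smul, map_zero]
  have key := (GorAnn.smul_dual_eq_zero_iff g hg
    (Ext.{u} (ModuleCat.of (Localization.AtPrime P) (LocalizedModule P.primeCompl M))
      (ModuleCat.of (Localization.AtPrime P) (Localization.AtPrime P)) (h - j))
    (algebraMap R (Localization.AtPrime P) β)).mpr
    (fun e => ExtLocB.smul_ext_eq_zero_of_torsExtB P.primeCompl R β (h - j) M
      (Localization.AtPrime P) (Algebra.linearMap R (Localization.AtPrime P)) hT e)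
  exact key (ε x)

end Groth.Agent.Lib.Helper41.GorLocB
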