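import Groth.Agent.Lib.Helper41.HT
import Groth.Agent.Lib.Helper41.LCTorsion
import Mathlib.Algebra.Homology.DerivedCategory.Ext.EnoughInjectives

/-!
# `H^0_T`, `T`-torsion modules and vanishing of `H^i_T` on torsion modules
-/

set_option autoImplicit false
universe u
open CategoryTheory CategoryTheory.Limits Opposite CategoryTheory.Abelian

namespace Groth.Agent.Lib.Helper41.HTL

open Dual2

variable {R : Type u} [CommRing R]

section ev1

variable (J : Ideal R)

/-- Evaluation at `1` of a map `R/J → M`. -/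
noncomputable def ev1 (M : ModuleCat.{u} R) : Ext.{u} (ModuleCat.of R (R ⧸ J)) M 0 →ₗ[R] M where
  toFun e := (Ext.linearEquiv₀ (R := R) e).hom (Submodule.Quotient.mk 1)
  map_add' e e' := by rw [map_add]; rfl
  map_smul' r e := by rw [map_smul]; rfl

lemma ev1_mk₀ (M : ModuleCat.{u} R) (f : ModuleCat.of R (R ⧸ J) ⟶ M) :
    ev1 J M (Ext.mk₀ f) = f.hom (Submodule.Quotient.mk 1) := by
  have : Ext.linearEquiv₀ (R := R) (Ext.mk₀ f) = f := Ext.addEquiv₀.right_inv f
  change (Ext.linearEquiv₀ (R := R) (Ext.mk₀ f)).hom _ = _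
  rw [this]

lemma hom_ext_Q {M : ModuleCat.{u} R} {f g : ModuleCat.of R (R ⧸ J) ⟶ M}
    (h : f.hom (Submodule.Quotient.mk 1) = g.hom (Submodule.Quotient.mk 1)) : f = g := by
  apply ModuleCat.hom_ext
  apply LinearMap.ext
  intro x
  obtain ⟨x, rfl⟩ := Submodule.Quotient.mk_surjective _ x
  have hx : (Submodule.Quotient.mk x : R ⧸ J) = x • (Submodule.Quotient.mk 1) := by
    rw [← Submodule.Quotient.mk_smul, smul_eq_mul, mul_one]
  rw [hx, map_smul, map_smul, h]

lemma ev1_injective (M : ModuleCat.{u} R) : Function.Injective (ev1 J M) := by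
  intro e e' h
  obtain ⟨f, rfl⟩ := Ext.addEquiv₀.symm.surjective e
  obtain ⟨f', rfl⟩ := Ext.addEquiv₀.symm.surjective e'
  change ev1 J M (Ext.mk₀ f) = ev1 J M (Ext.mk₀ f') at h
  change Ext.mk₀ f = Ext.mk₀ f'
  rw [ev1_mk₀, ev1_mk₀] at h
  rw [hom_ext_Q J h]

lemma ev1_comp_mk₀ {M M' : ModuleCat.{u} R} (g : M ⟶ M') (e : Ext.{u} (ModuleCat.of R (R ⧸ J)) M 0) :
    ev1 J M' (e.comp (Ext.mk₀ g) (add_zero 0)) = g.hom (ev1 J M e) := by
  obtain ⟨f, rfl⟩ := Ext.addEquiv₀.symm.surjective e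
  change ev1 J M' ((Ext.mk₀ f).comp (Ext.mk₀ g) (add_zero 0)) = g.hom (ev1 J M (Ext.mk₀ f))
  rw [Ext.mk₀_comp_mk₀, ev1_mk₀, ev1_mk₀]
  rfl

lemma smul_ev1_eq_zero (M : ModuleCat.{u} R) (e : Ext.{u} (ModuleCat.of R (R ⧸ J)) M 0) (a : R)
    (ha : a ∈ J) : a • ev1 J M e = 0 := by
  obtain ⟨f, rfl⟩ := Ext.addEquiv₀.symm.surjective e
  change a • ev1 J M (Ext.mk₀ f) = 0
  rw [ev1_mk₀, ← map_smul, ← Submodule.Quotient.mk_smul, smul_eq_mul, mul_one,
    (Submodule.Quotient.mk_eq_zero _).2 ha, map_zero]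

/-- The map `R/J → M` sending `1` to an element killed by `J`. -/
noncomputable def ofTorsion (M : ModuleCat.{u} R) (m : M) (hm : ∀ a ∈ J, a • m = 0) :
    ModuleCat.of R (R ⧸ J) ⟶ M :=
  ModuleCat.ofHom (J.liftQ (LinearMap.toSpanSingleton R M m) (by
    intro a ha
    rw [LinearMap.mem_ker, LinearMap.toSpanSingleton_apply]
    exact hm a ha))

lemma ofTorsion_one (M : ModuleCat.{u} R) (m : M) (hm : ∀ a ∈ J, a • m = 0) :
    (ofTorsion J M m hm).hom (Submodule.Quotient.mk 1) = m := by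
  change J.liftQ (LinearMap.toSpanSingleton R M m) _ (Submodule.Quotient.mk 1) = m
  rw [Submodule.liftQ_apply, LinearMap.toSpanSingleton_apply, one_smul]

end ev1

variable (T : Set (PrimeSpectrum R))

lemma ev1_comp_proj (M : ModuleCat.{u} R) {J J' : IdealsIn T} (f : J ⟶ J') (e : Ext.{u} (Q T J') M 0) :
    ev1 J.obj M ((Ext.mk₀ (projM T f)).comp e (zero_add 0)) = ev1 J'.obj M e := by
  obtain ⟨g, rfl⟩ := Ext.addEquiv₀.symm.surjective e
  change ev1 J.obj M ((Ext.mk₀ (projM T f)).comp (Ext.mk₀ g) (zero_add 0)) = ev1 J'.obj M (Ext.mk₀ g)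
  rw [Ext.mk₀_comp_mk₀, ev1_mk₀, ev1_mk₀]
  rfl

/-- Powers of an object of `IdealsIn T`. -/
def powI (J : IdealsIn T) (n : ℕ) : IdealsIn T := ⟨J.obj ^ n, by
  intro p hp
  rcases Nat.eq_zero_or_pos n with rfl | hn
  · rw [pow_zero, Ideal.one_eq_top] at hp
    exact absurd (hp (Submodule.mem_top : (1 : R) ∈ (⊤ : Ideal R))) (p.isPrime.one_notMem)
  · apply J.property
    rw [PrimeSpectrum.zeroLocus_pow _ hn.ne'] at hp
    exact hp⟩

/-- The `T`-torsion submodule. -/
def torsT (M : Type u) [AddCommGroup M] [Module R M] : Submodule R M where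
  carrier := {m | ∃ J : IdealsIn T, ∀ a ∈ J.obj, a • m = 0}
  zero_mem' := ⟨topI T, fun a _ => smul_zero a⟩
  add_mem' := by
    rintro m m' ⟨J, hJ⟩ ⟨J', hJ'⟩
    exact ⟨infI T J J', fun a ha => by rw [smul_add, hJ a ha.1, hJ' a ha.2, add_zero]⟩
  smul_mem' := by
    rintro c m ⟨J, hJ⟩
    exact ⟨J, fun a ha => by rw [smul_comm, hJ a ha, smul_zero]⟩

lemma mem_torsT_iff {M : Type u} [AddCommGroup M] [Module R M] (m : M) :
    m ∈ torsT T M ↔ ∃ J : IdealsIn T, ∀ a ∈ J.obj, a • m = 0 := Iff.rfl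

/-- `M` is `T`-torsion. -/
def IsTorsT (M : Type u) [AddCommGroup M] [Module R M] : Prop :=
  ∀ m : M, ∃ J : IdealsIn T, ∀ a ∈ J.obj, a • m = 0

lemma isTorsT_torsT (M : Type u) [AddCommGroup M] [Module R M] : IsTorsT T (torsT T M) := by
  rintro ⟨m, J, hJ⟩
  exact ⟨J, fun a ha => Subtype.ext (hJ a ha)⟩

lemma IsTorsT.of_surjective {M N : Type u} [AddCommGroup M] [Module R M] [AddCommGroup N] [Module R N]
    (hM : IsTorsT T M) (f : M →ₗ[R] N) (hf : Function.Surjective f) : IsTorsT T N := by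
  intro y
  obtain ⟨x, rfl⟩ := hf y
  obtain ⟨J, hJ⟩ := hM x
  exact ⟨J, fun a ha => by rw [← map_smul, hJ a ha, map_zero]⟩

lemma exists_smul_eq_zero_of_fg {N : Type u} [AddCommGroup N] [Module R N]
    (S : Submodule R N) (hS : S.FG) (hle : S ≤ torsT T N) :
    ∃ J : IdealsIn T, ∀ a ∈ J.obj, ∀ y ∈ S, a • y = 0 := by
  induction S, hS using Submodule.fg_induction with
  | singleton y =>
    obtain ⟨J, hJ⟩ := hle (Submodule.mem_span_singleton_self y)
    refine ⟨J, fun a ha z hz => ?_⟩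
    obtain ⟨r, rfl⟩ := Submodule.mem_span_singleton.mp hz
    rw [smul_comm, hJ a ha, smul_zero]
  | sup S₁ S₂ _ _ h₁ h₂ =>
    obtain ⟨J₁, hJ₁⟩ := h₁ (le_sup_left.trans hle)
    obtain ⟨J₂, hJ₂⟩ := h₂ (le_sup_right.trans hle)
    refine ⟨infI T J₁ J₂, fun a ha z hz => ?_⟩
    obtain ⟨y₁, hy₁, y₂, hy₂, rfl⟩ := Submodule.mem_sup.mp hz
    rw [smul_add, hJ₁ a ha.1 y₁ hy₁, hJ₂ a ha.2 y₂ hy₂, add_zero]

/-- The canonical map `H^0_T(M) → M`. -/
noncomputable def toMod (M : ModuleCat.{u} R) : HTobj T 0 M →ₗ[R] M :=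
  descH (fun J => ev1 J.obj M) (fun _ _ f e => ev1_comp_proj T M f e)

lemma toMod_ιH (M : ModuleCat.{u} R) (J : IdealsIn T) (e : Ext.{u} (Q T J) M 0) :
    toMod T M (ιH T 0 M J e) = ev1 J.obj M e := descH_ιH _ _ J e

lemma toMod_injective (M : ModuleCat.{u} R) : Function.Injective (toMod T M) := by
  rw [injective_iff_map_eq_zero]
  intro x hx
  obtain ⟨J, e, rfl⟩ := exists_rep x
  rw [toMod_ιH] at hx
  have : e = 0 := ev1_injective J.obj M (by rw [hx, map_zero])
  rw [this, map_zero]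

lemma mem_range_toMod_iff (M : ModuleCat.{u} R) (m : M) :
    m ∈ LinearMap.range (toMod T M) ↔ ∃ J : IdealsIn T, ∀ a ∈ J.obj, a • m = 0 := by
  constructor
  · rintro ⟨x, rfl⟩
    obtain ⟨J, e, rfl⟩ := exists_rep x
    refine ⟨J, fun a ha => ?_⟩
    rw [toMod_ιH]
    exact smul_ev1_eq_zero J.obj M e a ha
  · rintro ⟨J, hJ⟩
    refine ⟨ιH T 0 M J (Ext.mk₀ (ofTorsion J.obj M m hJ)), ?_⟩
    rw [toMod_ιH, ev1_mk₀, ofTorsion_one]

lemma toMod_naturality {M M' : ModuleCat.{u} R} (g : M ⟶ M') (x : HTobj T 0 M) :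
    toMod T M' (((localCohomology.ofDiagram.{u, u} (idealsInDiagram T) 0).map g).hom x) =
      g.hom (toMod T M x) := by
  obtain ⟨J, e, rfl⟩ := exists_rep x
  rw [map_ιH, toMod_ιH, toMod_ιH, ev1_comp_mk₀]

/-- `H^i_T` of an injective module vanishes in positive degrees. -/
theorem subsingleton_of_injective (M : ModuleCat.{u} R) [Injective M] (i : ℕ) (hi : 0 < i) :
    Subsingleton (HTobj T i M) := by
  refine ⟨fun x y => ?_⟩
  obtain ⟨J, e, rfl⟩ := exists_rep x
  obtain ⟨J', e', rfl⟩ := exists_rep y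
  obtain ⟨k, rfl⟩ : ∃ k, i = k + 1 := ⟨i - 1, by omega⟩
  rw [Ext.eq_zero_of_injective e, Ext.eq_zero_of_injective e', map_zero, map_zero]

/-- `r • 𝟙` acts on `H_T` by `r`. -/
lemma map_smul_id (i : ℕ) (M : ModuleCat.{u} R) (r : R) (x : HTobj T i M) :
    ((localCohomology.ofDiagram.{u, u} (idealsInDiagram T) i).map (r • 𝟙 M)).hom x = r • x := by
  obtain ⟨J, e, rfl⟩ := exists_rep x
  rw [map_ιH, Ext.mk₀_smul, Ext.comp_smul, Ext.comp_mk₀_id, map_smul]

/-- Every element of `ιH J` is killed by `J`. -/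
lemma smul_ιH_eq_zero (i : ℕ) (M : ModuleCat.{u} R) (J : IdealsIn T) (e : Ext.{u} (Q T J) M i)
    (a : R) (ha : a ∈ J.obj) : a • ιH T i M J e = 0 := by
  rw [← map_smul]
  have h0 : a • e = 0 := by
    have h1 : a • e = (Ext.mk₀ (a • 𝟙 (Q T J))).comp e (zero_add i) := by
      rw [Ext.mk₀_smul, Ext.smul_comp, Ext.mk₀_id_comp]
    have h2 : a • 𝟙 (Q T J) = 0 := by
      apply ModuleCat.hom_ext
      apply LinearMap.ext
      intro y
      obtain ⟨y, rfl⟩ := Submodule.Quotient.mk_surjective _ y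
      change a • (Submodule.Quotient.mk y : R ⧸ J.obj) = 0
      rw [← Submodule.Quotient.mk_smul, Submodule.Quotient.mk_eq_zero, smul_eq_mul]
      exact J.obj.mul_mem_right y ha
    rw [h1, h2, Ext.mk₀_zero, Ext.zero_comp]
  rw [h0, map_zero]

/-- `H^i_T(M)` is `T`-torsion. -/
lemma isTorsT_H (i : ℕ) (M : ModuleCat.{u} R) : IsTorsT T (HTobj T i M) := by
  intro x
  obtain ⟨J, e, rfl⟩ := exists_rep x
  exact ⟨J, fun a ha => smul_ιH_eq_zero T i M J e a ha⟩

section Noeth

variable [IsNoetherianRing R]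

lemma powTorsion_le_torsT (J : IdealsIn T) (E : Type u) [AddCommGroup E] [Module R E] :
    LC.powTorsion J.obj E ≤ torsT T E := by
  rintro m ⟨n, hn⟩
  exact ⟨powI T J n, hn⟩

/-- Over a Noetherian ring, the `T`-torsion submodule of an injective module satisfies Baer's
criterion. -/
theorem baer_torsT (E : Type u) [AddCommGroup E] [Module R E] [Module.Injective R E] :
    Module.Baer R (torsT T E) := by
  intro 𝔞 g
  obtain ⟨J, hJ⟩ := exists_smul_eq_zero_of_fg T
    (Submodule.map (torsT T E).subtype (LinearMap.range g))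
    (by
      have : (⊤ : Submodule R 𝔞).FG := Module.finite_def.1 inferInstance
      rw [LinearMap.range_eq_map]
      exact (this.map g).map _)
    (by
      rintro _ ⟨y, -, rfl⟩
      exact y.2)
  let g₁ : 𝔞 →ₗ[R] LC.powTorsion J.obj E :=
    LinearMap.codRestrict (LC.powTorsion J.obj E) ((torsT T E).subtype ∘ₗ g) (fun x => by
      refine ⟨1, fun a ha => ?_⟩
      rw [pow_one] at ha
      exact hJ a ha _ ⟨g x, ⟨x, rfl⟩, rfl⟩)
  obtain ⟨g₁', hg₁'⟩ := LC.baer_powTorsion J.obj E 𝔞 g₁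
  refine ⟨(Submodule.inclusion (powTorsion_le_torsT T J E)) ∘ₗ g₁', fun x hx => ?_⟩
  apply Subtype.ext
  rw [LinearMap.comp_apply, Submodule.coe_inclusion, hg₁' x hx]
  rfl

/-- Over a Noetherian ring, `Γ_T(E)` is an injective object when `E` is. -/
theorem injective_torsT (E : ModuleCat.{u} R) [Injective E] :
    Injective (ModuleCat.of R (torsT T E)) := by
  have : Module.Injective R E := Module.injective_module_of_injective_object R E
  have := (baer_torsT T E).injective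
  exact Module.injective_object_of_injective_module R (torsT T E)

/-- A `T`-torsion module embeds in a `T`-torsion injective module. -/
theorem exists_torsion_injective_embedding (M : ModuleCat.{u} R) (hM : IsTorsT T M) :
    ∃ (E : ModuleCat.{u} R) (_ : Injective E) (_ : IsTorsT T E) (f : M ⟶ E), Mono f := by
  let E₀ := Injective.under M
  let ι₀ : M ⟶ E₀ := Injective.ι M
  have hι : Function.Injective ι₀.hom := (ModuleCat.mono_iff_injective _).1 inferInstance
  refine ⟨ModuleCat.of R (torsT T E₀), injective_torsT T E₀, isTorsT_torsT T E₀,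
    ModuleCat.ofHom (LinearMap.codRestrict (torsT T E₀) ι₀.hom (fun m => ?_)), ?_⟩
  · obtain ⟨J, hJ⟩ := hM m
    exact ⟨J, fun a ha => by rw [← map_smul, hJ a ha, map_zero]⟩
  · rw [ModuleCat.mono_iff_injective]
    intro x y hxy
    apply hι
    exact congrArg Subtype.val hxy

/-- `H^0_T(E) → H^0_T(E'')` is surjective when `E → E''` is surjective and `E` is torsion. -/
lemma map_surjective_zero_of_torsion {E E'' : ModuleCat.{u} R} (g : E ⟶ E'')
    (hg : Function.Surjective g.hom) (hE : IsTorsT T E) :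
    Function.Surjective ((localCohomology.ofDiagram.{u, u} (idealsInDiagram T) 0).map g).hom := by
  intro y
  obtain ⟨z, hz⟩ := hg (toMod T E'' y)
  obtain ⟨x, hx⟩ := (mem_range_toMod_iff T E z).2 (hE z)
  refine ⟨x, toMod_injective T E'' ?_⟩
  rw [toMod_naturality, hx, hz]

/-- Over a Noetherian ring, higher `H_T` of a `T`-torsion module vanishes. -/
theorem subsingleton_of_isTorsT (i : ℕ) (hi : 0 < i) :
    ∀ (M : ModuleCat.{u} R), IsTorsT T M → Subsingleton (HTobj T i M) := by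
  induction i using Nat.strong_induction_on with
  | _ i ih =>
    intro M hM
    obtain ⟨E, hEinj, hEtor, f, hf⟩ := exists_torsion_injective_embedding T M hM
    have hS := LC.shortExact_of_mono f
    set S := ShortComplex.mk f (cokernel.π f) (cokernel.condition f) with hSdef
    have hπ : Function.Surjective (cokernel.π f).hom := (ModuleCat.epi_iff_surjective _).1 inferInstance
    have hCtor : IsTorsT T ↑(cokernel f) := hEtor.of_surjective T (cokernel.π f).hom hπ
    obtain ⟨j, rfl⟩ : ∃ j, i = j + 1 := ⟨i - 1, by omega⟩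
    have hE0 : Subsingleton (HTobj T (j + 1) E) := subsingleton_of_injective T E (j + 1) (by omega)
    refine ⟨fun x y => ?_⟩
    have key : ∀ x : HTobj T (j + 1) M, x = 0 := by
      intro x
      have hx0 : ((localCohomology.ofDiagram.{u, u} (idealsInDiagram T) (j + 1)).map S.f).hom x = 0 :=
        Subsingleton.elim _ _
      obtain ⟨x₃, hx₃⟩ := exact₁ T hS j (j + 1) rfl x hx0
      by_cases hj : j = 0
      · subst hj
        obtain ⟨x₂, rfl⟩ := map_surjective_zero_of_torsion T (cokernel.π f) hπ hEtor x₃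
        rw [← hx₃]
        exact δ_map_eq_zero T hS 0 1 rfl x₂
      · have : Subsingleton (HTobj T j (cokernel f)) :=
          ih j (by omega) (by omega) (cokernel f) hCtor
        have hx30 : x₃ = 0 := Subsingleton.elim _ _
        rw [← hx₃, hx30, map_zero]
    rw [key x, key y]

end Noeth

end Groth.Agent.Lib.Helper41.HTL
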