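import Groth.Agent.Lib.Helper41.LCFaltings
import Mathlib.RingTheory.Ideal.AssociatedPrime.Finiteness
import Mathlib.RingTheory.Localization.Finiteness

/-!
# Finiteness of associated primes of the first non-finite local cohomology module
(Brodmann–Lashgari) and Faltings' local-global principle for finiteness of local cohomology.
-/

set_option autoImplicit false
universe u
open CategoryTheory CategoryTheory.Limits Opposite CategoryTheory.Abelian

namespace Groth.Agent.Lib.Helper41.LC

variable {R : Type u} [CommRing R]

/-- The middle term of an exact sequence with finite ends is finite (Noetherian ring). -/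
lemma finite_of_exact [IsNoetherianRing R] {A B C : Type u} [AddCommGroup A] [Module R A]
    [AddCommGroup B] [Module R B] [AddCommGroup C] [Module R C] (f : A →ₗ[R] B) (g : B →ₗ[R] C)
    (hfg : Function.Exact f g) (_hA : Module.Finite R A) (_hC : Module.Finite R C) :
    Module.Finite R B := by
  have hC : IsNoetherian R C := isNoetherian_of_isNoetherianRing_of_finite R C
  refine ⟨Submodule.fg_of_fg_map_of_fg_inf_ker g (IsNoetherian.noetherian _) ?_⟩
  rw [top_inf_eq, hfg.linearMap_ker_eq, LinearMap.range_eq_map]
  exact Module.Finite.fg_top.map f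

/-- The algebraic heart of the Brodmann–Lashgari argument. -/
lemma finite_associatedPrimes_quotient_of_exact [IsNoetherianRing R]
    {A Hq H : Type u} [AddCommGroup A] [Module R A] [AddCommGroup Hq] [Module R Hq]
    [AddCommGroup H] [Module R H]
    (g : A →ₗ[R] Hq) (δ : Hq →ₗ[R] H) (x : R)
    (hgδ : Function.Exact g δ)
    (hδx : ∀ h : H, x • h = 0 ↔ h ∈ LinearMap.range δ)
    (_hA : Module.Finite R A)
    (htors : ∀ h : H, ∃ m : ℕ, x ^ m • h = 0)
    (N : Submodule R H) (hN : N.FG) (hxN : ∀ n ∈ N, x • n = 0)
    (IH : ∀ N' : Submodule R Hq, N'.FG → (associatedPrimes R (Hq ⧸ N')).Finite) :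
    (associatedPrimes R (H ⧸ N)).Finite := by
  have hNle : N ≤ LinearMap.range δ := fun n hn => (hδx n).1 (hxN n hn)
  -- the preimage of `N`
  have hN'fg : (N.comap δ).FG := by
    refine Submodule.fg_of_fg_map_of_fg_inf_ker δ ?_ ?_
    · rw [Submodule.map_comap_eq_of_le hNle]
      exact hN
    · have : N.comap δ ⊓ LinearMap.ker δ = LinearMap.ker δ :=
        inf_eq_right.2 (LinearMap.ker_le_comap δ)
      rw [this, hgδ.linearMap_ker_eq, LinearMap.range_eq_map]
      exact Module.Finite.fg_top.map g
  have hIH := IH (N.comap δ) hN'fg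
  -- the induced injection
  let δbar : (Hq ⧸ N.comap δ) →ₗ[R] (H ⧸ N) := (N.comap δ).mapQ N δ le_rfl
  have hδbar_inj : Function.Injective δbar := by
    rw [← LinearMap.ker_eq_bot, Submodule.ker_mapQ, Submodule.mkQ_map_self]
  -- multiplication by `x` from `H/N` to `H`
  have hNker : N ≤ LinearMap.ker (LinearMap.lsmul R H x) := fun n hn => by
    rw [LinearMap.mem_ker, LinearMap.lsmul_apply]
    exact hxN n hn
  let mulx : (H ⧸ N) →ₗ[R] H := N.liftQ (LinearMap.lsmul R H x) hNker
  have hmulx : ∀ y : H, mulx (N.mkQ y) = x • y := fun y => rfl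
  -- the `x`-torsion of `H/N`
  let T : Submodule R (H ⧸ N) := LinearMap.ker (LinearMap.lsmul R (H ⧸ N) x)
  have hT : ∀ t : H ⧸ N, t ∈ T ↔ x • t = 0 := fun t => by
    rw [LinearMap.mem_ker, LinearMap.lsmul_apply]
  have hmulxT : ∀ t ∈ T, mulx t ∈ N := by
    intro t ht
    obtain ⟨y, rfl⟩ := N.mkQ_surjective t
    rw [hmulx]
    have := (hT _).1 ht
    rw [← map_smul, Submodule.mkQ_apply, Submodule.Quotient.mk_eq_zero] at this
    exact this
  let φ : T →ₗ[R] N := LinearMap.codRestrict N (mulx.comp T.subtype) (fun t => hmulxT t t.2)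
  have hδbarT : ∀ z, δbar z ∈ T := by
    intro z
    obtain ⟨w, rfl⟩ := (N.comap δ).mkQ_surjective z
    rw [hT]
    change x • N.mkQ (δ w) = 0
    rw [← map_smul, (hδx (δ w)).2 ⟨w, rfl⟩, map_zero]
  let δT : (Hq ⧸ N.comap δ) →ₗ[R] T := LinearMap.codRestrict T δbar hδbarT
  have hδT_inj : Function.Injective δT := fun a b hab => hδbar_inj (congrArg Subtype.val hab)
  have hexact : Function.Exact δT φ := by
    intro t
    constructor
    · intro ht
      obtain ⟨y, hy⟩ := N.mkQ_surjective (t : H ⧸ N)
      have h0 : mulx (t : H ⧸ N) = 0 := congrArg Subtype.val ht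
      rw [← hy, hmulx] at h0
      obtain ⟨w, hw⟩ := (hδx y).1 h0
      refine ⟨(N.comap δ).mkQ w, Subtype.ext ?_⟩
      change N.mkQ (δ w) = (t : H ⧸ N)
      rw [hw, hy]
    · rintro ⟨z, rfl⟩
      obtain ⟨w, rfl⟩ := (N.comap δ).mkQ_surjective z
      apply Subtype.ext
      change mulx (N.mkQ (δ w)) = 0
      rw [hmulx]
      exact (hδx (δ w)).2 ⟨w, rfl⟩
  have hAssT : associatedPrimes R T ⊆ associatedPrimes R (Hq ⧸ N.comap δ) ∪ associatedPrimes R N :=
    associatedPrimes.subset_union_of_exact hδT_inj hexact
  have hNfin : Module.Finite R N := Module.Finite.iff_fg.2 hN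
  have hfinT : (associatedPrimes R T).Finite :=
    (hIH.union (associatedPrimes.finite R N)).subset hAssT
  -- every associated prime of `H/N` is an associated prime of `T`
  refine hfinT.subset ?_
  intro p hp
  obtain ⟨hpprime, q, hq⟩ := (isAssociatedPrime_iff).1 hp
  obtain ⟨y, rfl⟩ := N.mkQ_surjective q
  obtain ⟨m, hm⟩ := htors y
  have hxm : x ^ m ∈ p := by
    rw [hq, Submodule.mem_colon_singleton, Submodule.mem_bot, ← map_smul, hm, map_zero]
  have hxp : x ∈ p := hpprime.mem_of_pow_mem m hxm
  have hqT : N.mkQ y ∈ T := by
    rw [hT]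
    have := hxp
    rw [hq, Submodule.mem_colon_singleton, Submodule.mem_bot] at this
    exact this
  refine (isAssociatedPrime_iff).2 ⟨hpprime, ⟨N.mkQ y, hqT⟩, ?_⟩
  rw [hq]
  ext r
  simp only [Submodule.mem_colon_singleton, Submodule.mem_bot]
  constructor
  · intro h
    exact Subtype.ext h
  · intro h
    exact congrArg Subtype.val h


/-- **Brodmann–Lashgari**: if `H^j_I(M)` is finite for all `j < i` and `N ⊆ H^i_I(M)` is a finitely
generated submodule, then `H^i_I(M)/N` has only finitely many associated primes. -/
theorem finite_associatedPrimes_H_quotient [IsNoetherianRing R] (I : Ideal R) (i : ℕ) :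
    ∀ (M : Type u) [AddCommGroup M] [Module R M] [Module.Finite R M],
      (∀ j < i, Module.Finite R ((localCohomology I j).obj (ModuleCat.of R M))) →
      ∀ N : Submodule R ((localCohomology I i).obj (ModuleCat.of R M)), N.FG →
        (associatedPrimes R (((localCohomology I i).obj (ModuleCat.of R M)) ⧸ N)).Finite := by
  induction i with
  | zero =>
    intro M _ _ _ _ N _
    have := finite_zero I M
    exact associatedPrimes.finite R _
  | succ i ih =>
    -- the torsion-free case
    have key : ∀ (M : Type u) [AddCommGroup M] [Module R M] [Module.Finite R M],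
        powTorsion I M = ⊥ →
        (∀ j < i + 1, Module.Finite R ((localCohomology I j).obj (ModuleCat.of R M))) →
        ∀ N : Submodule R ((localCohomology I (i + 1)).obj (ModuleCat.of R M)), N.FG →
          (associatedPrimes R (((localCohomology I (i + 1)).obj (ModuleCat.of R M)) ⧸ N)).Finite := by
      intro M _ _ _ hΓ hfin N hN
      obtain ⟨x₀, hx₀I, hreg₀⟩ := exists_isSMulRegular_mem I M hΓ
      obtain ⟨k, hk⟩ := exists_pow_smul_eq_zero_of_fg I
        (isTorsion_H I (i + 1) (ModuleCat.of R M)) N hN
      have hxk : x₀ ^ (k + 1) ∈ I ^ k := by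
        rw [pow_succ]
        exact Ideal.mul_mem_right _ _ (Ideal.pow_mem_pow hx₀I k)
      have hxI : x₀ ^ (k + 1) ∈ I := by
        rw [pow_succ]
        exact Ideal.mul_mem_left _ _ hx₀I
      have hreg : IsSMulRegular M (x₀ ^ (k + 1)) := hreg₀.pow (k + 1)
      set x := x₀ ^ (k + 1) with hx
      have hS := hreg.smulShortComplex_shortExact (M := ModuleCat.of R M)
      have hfinA : Module.Finite R ((localCohomology I i).obj (ModuleCat.of R M)) :=
        hfin i (by omega)
      have hmapf : ∀ h : (localCohomology I (i + 1)).obj (ModuleCat.of R M),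
          ((localCohomology I (i + 1)).map ((ModuleCat.of R M).smulShortComplex x).f).hom h =
            x • h := by
        intro h
        change ((localCohomology I (i + 1)).map (x • 𝟙 (ModuleCat.of R M))).hom h = x • h
        rw [map_smul_id]
      refine finite_associatedPrimes_quotient_of_exact
        (A := (localCohomology I i).obj (ModuleCat.of R M))
        (Hq := (localCohomology I i).obj ((ModuleCat.of R M).smulShortComplex x).X₃)
        ((localCohomology I i).map ((ModuleCat.of R M).smulShortComplex x).g).hom
        (δ I hS i (i + 1) rfl) x ?_ ?_ hfinA ?_ N hN (fun n hn => hk x hxk n hn) ?_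
      · intro w
        constructor
        · intro hw
          exact exact₃ I hS i (i + 1) rfl w hw
        · rintro ⟨v, rfl⟩
          exact δ_map_eq_zero I hS i (i + 1) rfl v
      · intro h
        constructor
        · intro hh
          exact exact₁ I hS i (i + 1) rfl h ((hmapf h).trans hh)
        · rintro ⟨w, rfl⟩
          exact (hmapf _).symm.trans (map_δ_eq_zero I hS i (i + 1) rfl w)
      · intro h
        obtain ⟨m, hm⟩ := isTorsion_H I (i + 1) (ModuleCat.of R M) h
        exact ⟨m, hm _ (Ideal.pow_mem_pow hxI m)⟩
      · have hfin' : ∀ j < i, Module.Finite R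
            ((localCohomology I j).obj (ModuleCat.of R (QuotSMulTop x M))) := by
          intro j hj
          have h1 : Module.Finite R ((localCohomology I j).obj (ModuleCat.of R M)) :=
            hfin j (by omega)
          have h2 : Module.Finite R ((localCohomology I (j + 1)).obj (ModuleCat.of R M)) :=
            hfin (j + 1) (by omega)
          refine finite_of_exact
            (A := (localCohomology I j).obj (ModuleCat.of R M))
            (C := (localCohomology I (j + 1)).obj (ModuleCat.of R M))
            ((localCohomology I j).map ((ModuleCat.of R M).smulShortComplex x).g).hom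
            (δ I hS j (j + 1) rfl) ?_ h1 h2
          intro w
          constructor
          · intro hw
            exact exact₃ I hS j (j + 1) rfl w hw
          · rintro ⟨v, rfl⟩
            exact δ_map_eq_zero I hS j (j + 1) rfl v
        exact ih (QuotSMulTop x M) hfin'
    -- the general case
    intro M _ _ _ hfin N hN
    have hS := subQuotSC_shortExact (powTorsion I M)
    have hΓ := powTorsion_quotient_eq_bot I M
    have hvan : ∀ j, 0 < j →
        Subsingleton ((localCohomology I j).obj (ModuleCat.of R (powTorsion I M))) :=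
      fun j hj => subsingleton_of_isTorsion I j hj _ (isTorsion_powTorsion I M)
    have hbij : ∀ j, 0 < j →
        Function.Bijective ((localCohomology I j).map (subQuotSC (powTorsion I M)).g).hom :=
      fun j hj => ⟨map_g_injective_of_subsingleton I hS j (hvan j hj),
        map_g_surjective_of_subsingleton I hS j (hvan (j + 1) (by omega))⟩
    have hfin' : ∀ j < i + 1, Module.Finite R
        ((localCohomology I j).obj (ModuleCat.of R (M ⧸ powTorsion I M))) := by
      intro j hj
      rcases Nat.eq_zero_or_pos j with rfl | hjpos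
      · exact finite_zero I _
      · have h1 : Module.Finite R ((localCohomology I j).obj (subQuotSC (powTorsion I M)).X₂) :=
          hfin j hj
        exact Module.Finite.of_surjective
          ((localCohomology I j).map (subQuotSC (powTorsion I M)).g).hom (hbij j hjpos).2
    let e : (localCohomology I (i + 1)).obj (ModuleCat.of R M) ≃ₗ[R]
        (localCohomology I (i + 1)).obj (ModuleCat.of R (M ⧸ powTorsion I M)) :=
      LinearEquiv.ofBijective
        ((localCohomology I (i + 1)).map (subQuotSC (powTorsion I M)).g).hom (hbij (i + 1) (by omega))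
    have hfinal := key (M ⧸ powTorsion I M) hΓ hfin' (N.map (e : _ →ₗ[R] _)) (hN.map _)
    rw [← LinearEquiv.AssociatedPrimes.eq (Submodule.Quotient.equiv N (N.map (e : _ →ₗ[R] _)) e rfl)]
      at hfinal
    exact hfinal


/-- If the localization at `p` of an `I`-power-torsion module `X` is finite over `R_p`, then a
fixed power of `I` kills `X` locally at `p`. -/
lemma exists_pow_smul_eq_zero_locally (I p : Ideal R) [p.IsPrime] (X : Type u)
    [AddCommGroup X] [Module R X] (hX : IsTorsion I X)
    (hfin : Module.Finite (Localization.AtPrime p) (LocalizedModule p.primeCompl X)) :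
    ∃ k : ℕ, ∀ r ∈ I ^ k, ∀ y : X, ∃ s : R, s ∉ p ∧ s • r • y = 0 := by
  have htors : IsTorsion (I.map (algebraMap R (Localization.AtPrime p)))
      (LocalizedModule p.primeCompl X) := by
    intro z
    induction z using LocalizedModule.induction_on with
    | h y s =>
      obtain ⟨k, hk⟩ := hX y
      refine ⟨k, fun a ha => ?_⟩
      rw [← Ideal.map_pow] at ha
      refine Submodule.span_induction (p := fun a _ => a • LocalizedModule.mk y s = 0)
        ?_ ?_ ?_ ?_ ha
      · rintro _ ⟨r, hr, rfl⟩
        rw [algebraMap_smul, LocalizedModule.smul'_mk, hk r hr, LocalizedModule.zero_mk]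
      · exact zero_smul _ _
      · intro a b _ _ ha hb
        rw [add_smul, ha, hb, add_zero]
      · intro c a _ ha
        rw [smul_eq_mul, mul_smul, ha, smul_zero]
  obtain ⟨k, hk⟩ := exists_pow_smul_eq_zero_of_fg _ htors ⊤ Module.Finite.fg_top
  refine ⟨k, fun r hr y => ?_⟩
  have hr' : algebraMap R (Localization.AtPrime p) r ∈
      (I.map (algebraMap R (Localization.AtPrime p))) ^ k := by
    rw [← Ideal.map_pow]
    exact Ideal.mem_map_of_mem _ hr
  have h0 := hk _ hr' (LocalizedModule.mk y (1 : p.primeCompl)) trivial
  rw [algebraMap_smul, LocalizedModule.smul'_mk,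
    ← LocalizedModule.zero_mk (1 : p.primeCompl), LocalizedModule.mk_eq] at h0
  obtain ⟨u, hu⟩ := h0
  rw [smul_zero, smul_zero, one_smul] at hu
  exact ⟨u, u.2, hu⟩

/-- **Faltings' local-global principle** for the finiteness of local cohomology. -/
theorem finite_H_of_locally_finite [IsNoetherianRing R] (I : Ideal R) (M : Type u) [AddCommGroup M]
    [Module R M] [Module.Finite R M] (n : ℕ)
    (hloc : ∀ (p : Ideal R) [p.IsPrime], ∀ i ≤ n, Module.Finite (Localization.AtPrime p)
      (LocalizedModule p.primeCompl ((localCohomology I i).obj (ModuleCat.of R M)))) :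
    ∀ i ≤ n, Module.Finite R ((localCohomology I i).obj (ModuleCat.of R M)) := by
  induction n with
  | zero =>
    intro i hi
    obtain rfl : i = 0 := by omega
    exact finite_zero I M
  | succ n ih =>
    have hlow : ∀ i ≤ n, Module.Finite R ((localCohomology I i).obj (ModuleCat.of R M)) :=
      ih (fun p _ i hi => hloc p i (by omega))
    -- associated primes of the top module
    have hAss0 := finite_associatedPrimes_H_quotient I (n + 1) M (fun j hj => hlow j (by omega))
      ⊥ Submodule.fg_bot
    have hAss : (associatedPrimes R ((localCohomology I (n + 1)).obj (ModuleCat.of R M))).Finite := by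
      rw [LinearEquiv.AssociatedPrimes.eq (Submodule.quotEquivOfEqBot ⊥ rfl)] at hAss0
      exact hAss0
    have hk : ∀ p : Ideal R, p ∈ associatedPrimes R ((localCohomology I (n + 1)).obj (ModuleCat.of R M)) →
        ∃ k : ℕ, ∀ r ∈ I ^ k, ∀ y : (localCohomology I (n + 1)).obj (ModuleCat.of R M),
          ∃ s : R, s ∉ p ∧ s • r • y = 0 := by
      intro p hp
      have : p.IsPrime := hp.isPrime
      exact exists_pow_smul_eq_zero_locally I p _ (isTorsion_H I (n + 1) (ModuleCat.of R M))
        (hloc p (n + 1) le_rfl)
    choose! kf hkf using hk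
    have htop : ∀ r ∈ I ^ (hAss.toFinset.sup kf),
        ∀ y : (localCohomology I (n + 1)).obj (ModuleCat.of R M), r • y = 0 := by
      intro r hr y
      by_contra hne
      obtain ⟨P, hP, hle⟩ := exists_le_isAssociatedPrime_of_isNoetherianRing R (r • y) hne
      have hPmem : P ∈ hAss.toFinset := (Set.Finite.mem_toFinset hAss).2 hP
      have hr' : r ∈ I ^ (kf P) := Ideal.pow_le_pow_right (Finset.le_sup hPmem) hr
      obtain ⟨s, hs, hsy⟩ := hkf P hP r hr' y
      apply hs
      apply hle
      rw [Submodule.mem_colon_singleton, Submodule.mem_bot]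
      exact hsy
    have hkl : ∀ j, j ≤ n → ∃ k : ℕ, ∀ r ∈ I ^ k,
        ∀ y : (localCohomology I j).obj (ModuleCat.of R M), r • y = 0 := by
      intro j hj
      have := hlow j hj
      obtain ⟨k, hk⟩ := exists_pow_smul_eq_zero_of_fg I (isTorsion_H I j (ModuleCat.of R M)) ⊤
        Module.Finite.fg_top
      exact ⟨k, fun r hr y => hk r hr y trivial⟩
    choose! kl hkl' using hkl
    refine finite_of_pow_smul_eq_zero I (n + 1) M
      (max (hAss.toFinset.sup kf) ((Finset.range (n + 1)).sup kl)) ?_
    intro i hi a ha x
    rcases Nat.lt_or_ge i (n + 1) with hlt | hge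
    · have hile : i ≤ n := by omega
      refine hkl' i hile a (Ideal.pow_le_pow_right ?_ ha) x
      exact le_trans (Finset.le_sup (f := kl) (Finset.mem_range.2 hlt)) (le_max_right _ _)
    · obtain rfl : i = n + 1 := by omega
      exact htop a (Ideal.pow_le_pow_right (le_max_left _ _) ha) x

end Groth.Agent.Lib.Helper41.LC
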