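import Mathlib

/-!
# Restriction of scalars along a flat ring map preserves injective modules
-/

set_option autoImplicit false
universe u
open scoped TensorProduct

namespace Groth.Agent.Lib.Helper41.LC

/-- If `B` is a flat `A`-algebra and `E` is an injective `B`-module, then `E` is injective as an
`A`-module. -/
theorem injective_of_flat_of_injective (A B : Type u) [CommRing A] [CommRing B] [Algebra A B]
    [Module.Flat A B] (E : Type u) [AddCommGroup E] [Module A E] [Module B E] [IsScalarTower A B E]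
    [Module.Injective B E] : Module.Injective A E := by
  apply Module.Baer.injective
  intro 𝔞 g
  let ι' : B ⊗[A] 𝔞 →ₗ[B] B ⊗[A] A := (𝔞.subtype).baseChange B
  have hι' : Function.Injective ι' :=
    Module.Flat.lTensor_preserves_injective_linearMap (M := B) 𝔞.subtype Subtype.val_injective
  let g' : B ⊗[A] 𝔞 →ₗ[B] E := g.liftBaseChange B
  obtain ⟨h, hh⟩ := Module.Injective.extension_property B E _ _ ι' hι' g'
  refine ⟨(h.restrictScalars A).comp (TensorProduct.mk A B A 1), ?_⟩
  intro x hx
  have h1 : h (ι' ((1 : B) ⊗ₜ[A] (⟨x, hx⟩ : 𝔞))) = g' ((1 : B) ⊗ₜ[A] (⟨x, hx⟩ : 𝔞)) :=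
    LinearMap.congr_fun hh _
  have h2 : g' ((1 : B) ⊗ₜ[A] (⟨x, hx⟩ : 𝔞)) = g ⟨x, hx⟩ := by
    simp [g']
  rw [← h2, ← h1]
  rfl

end Groth.Agent.Lib.Helper41.LC
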