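import Groth.Agent.Lib.Helper41.LCChar
import Groth.Agent.Lib.Helper41.LCFlatInj

/-!
# Independence of the base ring for vanishing of local cohomology, along a flat ring map

For a flat ring map `A → B`, an ideal `I` of `A` and a `B`-module `X`:
`H^i_{IB}(X) = 0` (over `B`) iff `H^i_I(X) = 0` (over `A`).
-/

set_option autoImplicit false
universe u
open CategoryTheory CategoryTheory.Limits Opposite CategoryTheory.Abelian

namespace Groth.Agent.Lib.Helper41.LC

variable {A B : Type u} [CommRing A] [CommRing B] [Algebra A B] (I : Ideal A)

/-- Power torsion with respect to `I` and to `IB` agree on `B`-modules. -/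
lemma torsion_restrict_iff (X : ModuleCat.{u} B) (x : X) :
    (∃ n : ℕ, ∀ b ∈ (I.map (algebraMap A B)) ^ n, b • x = 0) ↔
      (∃ n : ℕ, ∀ a ∈ I ^ n,
        a • (show ((ModuleCat.restrictScalars (algebraMap A B)).obj X) from x) = 0) := by
  constructor
  · rintro ⟨n, hn⟩
    refine ⟨n, fun a ha => ?_⟩
    rw [ModuleCat.restrictScalars.smul_def]
    apply hn
    rw [← Ideal.map_pow]
    exact Ideal.mem_map_of_mem _ ha
  · rintro ⟨n, hn⟩
    refine ⟨n, fun b hb => ?_⟩
    rw [← Ideal.map_pow] at hb
    have hle : (I ^ n).map (algebraMap A B) ≤ (Submodule.span B {x}).annihilator := by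
      rw [Ideal.map_le_iff_le_comap]
      intro a ha
      rw [Ideal.mem_comap, Submodule.mem_annihilator_span_singleton]
      have := hn a ha
      rw [ModuleCat.restrictScalars.smul_def] at this
      exact this
    exact (Submodule.mem_annihilator_span_singleton _ _).1 (hle hb)

variable [Module.Flat A B]

/-- Restriction of scalars along a flat map preserves injective objects. -/
lemma injective_restrictScalars (E : ModuleCat.{u} B) [Injective E] :
    Injective ((ModuleCat.restrictScalars (algebraMap A B)).obj E) := by
  have h1 : Module.Injective B E := (Module.injective_iff_injective_object B E).2 inferInstance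
  let _ : Module A E := Module.compHom E (algebraMap A B)
  have : IsScalarTower A B E := ⟨fun a b e => by
    change (a • b) • e = (algebraMap A B a) • (b • e)
    rw [Algebra.smul_def, mul_smul]⟩
  have h2 : Module.Injective A E := injective_of_flat_of_injective A B E
  exact (Module.injective_iff_injective_object A E).1 h2

/-- **Independence of base for vanishing**, flat case. -/
theorem subsingleton_restrictScalars_iff (i : ℕ) : ∀ X : ModuleCat.{u} B,
    Subsingleton ((localCohomology (I.map (algebraMap A B)) i).obj X) ↔
      Subsingleton ((localCohomology I i).obj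
        ((ModuleCat.restrictScalars (algebraMap A B)).obj X)) := by
  induction i using Nat.strong_induction_on with
  | _ i ih =>
    intro X
    rcases Nat.eq_zero_or_pos i with rfl | hpos
    · rw [subsingleton_zero_iff, subsingleton_zero_iff]
      constructor
      · intro h m hm
        exact h m ((torsion_restrict_iff I X m).2 hm)
      · intro h m hm
        exact h m ((torsion_restrict_iff I X m).1 hm)
    · obtain ⟨j, rfl⟩ : ∃ j, i = j + 1 := ⟨i - 1, by omega⟩
      let E := Injective.under X
      let ι : X ⟶ E := Injective.ι X
      have hS := shortExact_of_mono ι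
      set S := ShortComplex.mk ι (cokernel.π ι) (cokernel.condition ι) with hSdef
      have hSA : (S.map (ModuleCat.restrictScalars (algebraMap A B))).ShortExact :=
        hS.map_of_exact _
      have hEinj : Injective ((ModuleCat.restrictScalars (algebraMap A B)).obj E) :=
        injective_restrictScalars E
      have hEB : ∀ k, 0 < k → Subsingleton ((localCohomology (I.map (algebraMap A B)) k).obj S.X₂) :=
        fun k hk => subsingleton_of_injective _ E k hk
      have hEA : ∀ k, 0 < k → Subsingleton ((localCohomology I k).obj
          ((ModuleCat.restrictScalars (algebraMap A B)).obj E)) :=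
        fun k hk => subsingleton_of_injective I _ k hk
      rcases Nat.eq_zero_or_pos j with rfl | hj
      · have hB := subsingleton_one_iff (I.map (algebraMap A B)) hS (hEB 1 one_pos)
        have hA : Subsingleton ((localCohomology I 1).obj
            ((ModuleCat.restrictScalars (algebraMap A B)).obj X)) ↔ _ :=
          subsingleton_one_iff I hSA (hEA 1 one_pos)
        refine hB.trans (Iff.trans ?_ hA.symm)
        constructor
        · intro h c hc
          obtain ⟨e, he, hec⟩ := h c ((torsion_restrict_iff I S.X₃ c).2 hc)
          exact ⟨e, (torsion_restrict_iff I S.X₂ e).1 he, hec⟩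
        · intro h c hc
          obtain ⟨e, he, hec⟩ := h c ((torsion_restrict_iff I S.X₃ c).1 hc)
          exact ⟨e, (torsion_restrict_iff I S.X₂ e).2 he, hec⟩
      · have hB := subsingleton_succ_iff (I.map (algebraMap A B)) hS j (hEB j hj)
          (hEB (j + 1) (by omega))
        have hA : Subsingleton ((localCohomology I (j + 1)).obj
            ((ModuleCat.restrictScalars (algebraMap A B)).obj X)) ↔
            Subsingleton ((localCohomology I j).obj
              ((ModuleCat.restrictScalars (algebraMap A B)).obj S.X₃)) :=
          subsingleton_succ_iff I hSA j (hEA j hj) (hEA (j + 1) (by omega))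
        exact hB.trans ((ih j (by omega) S.X₃).trans hA.symm)

end Groth.Agent.Lib.Helper41.LC
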