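import Groth.Agent.Lib.Helper32.AbsSS
import Groth.Agent.Lib.Helper19.LocCohSSV
import Groth.Agent.Lib.Helper19.LocCohVanish

/-!
# The corner isomorphism of the local-to-global spectral sequence of cohomology with supports

If `ℋ^q_Z(F) = 0` for `q < d` then `Γ(V, ℋ^d_Z(F)) ≃+ H^d_{Z ∩ V}(V, F)`.
-/

set_option autoImplicit false
universe v u
open CategoryTheory CategoryTheory.Limits Opposite TopologicalSpace

namespace Groth.Agent.Lib.Helper41.LCCorner

open Groth.Agent.Lib.Helper32 Groth.Agent.Lib.Helper19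

section Abstract

variable {C : Type u} [Category.{v} C] [Abelian C] {r₀ : ℤ}

/-- If the only nonzero term of total degree `n` on page `r` is at `(p₀, n - p₀)`, and this position is
stationary from page `r` on, then `H^n` is that term. -/
theorem corner (E : CohomologicalSpectralSequence C r₀) {H : ℤ → C} (a : SpSeq.Abutment E H)
    (r : ℤ) (hr : r₀ ≤ r) (n p₀ : ℤ)
    (hdeg : ∀ p : ℤ, p ≠ p₀ → IsZero ((E.page r hr).X (p, n - p)))
    (hdisc : (a.filObj n).IsDiscrete) (hexh : a.IsExhaustive n)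
    (hst : SpSeq.StationaryAt E (p₀, n - p₀) r) :
    Nonempty (H n ≅ (E.page r hr).X (p₀, n - p₀)) := by
  have hgr : ∀ p : ℤ, p ≠ p₀ → IsZero (SpSeq.grPiece (a.fil n) (a.anti n) p) :=
    fun p hp => AbsSS.isZero_grPiece E a r hr p n (hdeg p hp)
  obtain ⟨h1, h2⟩ := AbsSS.one_step (a.fil n) (a.anti n) p₀ hgr hdisc hexh
  obtain ⟨e1⟩ := AbsSS.nonempty_subquot_top_bot_iso (a.fil n p₀) (a.fil n (p₀ + 1))
    (a.anti n (Int.le_add_one le_rfl)) h1 h2
  obtain ⟨e2⟩ := AbsSS.nonempty_grPiece_iso E a r p₀ n hst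
  exact ⟨e1.symm ≪≫ e2.symm⟩

theorem stationaryAt_of_isZero (E : CohomologicalSpectralSequence C r₀) (pq : ℤ × ℤ) (r : ℤ)
    (hr : r₀ ≤ r)
    (hin : ∀ r' : ℤ, r ≤ r' → IsZero ((E.page r hr).X (pq - (r', 1 - r'))))
    (hout : ∀ r' : ℤ, r ≤ r' → IsZero ((E.page r hr).X (pq + (r', 1 - r')))) :
    SpSeq.StationaryAt E pq r := by
  refine ⟨hr, fun r' h₀ hrr' => ⟨?_, ?_⟩⟩
  · exact (AbsSS.isZero_page_of_le E r hr _ (hin r' hrr') r' hrr').eq_of_src _ _
  · exact (AbsSS.isZero_page_of_le E r hr _ (hout r' hrr') r' hrr').eq_of_tgt _ _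

end Abstract

section Top

variable {X : TopCat.{u}} (U V : Opens X) (F : CohTop.Ab X)

/-- **Corner isomorphism**: if `ℋ^q_Z(F) = 0` for `q < d` then
`Γ(V, ℋ^d_Z(F)) ≃+ H^d_{Z ∩ V}(V, F)`. -/
theorem nonempty_sections_equiv (d : ℕ)
    (hz : ∀ q : ℕ, q < d → IsZero ((LocCohZ.HZsh U q).obj F)) :
    Nonempty (((LocCohZ.HZsh U d).obj F).obj.obj (op V) ≃+
      LocCohZ.HZ F d (inf_le_left : V ⊓ U ≤ V)) := by
  obtain ⟨E, a, hfin, -, hE⟩ := LocCohSSV.exists_spectralSequence U V F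
  -- vanishing of `E₂^{p,q}` unless `0 ≤ p` and `d ≤ q`
  have hzero : ∀ p q : ℤ, (p < 0 ∨ q < d) → IsZero ((E.page 2 le_rfl).X (p, q)) := by
    intro p q hpq
    obtain ⟨e⟩ := hE p q
    refine IsZero.of_iso ?_ e
    by_cases h : 0 ≤ p ∧ 0 ≤ q
    · rw [if_pos h]
      have hq : q.toNat < d := by omega
      have := LocCohSSV.ext_subsingleton_of_isZero
        (A := CohCx.freeSheaf (Opens.grothendieckTopology X) V) (hz _ hq) p.toNat
      exact @AddCommGrpCat.isZero_of_subsingleton _ this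
    · rw [if_neg h]
      exact AddCommGrpCat.isZero_of_subsingleton _
  have hst : SpSeq.StationaryAt E ((0 : ℤ), (d : ℤ) - 0) 2 := by
    apply stationaryAt_of_isZero E _ 2 le_rfl
    · intro r' hr'
      exact hzero _ _ (Or.inl (by simp only []; omega))
    · intro r' hr'
      exact hzero _ _ (Or.inr (by simp only []; omega))
  obtain ⟨hT, hB⟩ := hfin d
  have hexh : a.IsExhaustive d := by
    obtain ⟨a0, ha0⟩ := hT
    refine ⟨fun x _ => le_top, fun b hb => ?_⟩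
    have : a.fil d a0 ≤ b := hb ⟨a0, rfl⟩
    have ha0' : a.fil d a0 = ⊤ := ha0
    rwa [ha0'] at this
  obtain ⟨e⟩ := corner E a 2 le_rfl (d : ℤ) 0 (fun p hp => by
    rcases lt_or_gt_of_ne hp with h | h
    · exact hzero _ _ (Or.inl h)
    · exact hzero _ _ (Or.inr (by omega))) hB hexh hst
  obtain ⟨e2⟩ := hE 0 ((d : ℤ) - 0)
  have e3 := e ≪≫ e2
  have hH : (if 0 ≤ (d : ℤ) then AddCommGrpCat.of
        (LocCohZ.HZ F (d : ℤ).toNat (inf_le_left : V ⊓ U ≤ V))
        else AddCommGrpCat.of PUnit.{u + 1}) =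
        AddCommGrpCat.of (LocCohZ.HZ F d (inf_le_left : V ⊓ U ≤ V)) := by
    rw [if_pos (Int.natCast_nonneg d), Int.toNat_natCast]
  have hE2 : (if (0 : ℤ) ≤ 0 ∧ 0 ≤ (d : ℤ) - 0 then AddCommGrpCat.of
        (CohTop.HU ((LocCohZ.HZsh U ((d : ℤ) - 0).toNat).obj F) (0 : ℤ).toNat V)
        else AddCommGrpCat.of PUnit.{u + 1}) =
        AddCommGrpCat.of (CohTop.HU ((LocCohZ.HZsh U d).obj F) 0 V) := by
    rw [if_pos ⟨le_rfl, by omega⟩]
    have h1 : ((d : ℤ) - 0).toNat = d := by omega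
    rw [h1]
    rfl
  rw [hH, hE2] at e3
  exact ⟨(Groth.Agent.Lib.Cohomology.Leray.sectionsEquivH0 ((LocCohZ.HZsh U d).obj F) V).trans
    e3.symm.addCommGroupIsoToAddEquiv⟩

end Top

end Groth.Agent.Lib.Helper41.LCCorner
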