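import Groth.Agent.Lib.Helper41.LCCompare
import Mathlib.Algebra.Module.LocalizedModule.Basic

/-!
# Vanishing of local cohomology above the number of generators (Noetherian case)
-/

set_option autoImplicit false
universe u
open CategoryTheory CategoryTheory.Limits Opposite CategoryTheory.Abelian

namespace Groth.Agent.Lib.Helper41.LC

variable {R : Type u} [CommRing R]

lemma isTorsion_span_singleton_iff (b : R) (M : Type u) [AddCommGroup M] [Module R M] :
    IsTorsion (Ideal.span {b}) M ↔ ∀ m : M, ∃ n : ℕ, b ^ n • m = 0 := by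
  constructor
  · intro h m
    obtain ⟨n, hn⟩ := h m
    exact ⟨n, hn _ (Ideal.pow_mem_pow (Ideal.mem_span_singleton_self b) n)⟩
  · intro h m
    obtain ⟨n, hn⟩ := h m
    refine ⟨n, fun a ha => ?_⟩
    rw [Ideal.span_singleton_pow, Ideal.mem_span_singleton'] at ha
    obtain ⟨c, rfl⟩ := ha
    rw [mul_smul, hn, smul_zero]

lemma mem_powTorsion_span_singleton_iff (b : R) {M : Type u} [AddCommGroup M] [Module R M] (m : M) :
    m ∈ powTorsion (Ideal.span {b}) M ↔ ∃ n : ℕ, b ^ n • m = 0 := by
  constructor
  · rintro ⟨n, hn⟩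
    exact ⟨n, hn _ (Ideal.pow_mem_pow (Ideal.mem_span_singleton_self b) n)⟩
  · rintro ⟨n, hn⟩
    refine ⟨n, fun a ha => ?_⟩
    rw [Ideal.span_singleton_pow, Ideal.mem_span_singleton'] at ha
    obtain ⟨c, rfl⟩ := ha
    rw [mul_smul, hn, smul_zero]

/-- Adding one generator raises the cohomological dimension by at most one. -/
theorem cd_sup_span_singleton [IsNoetherianRing R] (a : Ideal R) (b : R) (r : ℕ)
    (ha : ∀ (M : ModuleCat.{u} R) (i : ℕ), r < i → Subsingleton ((localCohomology a i).obj M)) :
    ∀ (M : ModuleCat.{u} R) (i : ℕ), r + 1 < i →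
      Subsingleton ((localCohomology (a ⊔ Ideal.span {b}) i).obj M) := by
  intro M i hi
  set K : Ideal R := Ideal.span {b} with hK
  set J : Ideal R := a ⊔ K with hJdef
  have haJ : a ≤ J := le_sup_left
  have hbJ : b ∈ J := le_sup_right (a := a) (Ideal.mem_span_singleton_self b)
  -- vanishing on K-torsion modules above r
  have htor : ∀ (N : ModuleCat.{u} R), IsTorsion K N → ∀ j, r < j →
      Subsingleton ((localCohomology J j).obj N) := by
    intro N hN j hj
    have hb := cmpH_bijective_of_isTorsion haJ K le_rfl j N hN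
    have := ha N j hj
    exact hb.1.subsingleton
  -- first short exact sequence
  let T : Submodule R M := powTorsion K M
  have hS₁ := subQuotSC_shortExact T
  have hT : Subsingleton ((localCohomology J i).obj (subQuotSC T).X₁) :=
    htor (ModuleCat.of R T) (isTorsion_powTorsion K M) i (by omega)
  have hinj := map_g_injective_of_subsingleton J hS₁ i hT
  suffices hbar : Subsingleton ((localCohomology J i).obj (ModuleCat.of R (M ⧸ T))) by
    have hbar' : Subsingleton ((localCohomology J i).obj (subQuotSC T).X₃) := hbar
    exact hinj.subsingleton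
  -- b is a nonzerodivisor on M/T
  have hreg : ∀ (k : ℕ) (y : M ⧸ T), b ^ k • y = 0 → y = 0 := by
    intro k y hy
    obtain ⟨m, rfl⟩ := Submodule.Quotient.mk_surjective _ y
    rw [← Submodule.Quotient.mk_smul, Submodule.Quotient.mk_eq_zero] at hy
    rw [Submodule.Quotient.mk_eq_zero]
    obtain ⟨n, hn⟩ := (mem_powTorsion_span_singleton_iff b _).1 hy
    rw [mem_powTorsion_span_singleton_iff]
    exact ⟨n + k, by rw [pow_add, mul_smul, hn]⟩
  -- localization
  let L := LocalizedModule (Submonoid.powers b) (M ⧸ T)
  let ι : (M ⧸ T) →ₗ[R] L := LocalizedModule.mkLinearMap (Submonoid.powers b) (M ⧸ T)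
  have hι : Function.Injective ι := by
    rw [injective_iff_map_eq_zero]
    intro y hy
    obtain ⟨⟨s, k, rfl⟩, hs⟩ := (IsLocalizedModule.eq_zero_iff (Submonoid.powers b) ι).1 hy
    exact hreg k y hs
  let f : ModuleCat.of R (M ⧸ T) ⟶ ModuleCat.of R L := ModuleCat.ofHom ι
  have hf : Mono f := (ModuleCat.mono_iff_injective _).2 hι
  have hS₂ := shortExact_of_mono f
  -- L has no local cohomology
  have hL : ∀ j, Subsingleton ((localCohomology J j).obj (ModuleCat.of R L)) := by
    intro j
    apply subsingleton_of_bijective_smul J j (ModuleCat.of R L) b hbJ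
    have hu := IsLocalizedModule.map_units ι (⟨b, 1, pow_one b⟩ : Submonoid.powers b)
    exact (Module.End.isUnit_iff _).1 hu
  -- the cokernel is K-torsion
  have hC : IsTorsion K ↑(cokernel f) := by
    rw [isTorsion_span_singleton_iff]
    intro c
    obtain ⟨l, rfl⟩ := (ModuleCat.epi_iff_surjective (cokernel.π f)).1 inferInstance c
    induction l using LocalizedModule.induction_on with
    | h m s =>
      obtain ⟨s, k, rfl⟩ := s
      refine ⟨k, ?_⟩
      rw [← map_smul]
      have : b ^ k • (LocalizedModule.mk m ⟨b ^ k, k, rfl⟩ : L) = f.hom m := by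
        rw [LocalizedModule.smul'_mk]
        change LocalizedModule.mk (b ^ k • m) _ = LocalizedModule.mk m 1
        rw [LocalizedModule.mk_eq]
        exact ⟨1, by simp [Submonoid.smul_def]⟩
      rw [this]
      have hc := cokernel.condition f
      exact congrArg (fun φ => φ.hom m) hc
  obtain ⟨j, rfl⟩ : ∃ j, i = j + 1 := ⟨i - 1, by omega⟩
  have hCj : Subsingleton ((localCohomology J j).obj (cokernel f)) := htor _ hC j (by omega)
  refine ⟨fun x y => ?_⟩
  have key : ∀ x : (localCohomology J (j + 1)).obj (ModuleCat.of R (M ⧸ T)), x = 0 := by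
    intro x
    obtain ⟨c, rfl⟩ := exact₁ J hS₂ j (j + 1) rfl x (by
      have := hL (j + 1)
      exact Subsingleton.elim _ _)
    rw [Subsingleton.elim c 0, map_zero]
  rw [key x, key y]

/-- Local cohomology with support in an ideal generated by `s.card` elements vanishes above `s.card`. -/
theorem subsingleton_of_card_lt [IsNoetherianRing R] (s : Finset R) :
    ∀ (M : ModuleCat.{u} R) (i : ℕ), s.card < i →
      Subsingleton ((localCohomology (Ideal.span (s : Set R)) i).obj M) := by
  classical
  induction s using Finset.induction_on with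
  | empty =>
    intro M i hi
    rw [Finset.coe_empty, Ideal.span_empty]
    apply subsingleton_of_isTorsion ⊥ i (by simpa using hi) M
    intro m
    refine ⟨1, fun a ha => ?_⟩
    rw [pow_one, Ideal.mem_bot] at ha
    rw [ha, zero_smul]
  | insert b s hb ih =>
    intro M i hi
    rw [Finset.card_insert_of_notMem hb] at hi
    rw [Finset.coe_insert, Ideal.span_insert, sup_comm]
    exact cd_sup_span_singleton (Ideal.span (s : Set R)) b s.card ih M i hi

end Groth.Agent.Lib.Helper41.LC
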