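import Groth.Agent.Lib.Helper41.LCCompare
import Groth.Agent.Lib.Helper41.LCGen

/-!
# Exactness of `H^i_J(M) → H^i_I(M) → H^i_I(L)` for a "localization-like" map `M → L`
-/

set_option autoImplicit false
universe u
open CategoryTheory CategoryTheory.Limits Opposite CategoryTheory.Abelian

namespace Groth.Agent.Lib.Helper41.LC

variable {R : Type u} [CommRing R]

/-- Let `I ≤ J ≤ I ⊔ K` and `ℓ : M → L` a linear map with `K`-torsion kernel and cokernel.
Every class in `H^i_I(M)` dying in `H^i_I(L)` comes from `H^i_J(M)`. -/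
theorem exists_cmpH_eq_of_map_eq_zero [IsNoetherianRing R] {I J : Ideal R} (h : I ≤ J) (K : Ideal R)
    (hJ : J ≤ I ⊔ K)
    {M L : Type u} [AddCommGroup M] [Module R M] [AddCommGroup L] [Module R L] (ℓ : M →ₗ[R] L)
    (hker : IsTorsion K (LinearMap.ker ℓ)) (hcoker : IsTorsion K (L ⧸ LinearMap.range ℓ))
    (i : ℕ) (x : (localCohomology I i).obj (ModuleCat.of R M))
    (hx : ((localCohomology I i).map (ModuleCat.ofHom ℓ)).hom x = 0) :
    ∃ y : (localCohomology J i).obj (ModuleCat.of R M), cmpH h i _ y = x := by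
  let N : Submodule R L := LinearMap.range ℓ
  let g : M →ₗ[R] N := ℓ.rangeRestrict
  have hg : Function.Surjective g := ℓ.surjective_rangeRestrict
  have hS₁ := LinearMap.shortExact_shortComplexKer hg
  have hS₂ := subQuotSC_shortExact N
  have hkerg : IsTorsion K (LinearMap.ker g) := by
    have : LinearMap.ker g = LinearMap.ker ℓ := LinearMap.ker_rangeRestrict ℓ
    rw [this]
    exact hker
  have hb₁ := cmpH_bijective_of_isTorsion h K hJ
  let γ : ModuleCat.of R M ⟶ ModuleCat.of R N := ModuleCat.ofHom g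
  let ι : ModuleCat.of R N ⟶ ModuleCat.of R L := ModuleCat.ofHom N.subtype
  have hfac : ModuleCat.ofHom ℓ = γ ≫ ι := rfl
  rw [hfac, Functor.map_comp] at hx
  -- the image of `x` in `H^i_I(N)`, seen in both short complexes
  let w₂ : (localCohomology I i).obj (subQuotSC N).X₁ := ((localCohomology I i).map γ).hom x
  let w₁ : (localCohomology I i).obj g.shortComplexKer.X₃ := ((localCohomology I i).map γ).hom x
  have hx' : ((localCohomology I i).map (subQuotSC N).f).hom w₂ = 0 := hx
  -- step 1
  obtain ⟨y', hy'⟩ : ∃ y' : (localCohomology J i).obj (ModuleCat.of R N),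
      cmpH h i (ModuleCat.of R N) y' = ((localCohomology I i).map γ).hom x := by
    cases i with
    | zero =>
      refine ⟨0, ?_⟩
      have h0 : w₂ = 0 := map_f_injective_zero I hS₂ (hx'.trans (map_zero _).symm)
      exact (map_zero _).trans h0.symm
    | succ k =>
      obtain ⟨c, hc⟩ := exact₁ I hS₂ k (k + 1) rfl w₂ hx'
      obtain ⟨c', rfl⟩ := (hb₁ k _ hcoker).2 c
      exact ⟨δ J hS₂ k (k + 1) rfl c', (cmpH_δ h hS₂ k (k + 1) rfl c').trans hc⟩
  -- step 2
  let y₁ : (localCohomology J i).obj g.shortComplexKer.X₃ := y'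
  have hy₁ : cmpH h i g.shortComplexKer.X₃ y₁ = w₁ := hy'
  have h2 : δ J hS₁ i (i + 1) rfl y₁ = 0 := by
    apply (hb₁ (i + 1) _ hkerg).1
    have e1 := cmpH_δ h hS₁ i (i + 1) rfl y₁
    have e2 : δ I hS₁ i (i + 1) rfl w₁ = 0 := δ_map_eq_zero I hS₁ i (i + 1) rfl x
    rw [hy₁, e2] at e1
    exact e1.trans (map_zero _).symm
  obtain ⟨z', hz'⟩ := exact₃ J hS₁ i (i + 1) rfl y₁ h2
  -- step 3
  have h3 : ((localCohomology I i).map g.shortComplexKer.g).hom
      (cmpH h i g.shortComplexKer.X₂ z' - x) = 0 := by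
    have e1 := cmpH_map h g.shortComplexKer.g i z'
    rw [hz', hy₁] at e1
    rw [map_sub, ← e1]
    exact sub_self _
  obtain ⟨t, ht⟩ := exact₂ I hS₁ i _ h3
  obtain ⟨t', rfl⟩ := (hb₁ i _ hkerg).2 t
  refine ⟨z' - ((localCohomology J i).map g.shortComplexKer.f).hom t', ?_⟩
  have e3 := cmpH_map h g.shortComplexKer.f i t'
  rw [map_sub]
  have e4 : cmpH h i (ModuleCat.of R M) (((localCohomology J i).map g.shortComplexKer.f).hom t') =
      cmpH h i g.shortComplexKer.X₂ z' - x := e3.trans ht
  rw [e4]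
  exact sub_sub_cancel _ _

section Localized

variable (I : Ideal R) (f : R) (M : Type u) [AddCommGroup M] [Module R M]

/-- `f` acts bijectively on `M_f`. -/
lemma bijective_smul_localizedModule :
    Function.Bijective (fun y : LocalizedModule (Submonoid.powers f) M => f • y) := by
  have h1 := IsLocalizedModule.map_units (LocalizedModule.mkLinearMap (Submonoid.powers f) M)
    ⟨f, Submonoid.mem_powers f⟩
  exact (Module.End.isUnit_iff _).1 h1

lemma isTorsion_ker_mkLinearMap :
    IsTorsion (Ideal.span {f})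
      (LinearMap.ker (LocalizedModule.mkLinearMap (Submonoid.powers f) M)) := by
  rw [isTorsion_span_singleton_iff]
  rintro ⟨m, hm⟩
  rw [LinearMap.mem_ker,
    IsLocalizedModule.eq_zero_iff (Submonoid.powers f)
      (LocalizedModule.mkLinearMap (Submonoid.powers f) M)] at hm
  obtain ⟨⟨_, n, rfl⟩, hc⟩ := hm
  exact ⟨n, Subtype.ext hc⟩

lemma isTorsion_coker_mkLinearMap :
    IsTorsion (Ideal.span {f})
      (LocalizedModule (Submonoid.powers f) M ⧸
        LinearMap.range (LocalizedModule.mkLinearMap (Submonoid.powers f) M)) := by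
  rw [isTorsion_span_singleton_iff]
  intro y
  obtain ⟨z, rfl⟩ := Submodule.Quotient.mk_surjective _ y
  obtain ⟨⟨m, ⟨_, n, rfl⟩⟩, hz⟩ := IsLocalizedModule.surj (Submonoid.powers f)
    (LocalizedModule.mkLinearMap (Submonoid.powers f) M) z
  refine ⟨n, ?_⟩
  rw [← Submodule.Quotient.mk_smul, Submodule.Quotient.mk_eq_zero]
  exact ⟨m, hz.symm⟩

/-- All local cohomology of `M_f` with support in an ideal containing `f` vanishes. -/
theorem subsingleton_localizedModule (J : Ideal R) (hf : f ∈ J) (i : ℕ) :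
    Subsingleton ((localCohomology J i).obj
      (ModuleCat.of R (LocalizedModule (Submonoid.powers f) M))) :=
  subsingleton_of_bijective_smul J i _ f hf (bijective_smul_localizedModule f M)

/-- Exactness of `H^i_{I + (f)}(M) → H^i_I(M) → H^i_I(M_f)`. -/
theorem exact_cmpH_localization [IsNoetherianRing R] (i : ℕ) :
    Function.Exact (cmpH (le_sup_left : I ≤ I ⊔ Ideal.span {f}) i (ModuleCat.of R M))
      ((localCohomology I i).map
        (ModuleCat.ofHom (LocalizedModule.mkLinearMap (Submonoid.powers f) M))).hom := by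
  intro x
  constructor
  · intro hx
    exact exists_cmpH_eq_of_map_eq_zero le_sup_left (Ideal.span {f}) le_rfl _
      (isTorsion_ker_mkLinearMap f M) (isTorsion_coker_mkLinearMap f M) i x hx
  · rintro ⟨y, rfl⟩
    rw [← cmpH_map]
    have := subsingleton_localizedModule f M (I ⊔ Ideal.span {f})
      (Ideal.mem_sup_right (Ideal.mem_span_singleton_self f)) i
    rw [Subsingleton.elim (((localCohomology (I ⊔ Ideal.span {f}) i).map
      (ModuleCat.ofHom (LocalizedModule.mkLinearMap (Submonoid.powers f) M))).hom y) 0, map_zero]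

end Localized

end Groth.Agent.Lib.Helper41.LC
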