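import Groth.Agent.Lib.Helper41.LCLocalCd
import Groth.Agent.Lib.Helper41.LCLoc

/-!
# Top local cohomology and ideals inside the Jacobson radical
-/

set_option autoImplicit false
universe u
open CategoryTheory CategoryTheory.Limits Opposite CategoryTheory.Abelian

namespace Groth.Agent.Lib.Helper41.LC

variable {R : Type u} [CommRing R]

/-- Inverting an element of the Jacobson radical drops the Krull dimension. -/
theorem ringKrullDim_away_lt_of_mem_jacobson (d : ℕ) (hd : ringKrullDim R = d) (f : R)
    (hf : f ∈ (⊥ : Ideal R).jacobson) :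
    ringKrullDim (Localization.Away f) < (d : WithBot ℕ∞) := by
  rw [ringKrullDim, Order.krullDim_lt_coe_iff]
  intro l
  have hinj := PrimeSpectrum.localization_comap_injective (Localization.Away f)
    (Submonoid.powers f)
  have hmono : StrictMono (PrimeSpectrum.comap (algebraMap R (Localization.Away f))) := by
    apply Monotone.strictMono_of_injective _ hinj
    intro p q hpq
    exact Ideal.comap_mono hpq
  let l' : LTSeries (PrimeSpectrum R) := l.map _ hmono
  -- the top of the chain does not contain `f`
  have hfl : f ∉ l'.last.asIdeal := by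
    intro hmem
    have h1 : algebraMap R (Localization.Away f) f ∈ l.last.asIdeal := hmem
    have h2 : IsUnit (algebraMap R (Localization.Away f) f) :=
      IsLocalization.map_units (Localization.Away f) (⟨f, Submonoid.mem_powers f⟩ : Submonoid.powers f)
    exact l.last.2.ne_top (Ideal.eq_top_of_isUnit_mem _ h1 h2)
  obtain ⟨m, hmax, hle⟩ := Ideal.exists_le_maximal l'.last.asIdeal l'.last.2.ne_top
  have hfm : f ∈ m := by
    rw [Ideal.jacobson, Ideal.mem_sInf] at hf
    exact hf ⟨bot_le, hmax⟩
  have hlt : l'.last < (⟨m, hmax.isPrime⟩ : PrimeSpectrum R) := by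
    refine lt_of_le_of_ne hle ?_
    intro heq
    apply hfl
    rw [heq]
    exact hfm
  let l'' := l'.snoc ⟨m, hmax.isPrime⟩ hlt
  have h4 : (l''.length : WithBot ℕ∞) ≤ d := by
    have := Order.LTSeries.length_le_krullDim l''
    rw [ringKrullDim] at hd
    rw [hd] at this
    exact this
  have h5 : l''.length ≤ d := by exact_mod_cast h4
  have h6 : l''.length = l.length + 1 := by simp [l'', l']
  omega

variable (I : Ideal R)

/-- One step: if `f` lies in the Jacobson radical, `dim R = d` and `H^d_{I + (f)}` vanishes on all
modules, then so does `H^d_I`. -/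
theorem forall_subsingleton_top_of_sup_span_singleton [IsNoetherianRing R] (d : ℕ)
    (hd : ringKrullDim R = d) (f : R) (hf : f ∈ (⊥ : Ideal R).jacobson)
    (h : ∀ M : ModuleCat.{u} R, Subsingleton ((localCohomology (I ⊔ Ideal.span {f}) d).obj M)) :
    ∀ M : ModuleCat.{u} R, Subsingleton ((localCohomology I d).obj M) := by
  intro M
  have hloc : Subsingleton ((localCohomology I d).obj
      (ModuleCat.of R (LocalizedModule (Submonoid.powers f) M))) := by
    rw [← subsingleton_baseChange_iff (B := Localization.Away f) I d
      (LocalizedModule (Submonoid.powers f) M)]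
    apply subsingleton_of_supportDim_lt
    exact lt_of_le_of_lt (Module.supportDim_le_ringKrullDim _ _)
      (ringKrullDim_away_lt_of_mem_jacobson d hd f hf)
  refine ⟨fun x y => ?_⟩
  have key : ∀ x : (localCohomology I d).obj M, x = 0 := by
    intro x
    have h0 : ((localCohomology I d).map
        (ModuleCat.ofHom (LocalizedModule.mkLinearMap (Submonoid.powers f) M))).hom x = 0 :=
      Subsingleton.elim _ _
    obtain ⟨y, rfl⟩ := (exact_cmpH_localization I f M d x).1 h0
    have := h M
    rw [Subsingleton.elim y 0, map_zero]
  rw [key x, key y]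

/-- If `I ≤ I' ≤ Jac(R)`, `dim R = d` and `H^d_{I'}` vanishes on all modules, so does `H^d_I`. -/
theorem forall_subsingleton_top_of_le_jacobson [IsNoetherianRing R] (d : ℕ)
    (hd : ringKrullDim R = d) (I' : Ideal R) (hII' : I ≤ I') (hJ : I' ≤ (⊥ : Ideal R).jacobson)
    (h : ∀ M : ModuleCat.{u} R, Subsingleton ((localCohomology I' d).obj M)) :
    ∀ M : ModuleCat.{u} R, Subsingleton ((localCohomology I d).obj M) := by
  classical
  have key : ∀ (s : Finset R), (∀ x ∈ s, x ∈ (⊥ : Ideal R).jacobson) → ∀ I₀ : Ideal R,
      (∀ M : ModuleCat.{u} R,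
        Subsingleton ((localCohomology (I₀ ⊔ Ideal.span (s : Set R)) d).obj M)) →
      ∀ M : ModuleCat.{u} R, Subsingleton ((localCohomology I₀ d).obj M) := by
    intro s
    induction s using Finset.induction_on with
    | empty =>
      intro _ I₀ h0 M
      have := h0 M
      rw [Finset.coe_empty, Ideal.span_empty, sup_bot_eq] at this
      exact this
    | insert a s _ ih =>
      intro hs I₀ h0
      apply forall_subsingleton_top_of_sup_span_singleton I₀ d hd a (hs a (Finset.mem_insert_self a s))
      apply ih (fun x hx => hs x (Finset.mem_insert_of_mem hx))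
      intro M
      have := h0 M
      rw [Finset.coe_insert, Ideal.span_insert, ← sup_assoc] at this
      exact this
  obtain ⟨s, hs⟩ := (isNoetherianRing_iff_ideal_fg R).1 inferInstance I'
  apply key s (fun x hx => hJ (hs ▸ Ideal.subset_span hx)) I
  intro M
  have := h M
  rw [hs, sup_eq_right.2 hII']
  exact this

end Groth.Agent.Lib.Helper41.LC
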