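import Groth.Agent.Lib.Helper41.AffOpenLC
import Groth.Agent.Lib.Helper41.Grade
import Groth.Agent.Lib.QCoh.Helper18_HartogsDepth
import Groth.Agent.Lib.Helper19.LocCohIff
import Groth.Agent.Lib.Cohomology.Helper1_SerreVanishing

/-!
# Local cohomology sheaves of a coherent module and depth

On a locally Noetherian scheme `X` with open `U` and coherent `M`:
* `affine_iff`: for an affine open `V`, `H^i_{V∖U}(V, M) = 0` for `i < n` iff `depth M_x ≥ n` for all
  `x ∈ V ∖ U`;
* `isZero_HZsh_of_depth`: `depth M_x ≥ n` off `U` ⇒ `ℋ^i_{X∖U}(M) = 0` for `i < n`.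
-/

set_option autoImplicit false
universe u
open AlgebraicGeometry CategoryTheory CategoryTheory.Limits Opposite TopologicalSpace Abelian

namespace Groth.Agent.Lib.Helper41.LCSheafDepth

open Groth.Agent.Lib.Helper41 Groth.Agent.Lib.Helper41.AffOpenLC Groth.Agent.Lib.QCoh
  Groth.Agent.Lib.QCoh.Hartogs

variable {X : Scheme.{u}} (M : X.Modules) [M.IsQuasicoherent] (U : X.Opens) {V : X.Opens}
  (hV : IsAffineOpen V)

/-- the two incarnations of the sections of `M` over an affine open agree -/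
noncomputable def eNV : NV M hV ≃ₗ[Γ(X, V)] Γ(M, V) := ΓrestrictSpecLinearEquiv hV M

lemma finite_NV [M.IsFiniteType] : Module.Finite Γ(X, V) (NV M hV) := by
  have := finite_Γ_of_isAffineOpen hV M
  exact Module.Finite.equiv (eNV M hV).symm

lemma depth_eq_top_of_subsingleton (R : Type u) [CommRing R] [IsLocalRing R] (N : Type u)
    [AddCommGroup N] [Module R N] [Subsingleton N] : LocCoh.depth R N = ⊤ := by
  unfold LocCoh.depth LocCoh.idealDepth
  rw [if_pos (Subsingleton.elim _ _)]

open Groth.Agent.Lib.Helper29.CMLib in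
lemma depth_stalk_eq_NV [IsLocallyNoetherian X] [M.IsFiniteType] (x : X) (hx : x ∈ V) :
    LocCoh.depth (X.presheaf.stalk x) (M.presheaf.stalk x) =
      LocCoh.depth (Localization.AtPrime (hV.primeIdealOf ⟨x, hx⟩).asIdeal)
        (LocalizedModule (hV.primeIdealOf ⟨x, hx⟩).asIdeal.primeCompl (NV M hV)) := by
  rw [depth_stalk_eq M hV x hx]
  set p := (hV.primeIdealOf ⟨x, hx⟩).asIdeal
  exact depth_congr (IsLocalizedModule.mapEquiv p.primeCompl
    (LocalizedModule.mkLinearMap p.primeCompl Γ(M, V))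
    (LocalizedModule.mkLinearMap p.primeCompl (NV M hV)) (Localization.AtPrime p) (eNV M hV).symm)

include hV in
/-- **Affine-local depth criterion** for the vanishing of cohomology with supports. -/
theorem affine_iff [IsLocallyNoetherian X] [M.IsFiniteType] (n : ℕ) :
    (∀ i < n, Subsingleton (LocCohZ.HZ (Coh.toAb M) i (inf_le_left : V ⊓ U ≤ V))) ↔
      ∀ x ∈ V, x ∉ U → (n : ℕ∞) ≤ LocCoh.depth (X.presheaf.stalk x) (M.presheaf.stalk x) := by
  have hN : IsNoetherianRing Γ(X, V) := IsLocallyNoetherian.component_noetherian ⟨V, hV⟩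
  have hfin := finite_NV M hV
  have h1 : (∀ i < n, Subsingleton (LocCohZ.HZ (Coh.toAb M) i (inf_le_left : V ⊓ U ≤ V))) ↔
      ∀ i < n, Subsingleton (LocCoh.H (idealOf U hV) i (NV M hV)) := by
    refine forall₂_congr fun i _ => ?_
    obtain ⟨e⟩ := nonempty_HZ_equiv_affineOpen M U hV i
    exact e.toEquiv.subsingleton_congr
  rw [h1, LC.subsingleton_H_iff_le_depth]
  constructor
  · intro h x hx hxU
    rw [depth_stalk_eq_NV M hV x hx]
    set y := hV.primeIdealOf ⟨x, hx⟩ with hy
    have hyx : hV.fromSpec y = x := hV.fromSpec_primeIdealOf ⟨x, hx⟩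
    have hIy : idealOf U hV ≤ y.asIdeal := by
      rw [idealOf_le_iff, hyx]; exact hxU
    by_cases hs : y ∈ Module.support Γ(X, V) (NV M hV)
    · exact h y hIy hs
    · rw [Module.notMem_support_iff] at hs
      rw [depth_eq_top_of_subsingleton]
      exact le_top
  · intro h y hIy _
    have hxV : hV.fromSpec y ∈ V := fromSpec_mem V hV y
    have hxU : hV.fromSpec y ∉ U := (idealOf_le_iff U hV y).1 hIy
    have hy : hV.primeIdealOf ⟨hV.fromSpec y, hxV⟩ = y := by
      apply hV.fromSpec.isOpenEmbedding.injective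
      exact hV.fromSpec_primeIdealOf ⟨_, hxV⟩
    have := h _ hxV hxU
    rw [depth_stalk_eq_NV M hV _ hxV, hy] at this
    exact this


/-! ### The global statement -/

section Global

open Groth.Agent.Lib.Cohomology Groth.Agent.Lib.Cohomology.OpenAdj
  Groth.Agent.Lib.Cohomology.Leray Groth.Agent.Lib.Cohomology.LocCohSh
  Groth.Agent.Lib.Cohomology.RDerFunSES Groth.Agent.Lib.Helper19.LocalVanish
  Groth.Agent.Lib.Helper19.LocCohVanish Groth.Agent.Lib.Helper19

/-- `ℋ^{k+2}_Z(F) = 0` as soon as the classes of `H^{k+1}(U ∩ W, F)` vanish locally on `W`. -/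
theorem isZero_HZsh_succ_of_locZero {Y : TopCat.{u}} (U : Opens Y) (F : CohTop.Ab Y) (k : ℕ)
    (h : LocZero U F (k + 1)) : IsZero ((LocCohZ.HZsh U (k + 2)).obj F) := by
  have h1 := isZero_rightDerived_of_locZero U k F h
  have := isIso_δ_app U F (k + 1) (by omega)
  have e1 : ((T U).F₃.rightDerived (k + 1)).obj F ≅ ((T U).F₁.rightDerived (k + 1 + 1)).obj F :=
    asIso (((T U).δ (k + 1)).app F)
  have e2 : (CohTop.pull (CohCx.incl U) ⋙ CohTop.push (CohCx.incl U)) ≅ G' U :=
    Functor.isoWhiskerRight (pullIso U) (CohTop.push (CohCx.incl U))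
  have e3 := (RDerComp.rightDerivedIso e2 (k + 1)).app F
  exact (h1.of_iso e3).of_iso e1.symm

variable [IsLocallyNoetherian X] [M.IsFiniteType] (n : ℕ)
  (hd : ∀ x : X, x ∉ U → (n : ℕ∞) ≤ LocCoh.depth (X.presheaf.stalk x) (M.presheaf.stalk x))

include hd in
lemma subsingleton_HZ_affine {W : X.Opens} (hW : IsAffineOpen W) (i : ℕ) (hi : i < n) :
    Subsingleton (LocCohZ.HZ (Coh.toAb M) i (inf_le_left : W ⊓ U ≤ W)) :=
  (affine_iff M U hW n).2 (fun x _ hxU => hd x hxU) i hi

include hd in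
theorem isZero_HZsh_zero_of_depth (hn : 0 < n) :
    IsZero ((LocCohZ.HZsh (X := X.carrier) U 0).obj (Coh.toAb M)) := by
  apply LocCohVanish.isZero_HZsh_zero U (Coh.toAb M)
  intro W
  have haff : ∀ (W' : X.Opens), IsAffineOpen W' → Function.Injective
      ((Coh.toAb M).obj.map (homOfLE (inf_le_left : W' ⊓ U ≤ W')).op) := by
    intro W' hW'
    apply LocCohVanish.map_injective_of_res
    exact LocCohIff.res_injective_of_HZ (Coh.toAb M) _ 0 (subsingleton_HZ_affine M U n hd hW' 0 hn)
  intro s t hst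
  apply TopCat.Presheaf.IsSheaf.section_ext (Coh.toAb M).2
  intro x hx
  obtain ⟨W', hW'aff, hxW', hW'W⟩ := Opens.isBasis_iff_nbhd.1 (X.isBasis_affineOpens) hx
  refine ⟨W', hW'W, hxW', ?_⟩
  apply haff W' hW'aff
  have hle : W' ⊓ U ≤ jj U W := by
    rw [LocCohVanish.jj_eq]; exact inf_le_inf_right U hW'W
  have key : ∀ r, (Coh.toAb M).obj.map (homOfLE (inf_le_left : W' ⊓ U ≤ W')).op
      ((Coh.toAb M).obj.map (homOfLE hW'W).op r) =
      (Coh.toAb M).obj.map (homOfLE hle).op ((Coh.toAb M).obj.map (homOfLE (jj_le U W)).op r) := by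
    intro r
    rw [← ConcreteCategory.comp_apply, ← ConcreteCategory.comp_apply, ← Functor.map_comp,
      ← Functor.map_comp]
    rfl
  rw [key, key, hst]

include hd in
theorem isZero_HZsh_one_of_depth (hn : 1 < n) :
    IsZero ((LocCohZ.HZsh (X := X.carrier) U 1).obj (Coh.toAb M)) := by
  apply LocCohVanish.isZero_HZsh_one U (Coh.toAb M)
  intro W
  have hd2 : ∀ x : X, x ∉ U →
      (2 : ℕ∞) ≤ LocCoh.depth (X.presheaf.stalk x) (M.presheaf.stalk x) := by
    intro x hx
    refine le_trans ?_ (hd x hx)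
    exact_mod_cast hn
  have hb := bijective_res_inf_of_forall_isAffineOpen M U
    (fun V hV => bijective_res_inf_of_isAffineOpen M U hd2 hV) W
  have hs : Function.Surjective
      ((Coh.toAb M).obj.map (homOfLE (inf_le_left : W ⊓ U ≤ W)).op) := hb.2
  have tr : ∀ (A A' : X.Opens) (_ : A = A') (hA : A ≤ W) (hA' : A' ≤ W),
      Function.Surjective ((Coh.toAb M).obj.map (homOfLE hA).op) →
      Function.Surjective ((Coh.toAb M).obj.map (homOfLE hA').op) := by
    intro A A' e hA hA' h
    subst e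
    exact h
  exact tr _ _ (LocCohVanish.jj_eq U W).symm inf_le_left (jj_le U W) hs

include hd in
lemma locZero_of_depth (k : ℕ) (hk : k + 2 < n) : LocZero U (Coh.toAb M) (k + 1) := by
  intro W ξ x hx
  obtain ⟨W', hW'aff, hxW', hW'W⟩ := Opens.isBasis_iff_nbhd.1 (X.isBasis_affineOpens) hx
  refine ⟨W', hW'W, hxW', ?_⟩
  have hsub : Subsingleton (CohTop.HU (Coh.toAb M) (k + 1) (jj U W')) := by
    rw [LocCohVanish.jj_eq]
    have h1 := LocCohIff.res_surjective_of_HZ (Coh.toAb M) (inf_le_left : W' ⊓ U ≤ W') (k + 1)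
      (subsingleton_HZ_affine M U n hd hW'aff (k + 2) hk)
    have h2 := HU_succ_subsingleton_of_isAffineOpen M W' hW'aff k
    exact h1.subsingleton
  exact Subsingleton.elim _ _

include hd in
/-- **Depth ⇒ vanishing of the local cohomology sheaves.** -/
theorem isZero_HZsh_of_depth (i : ℕ) (hi : i < n) :
    IsZero ((LocCohZ.HZsh (X := X.carrier) U i).obj (Coh.toAb M)) := by
  match i, hi with
  | 0, hi => exact isZero_HZsh_zero_of_depth M U n hd hi
  | 1, hi => exact isZero_HZsh_one_of_depth M U n hd hi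
  | k + 2, hi => exact isZero_HZsh_succ_of_locZero U (Coh.toAb M) k (locZero_of_depth M U n hd k hi)

/-- **Vanishing of the local cohomology sheaves ⇒ depth.** -/
theorem depth_of_isZero_HZsh
    (h : ∀ i : ℕ, i < n → IsZero ((LocCohZ.HZsh (X := X.carrier) U i).obj (Coh.toAb M)))
    (x : X) (hx : x ∉ U) :
    (n : ℕ∞) ≤ LocCoh.depth (X.presheaf.stalk x) (M.presheaf.stalk x) := by
  obtain ⟨V, hV, hxV, -⟩ := Opens.isBasis_iff_nbhd.1 (X.isBasis_affineOpens)
    (show x ∈ (⊤ : X.Opens) from trivial)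
  refine (affine_iff M U hV n).1 (fun i hi => ?_) x hxV hx
  exact LocCohIff.subsingleton_HZ_of_isZero_HZsh U (Coh.toAb M) n h V i hi

end Global

end Groth.Agent.Lib.Helper41.LCSheafDepth
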