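import Groth.Agent.Lib.Helper41.LCCorner
import Groth.Agent.Lib.Helper41.LCSheafDepth
import Groth.Agent.Lib.Helper29.BE2
import Groth.Agent.Lib.QCoh.Helper74_LocFreeStalk

/-!
# `Γ(X, ℋ^d_Y(M)) ≃ H^d_Y(X, M)` for finite locally free `M` when `depth O_{X,y} ≥ d` on `Y`
-/

set_option autoImplicit false
universe u
open AlgebraicGeometry CategoryTheory CategoryTheory.Limits Opposite TopologicalSpace

namespace Groth.Agent.Lib.Helper41.LCLocFree

open Groth.Agent.Lib.Helper41 Groth.Agent.Lib.QCoh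

variable {X : Scheme.{u}} [IsLocallyNoetherian X]

theorem depth_stalk_ge_of_isFinLocFree (M : X.Modules) (hM : FlatMod.IsFinLocFree M) (d : ℕ) (x : X)
    (hd : (d : ℕ∞) ≤ LocCoh.depth (X.presheaf.stalk x) (X.presheaf.stalk x)) :
    (d : ℕ∞) ≤ LocCoh.depth (X.presheaf.stalk x) (M.presheaf.stalk x) := by
  obtain ⟨hfree, hfin⟩ := free_finite_stalk_of_isFinLocFree hM x
  let b := Module.finBasis (X.presheaf.stalk x) (M.presheaf.stalk x)
  rw [Groth.Agent.Lib.Helper29.CMLib.depth_congr b.equivFun]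
  exact Groth.Agent.Lib.Helper29.BE.le_depth_free d hd _

theorem nonempty_sections_equiv_HZM (U : X.Opens) (d : ℕ)
    (hdepth : ∀ x : X, x ∉ U →
      (d : ℕ∞) ≤ LocCoh.depth (X.presheaf.stalk x) (X.presheaf.stalk x))
    (M : X.Modules) (hM : FlatMod.IsFinLocFree M) :
    Nonempty (((LocCohZ.HZsh (X := X.carrier) U d).obj (Coh.toAb M)).obj.obj (op ⊤) ≃+
      LocCohZ.HZM X M d U) := by
  have : M.IsQuasicoherent := isQuasicoherent_of_isFinLocFree hM
  have : M.IsFiniteType := isFiniteType_of_isFinLocFree hM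
  have hd : ∀ x : X, x ∉ U →
      (d : ℕ∞) ≤ LocCoh.depth (X.presheaf.stalk x) (M.presheaf.stalk x) :=
    fun x hx => depth_stalk_ge_of_isFinLocFree M hM d x (hdepth x hx)
  have hz := fun q hq => LCSheafDepth.isZero_HZsh_of_depth M U d hd q hq
  obtain ⟨e⟩ := LCCorner.nonempty_sections_equiv U ⊤ (Coh.toAb M) d hz
  obtain ⟨e2⟩ := OpenImmExt.nonempty_HZ_equiv_of_eq (Coh.toAb M) d
    (inf_le_left : (⊤ : X.Opens) ⊓ U ≤ ⊤) (le_top : U ≤ ⊤) (top_inf_eq U) rfl
  exact ⟨e.trans e2⟩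

end Groth.Agent.Lib.Helper41.LCLocFree
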