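import Groth.Agent.Lib.Helper41.LCFree
import Groth.Agent.Lib.Helper41.LCFreeLoc

/-!
# Annihilators of local cohomology of modules which are locally projective off `V(I)`
-/

set_option autoImplicit false
universe u
open CategoryTheory CategoryTheory.Limits Opposite CategoryTheory.Abelian

namespace Groth.Agent.Lib.Helper41.LC

variable {A : Type u} [CommRing A]

/-- One element: if `M_f` is projective and `a` kills `H^i_I(A)`, then `f^c a` kills `H^i_I(M)`
for some `c`. -/
theorem exists_pow_mul_smul_eq_zero [IsNoetherianRing A] (I : Ideal A) (i : ℕ)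
    (M : Type u) [AddCommGroup M] [Module A M] [Module.Finite A M] (f : A)
    (hM : Module.Projective (Localization.Away f) (LocalizedModule (Submonoid.powers f) M)) :
    ∃ c : ℕ, ∀ a : A, (∀ x : (localCohomology I i).obj (ModuleCat.of A A), a • x = 0) →
      ∀ x : (localCohomology I i).obj (ModuleCat.of A M), (f ^ c * a) • x = 0 := by
  obtain ⟨k, ψ, φ, s, ⟨c, rfl⟩, hfac⟩ :=
    exists_factor_through_free_of_projective M (Submonoid.powers f)
  refine ⟨c, fun a ha x => ?_⟩
  have hcomp : (f ^ c) • 𝟙 (ModuleCat.of A M) = ModuleCat.ofHom ψ ≫ ModuleCat.ofHom φ := by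
    apply ModuleCat.hom_ext
    exact hfac.symm
  have h1 : (f ^ c) • x = ((localCohomology I i).map (ModuleCat.ofHom φ)).hom
      (((localCohomology I i).map (ModuleCat.ofHom ψ)).hom x) := by
    rw [← map_smul_id, hcomp, Functor.map_comp]
    rfl
  rw [mul_comm, mul_smul, h1, ← map_smul, smul_eq_zero_pi_fin I i A a ha k, map_zero]

/-- If `J ≤ I`, `J^n` kills `H^i_I(A)` and `M` is finite and projective after inverting any
element of `I`, then some power of `J` kills `H^i_I(M)`. -/
theorem exists_pow_smul_eq_zero_of_locally_projective [IsNoetherianRing A] (J I : Ideal A)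
    (hJI : J ≤ I) (i n : ℕ)
    (hA : ∀ a ∈ J ^ n, ∀ x : (localCohomology I i).obj (ModuleCat.of A A), a • x = 0)
    (M : Type u) [AddCommGroup M] [Module A M] [Module.Finite A M]
    (hM : ∀ f ∈ I, Module.Projective (Localization.Away f)
      (LocalizedModule (Submonoid.powers f) M)) :
    ∃ m : ℕ, ∀ a ∈ J ^ m, ∀ x : (localCohomology I i).obj (ModuleCat.of A M), a • x = 0 := by
  classical
  obtain ⟨s, hs⟩ := (isNoetherianRing_iff_ideal_fg A).1 inferInstance I
  have hsI : ∀ f ∈ s, f ∈ I := fun f hf => hs ▸ Ideal.subset_span hf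
  choose! c hc using fun f (hf : f ∈ I) => exists_pow_mul_smul_eq_zero I i M f (hM f hf)
  let C := s.sup c
  let 𝔟 : Ideal A := Ideal.span ((fun f => f ^ C) '' (s : Set A))
  let 𝔫 : Ideal A := Module.annihilator A ((localCohomology I i).obj (ModuleCat.of A M))
  have hgen : ∀ f ∈ s, ∀ a ∈ J ^ n, f ^ C * a ∈ 𝔫 := by
    intro f hf a ha
    rw [Module.mem_annihilator]
    intro x
    have hle : c f ≤ C := Finset.le_sup hf
    have : f ^ C * a = f ^ (C - c f) * (f ^ c f * a) := by
      rw [← mul_assoc, ← pow_add, Nat.sub_add_cancel hle]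
    rw [this, mul_smul, hc f (hsI f hf) a (hA a ha) x, smul_zero]
  have hrad : I ≤ 𝔟.radical := by
    rw [← hs, Ideal.span_le]
    intro f hf
    exact ⟨C, Ideal.subset_span ⟨f, hf, rfl⟩⟩
  obtain ⟨N, hN⟩ := Ideal.exists_pow_le_of_le_radical_of_fg hrad
    ((isNoetherianRing_iff_ideal_fg A).1 inferInstance I)
  have hmul : 𝔟 * J ^ n ≤ 𝔫 := by
    rw [Ideal.mul_le]
    intro b hb a ha
    induction hb using Submodule.span_induction with
    | mem b hb =>
      obtain ⟨f, hf, rfl⟩ := hb
      exact hgen f hf a ha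
    | zero => rw [zero_mul]; exact 𝔫.zero_mem
    | add b₁ b₂ _ _ h₁ h₂ => rw [add_mul]; exact 𝔫.add_mem h₁ h₂
    | smul r b _ h => rw [smul_eq_mul, mul_assoc]; exact 𝔫.mul_mem_left r h
  refine ⟨N + n, fun a ha x => ?_⟩
  have h1 : J ^ (N + n) ≤ 𝔫 := by
    rw [pow_add]
    exact (Ideal.mul_mono_left ((Ideal.pow_right_mono hJI N).trans hN)).trans hmul
  exact (Module.mem_annihilator.1 (h1 ha)) x

end Groth.Agent.Lib.Helper41.LC
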