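import Groth.Agent.Lib.Helper41.LCUnion
import Mathlib.Algebra.Module.FinitePresentation
import Mathlib.Algebra.Module.LocalizedModule.Basic

/-!
# Local cohomology and localization (injectivity part)

For a Noetherian ring `R`, a multiplicative set `S`, a finitely generated module `N` and any
module `M`, a class in `Ext^i(N, M)` dying in `Ext^i(N, S⁻¹M)` is killed by some `s ∈ S`.
Hence the same for local cohomology classes.
-/

set_option autoImplicit false
universe u
open CategoryTheory CategoryTheory.Limits Opposite CategoryTheory.Abelian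

namespace Groth.Agent.Lib.Helper41.LC

variable {R : Type u} [CommRing R]

/-- The localization map as a morphism of `ModuleCat`. -/
noncomputable abbrev locMap (S : Submonoid R) (M : ModuleCat.{u} R) :
    M ⟶ ModuleCat.of R (LocalizedModule S M) :=
  ModuleCat.ofHom (LocalizedModule.mkLinearMap S M)

theorem ext_localization_injective [IsNoetherianRing R] (S : Submonoid R) (i : ℕ) :
    ∀ (N : ModuleCat.{u} R) [Module.Finite R N] (M : ModuleCat.{u} R) (e : Ext.{u} N M i),
      e.comp (Ext.mk₀ (locMap S M)) (add_zero i) = 0 → ∃ s ∈ S, s • e = 0 := by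
  induction i with
  | zero =>
    intro N _ M e he
    obtain ⟨φ, rfl⟩ := Ext.addEquiv₀.symm.surjective e
    change (Ext.mk₀ φ).comp (Ext.mk₀ (locMap S M)) (add_zero 0) = 0 at he
    rw [Ext.mk₀_comp_mk₀] at he
    have h1 : φ ≫ locMap S M = 0 := by
      have := congrArg Ext.addEquiv₀ he
      simpa using this
    have h2 : (LocalizedModule.mkLinearMap S M).comp φ.hom =
        (LocalizedModule.mkLinearMap S M).comp (0 : N →ₗ[R] M) := by
      rw [LinearMap.comp_zero]
      exact congrArg ModuleCat.Hom.hom h1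
    obtain ⟨s, hs⟩ := Module.Finite.exists_smul_of_comp_eq_of_isLocalizedModule S
      (LocalizedModule.mkLinearMap S M) φ.hom 0 h2
    refine ⟨s.1, s.2, ?_⟩
    change s.1 • Ext.mk₀ φ = 0
    rw [← Ext.mk₀_smul]
    have h3 : s.1 • φ = 0 := by
      apply ModuleCat.hom_ext
      have : (s.1 • φ).hom = s • φ.hom := rfl
      rw [this, hs, smul_zero]
      rfl
    rw [h3, Ext.mk₀_zero]
  | succ i ih =>
    intro N _ M e he
    obtain ⟨k, g, hg⟩ := Module.Finite.exists_fin' R N
    have hS := LinearMap.shortExact_shortComplexKer hg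
    have hproj : Projective (ModuleCat.of R (Fin k → R)) := inferInstance
    have h0 : (Ext.mk₀ (g.shortComplexKer).g).comp e (zero_add (i + 1)) = 0 :=
      Ext.eq_zero_of_projective _
    obtain ⟨e₁, rfl⟩ := Ext.contravariant_sequence_exact₃ hS M e h0 (show 1 + i = i + 1 by omega)
    have hfin : Module.Finite R (LinearMap.ker g) := inferInstance
    rw [Ext.comp_assoc_of_third_deg_zero] at he
    obtain ⟨x₂, hx₂⟩ := Ext.contravariant_sequence_exact₁ hS _
      (e₁.comp (Ext.mk₀ (locMap S M)) (add_zero i)) (show 1 + i = i + 1 by omega) he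
    rcases Nat.eq_zero_or_pos i with rfl | hi
    · obtain ⟨χ, rfl⟩ := Ext.addEquiv₀.symm.surjective x₂
      change (Ext.mk₀ g.shortComplexKer.f).comp (Ext.mk₀ χ) (zero_add 0) = _ at hx₂
      have : Module.FinitePresentation R (Fin k → R) := Module.finitePresentation_of_finite R _
      obtain ⟨h, t, hht⟩ := Module.FinitePresentation.exists_lift_of_isLocalizedModule S
        (LocalizedModule.mkLinearMap S M) χ.hom
      let h' : ModuleCat.of R (Fin k → R) ⟶ M := ModuleCat.ofHom h
      have hh' : h' ≫ locMap S M = t.1 • χ := by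
        apply ModuleCat.hom_ext
        exact hht
      let e₁' : Ext.{u} (ModuleCat.of R (LinearMap.ker g)) M 0 :=
        t.1 • e₁ - (Ext.mk₀ g.shortComplexKer.f).comp (Ext.mk₀ h') (zero_add 0)
      have he₁' : e₁'.comp (Ext.mk₀ (locMap S M)) (add_zero 0) = 0 := by
        change (t.1 • e₁ - (Ext.mk₀ g.shortComplexKer.f).comp (Ext.mk₀ h') (zero_add 0)).comp
          (Ext.mk₀ (locMap S M)) (add_zero 0) = 0
        have hA : (Ext.mk₀ h').comp (Ext.mk₀ (locMap S M)) (add_zero 0) = t.1 • Ext.mk₀ χ := by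
          rw [Ext.mk₀_comp_mk₀, hh', Ext.mk₀_smul]
        rw [ext_sub_comp, Ext.smul_comp, ← hx₂, Ext.comp_assoc_of_third_deg_zero, hA,
          Ext.comp_smul, sub_self]
      obtain ⟨s, hsS, hs⟩ := ih (ModuleCat.of R (LinearMap.ker g)) M e₁' he₁'
      refine ⟨s * t.1, S.mul_mem hsS t.2, ?_⟩
      have h4 : (s * t.1) • e₁ =
          s • (Ext.mk₀ g.shortComplexKer.f).comp (Ext.mk₀ h') (zero_add 0) := by
        have : s • e₁' = 0 := hs
        change s • (t.1 • e₁ - (Ext.mk₀ g.shortComplexKer.f).comp (Ext.mk₀ h') (zero_add 0)) = 0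
          at this
        rw [smul_sub, sub_eq_zero, smul_smul] at this
        exact this
      rw [← Ext.comp_smul, h4, Ext.comp_smul,
        ← Ext.comp_assoc _ _ _ (add_zero 1) (zero_add 0) (by omega), hS.extClass_comp,
        Ext.zero_comp, smul_zero]
    · obtain ⟨j, rfl⟩ : ∃ j, i = j + 1 := ⟨i - 1, by omega⟩
      have hx0 : x₂ = 0 := Ext.eq_zero_of_projective x₂
      rw [hx0, Ext.comp_zero] at hx₂
      obtain ⟨s, hsS, hs⟩ := ih (ModuleCat.of R (LinearMap.ker g)) M e₁ hx₂.symm
      refine ⟨s, hsS, ?_⟩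
      rw [← Ext.comp_smul, hs, Ext.comp_zero]

/-- A local cohomology class of `M` dying in the local cohomology of `S⁻¹M` is killed by some
`s ∈ S` (Noetherian case). -/
theorem exists_smul_eq_zero_of_map_locMap_eq_zero [IsNoetherianRing R] (I : Ideal R)
    (S : Submonoid R) (i : ℕ) (M : ModuleCat.{u} R) (x : (localCohomology I i).obj M)
    (hx : ((localCohomology I i).map (locMap S M)).hom x = 0) : ∃ s ∈ S, s • x = 0 := by
  obtain ⟨n, e, rfl⟩ := exists_rep x
  rw [map_ιH, ιH_eq_zero_iff] at hx
  obtain ⟨m, hm, h0⟩ := hx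
  rw [← Ext.comp_assoc _ _ _ (zero_add i) (add_zero i) (by omega)] at h0
  have : Module.Finite R (Q I m) := Module.Finite.quotient R _
  obtain ⟨s, hsS, hs⟩ := ext_localization_injective S i (Q I m) M _ h0
  refine ⟨s, hsS, ?_⟩
  rw [← ιH_comp hm, ← map_smul, hs, map_zero]

end Groth.Agent.Lib.Helper41.LC
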