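import Groth.Agent.Lib.Helper41.LCBaseFlat
import Groth.Agent.Lib.Helper41.LCLocalize
import Groth.Agent.Lib.Helper41.LCTop

/-!
# Cohomological dimension is local
-/

set_option autoImplicit false
universe u
open CategoryTheory CategoryTheory.Limits Opposite CategoryTheory.Abelian

namespace Groth.Agent.Lib.Helper41.LC

/-- Type-level version of the independence of base for vanishing (flat case). -/
theorem subsingleton_baseChange_iff {A B : Type u} [CommRing A] [CommRing B] [Algebra A B]
    [Module.Flat A B] (I : Ideal A) (i : ℕ)
    (N : Type u) [AddCommGroup N] [Module A N] [Module B N] [IsScalarTower A B N] :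
    Subsingleton ((localCohomology (I.map (algebraMap A B)) i).obj (ModuleCat.of B N)) ↔
      Subsingleton ((localCohomology I i).obj (ModuleCat.of A N)) := by
  rw [subsingleton_restrictScalars_iff I i (ModuleCat.of B N)]
  let f : ((ModuleCat.restrictScalars (algebraMap A B)).obj (ModuleCat.of B N)) →ₗ[A] N :=
    { toFun := fun n => (show N from n)
      map_add' := fun _ _ => rfl
      map_smul' := fun a n => algebraMap_smul B a (show N from n) }
  let g : N →ₗ[A] ((ModuleCat.restrictScalars (algebraMap A B)).obj (ModuleCat.of B N)) :=
    { toFun := fun n => (show N from n)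
      map_add' := fun _ _ => rfl
      map_smul' := fun a n => (algebraMap_smul B a (show N from n)).symm }
  let e : ((ModuleCat.restrictScalars (algebraMap A B)).obj (ModuleCat.of B N)) ≃ₗ[A] N :=
    LinearEquiv.ofLinearMap f g (LinearMap.ext fun _ => rfl) (LinearMap.ext fun _ => rfl)
  set X := (ModuleCat.restrictScalars (algebraMap A B)).obj (ModuleCat.of B N) with hX
  exact ⟨fun h => @subsingleton_of_linearEquiv A _ I i N X _ _ X.isAddCommGroup X.isModule e.symm h,
    fun h => @subsingleton_of_linearEquiv A _ I i X N X.isAddCommGroup X.isModule _ _ e h⟩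

variable {R : Type u} [CommRing R]

/-- Vanishing of `H^i_I` on all modules can be checked on the localizations at maximal ideals. -/
theorem subsingleton_of_forall_localization [IsNoetherianRing R] (I : Ideal R) (i : ℕ)
    (h : ∀ (p : Ideal R) [p.IsPrime] (N : Type u) [AddCommGroup N]
      [Module (Localization.AtPrime p) N],
      Subsingleton ((localCohomology (I.map (algebraMap R (Localization.AtPrime p))) i).obj
        (ModuleCat.of (Localization.AtPrime p) N)))
    (M : Type u) [AddCommGroup M] [Module R M] :
    Subsingleton ((localCohomology I i).obj (ModuleCat.of R M)) := by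
  refine ⟨fun x y => ?_⟩
  have key : ∀ x : (localCohomology I i).obj (ModuleCat.of R M), x = 0 := by
    intro x
    by_contra hx
    have hne : (Submodule.span R {x}).annihilator ≠ ⊤ := by
      intro htop
      apply hx
      have h1 : (1 : R) ∈ (Submodule.span R {x}).annihilator := htop ▸ Submodule.mem_top
      rw [Submodule.mem_annihilator_span_singleton, one_smul] at h1
      exact h1
    obtain ⟨m, hmax, hle⟩ := Ideal.exists_le_maximal _ hne
    have hprime : m.IsPrime := hmax.isPrime
    have h0 := h m (LocalizedModule m.primeCompl M)
    rw [subsingleton_baseChange_iff I i (LocalizedModule m.primeCompl M)] at h0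
    have hx0 : ((localCohomology I i).map (locMap m.primeCompl (ModuleCat.of R M))).hom x = 0 :=
      Subsingleton.elim _ _
    obtain ⟨s, hsS, hs⟩ := exists_smul_eq_zero_of_map_locMap_eq_zero I m.primeCompl i _ x hx0
    apply hsS
    apply hle
    rw [Submodule.mem_annihilator_span_singleton]
    exact hs
  rw [key x, key y]

end Groth.Agent.Lib.Helper41.LC
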