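import Groth.Agent.Lib.Helper41.LCUnion
import Groth.Agent.Lib.Helper41.LCGen

/-!
# Top local cohomology is right exact; vanishing on the ring implies vanishing on all modules
-/

set_option autoImplicit false
universe u
open CategoryTheory CategoryTheory.Limits Opposite CategoryTheory.Abelian

namespace Groth.Agent.Lib.Helper41.LC

variable {R : Type u} [CommRing R] (I : Ideal R)

/-- If `H^{i+1}_I` vanishes on all modules then `H^i_I` preserves surjections. -/
theorem map_surjective_of_surjective (i : ℕ)
    (hP : ∀ M : ModuleCat.{u} R, Subsingleton ((localCohomology I (i + 1)).obj M))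
    {M N : ModuleCat.{u} R} (g : M ⟶ N) (hg : Function.Surjective g.hom) :
    Function.Surjective ((localCohomology I i).map g).hom := by
  have hS := LinearMap.shortExact_shortComplexKer hg
  have := map_g_surjective_of_subsingleton I hS i (hP _)
  exact this

/-- If `H^{i+1}_I` vanishes on all modules and `H^i_I(R) = 0` then `H^i_I` vanishes on all modules
(Noetherian case). -/
theorem forall_subsingleton_of_ring [IsNoetherianRing R] (i : ℕ)
    (hP : ∀ M : ModuleCat.{u} R, Subsingleton ((localCohomology I (i + 1)).obj M))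
    (hR : Subsingleton ((localCohomology I i).obj (ModuleCat.of R R))) :
    ∀ M : ModuleCat.{u} R, Subsingleton ((localCohomology I i).obj M) := by
  intro M
  apply subsingleton_of_forall_fg
  intro M' hM'
  induction M', hM' using Submodule.fg_induction with
  | singleton y =>
    let g : ModuleCat.of R R ⟶ ModuleCat.of R (Submodule.span R {y}) :=
      ModuleCat.ofHom ((LinearMap.toSpanSingleton R M y).codRestrict (Submodule.span R {y})
        (fun r => Submodule.mem_span_singleton.2 ⟨r, rfl⟩))
    have hg : Function.Surjective g.hom := by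
      rintro ⟨z, hz⟩
      obtain ⟨r, rfl⟩ := Submodule.mem_span_singleton.1 hz
      exact ⟨r, rfl⟩
    exact (map_surjective_of_surjective I i hP g hg).subsingleton
  | sup N₁ N₂ _ _ h₁ h₂ =>
    let ι : ModuleCat.of R N₁ ⟶ ModuleCat.of R (N₁ ⊔ N₂ : Submodule R M) :=
      ModuleCat.ofHom (Submodule.inclusion (le_sup_left : N₁ ≤ N₁ ⊔ N₂))
    have hι : Mono ι := (ModuleCat.mono_iff_injective _).2 (Submodule.inclusion_injective (le_sup_left : N₁ ≤ N₁ ⊔ N₂))
    have hS := shortExact_of_mono ι
    let j : ModuleCat.of R N₂ ⟶ ModuleCat.of R (N₁ ⊔ N₂ : Submodule R M) :=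
      ModuleCat.ofHom (Submodule.inclusion (le_sup_right : N₂ ≤ N₁ ⊔ N₂))
    have hsurj : Function.Surjective (j ≫ cokernel.π ι).hom := by
      intro c
      obtain ⟨⟨x, hx⟩, rfl⟩ := (ModuleCat.epi_iff_surjective (cokernel.π ι)).1 inferInstance c
      obtain ⟨a, ha, b, hb, rfl⟩ := Submodule.mem_sup.1 hx
      refine ⟨⟨b, hb⟩, ?_⟩
      have h1 : (⟨a + b, hx⟩ : (N₁ ⊔ N₂ : Submodule R M)) = ι.hom ⟨a, ha⟩ + j.hom ⟨b, hb⟩ := rfl
      rw [h1, map_add]
      have h2 : (cokernel.π ι).hom (ι.hom ⟨a, ha⟩) = 0 :=
        congrArg (fun φ => φ.hom (⟨a, ha⟩ : N₁)) (cokernel.condition ι)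
      rw [h2, zero_add]
      rfl
    have hC : Subsingleton ((localCohomology I i).obj (cokernel ι)) :=
      (map_surjective_of_surjective I i hP _ hsurj).subsingleton
    refine ⟨fun x y => ?_⟩
    have key : ∀ x : (localCohomology I i).obj (ModuleCat.of R (N₁ ⊔ N₂ : Submodule R M)), x = 0 := by
      intro x
      obtain ⟨x₁, rfl⟩ := exact₂ I hS i x (Subsingleton.elim _ _)
      have : x₁ = 0 := Subsingleton.elim _ _
      rw [this, map_zero]
    rw [key x, key y]

/-- If `H^i_I(R) = 0` for all `i > d` then `H^i_I(M) = 0` for all modules `M` and all `i > d`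
(Noetherian case). -/
theorem forall_subsingleton_of_ring_gt [IsNoetherianRing R] (d : ℕ)
    (hR : ∀ i, d < i → Subsingleton ((localCohomology I i).obj (ModuleCat.of R R))) :
    ∀ (i : ℕ), d < i → ∀ M : ModuleCat.{u} R, Subsingleton ((localCohomology I i).obj M) := by
  obtain ⟨s, hs⟩ := (isNoetherianRing_iff_ideal_fg R).1 inferInstance I
  have key : ∀ k i : ℕ, d < i → s.card < i + k →
      ∀ M : ModuleCat.{u} R, Subsingleton ((localCohomology I i).obj M) := by
    intro k
    induction k with
    | zero =>
      intro i _ hi M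
      rw [← hs]
      exact subsingleton_of_card_lt s M i (by omega)
    | succ k ih =>
      intro i hdi hi
      exact forall_subsingleton_of_ring I i (ih (i + 1) (by omega) (by omega)) (hR i hdi)
  intro i hi
  exact key (s.card + 1) i hi (by omega)

end Groth.Agent.Lib.Helper41.LC
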