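import Groth.Agent.Lib.Helper41.LCSheafDepth
import Groth.Agent.Lib.Helper41.LCFaltings
import Groth.Agent.Lib.Helper41.LCVanish
import Groth.Agent.S11618

/-!
# Vanishing of local cohomology sheaves above the dimension

* `subsingleton_H_of_forall_dim_lt`: `R` Noetherian, `dim R_p < i` for all `p ∈ V(I)` ⇒ `H^i_I(N) = 0`.
* `isZero_HZsh_of_affine`: for quasi-coherent `M`, `ℋ^i_Y(M) = 0` as soon as `H^i_{Y ∩ V}(V, M) = 0`
  for all affine opens `V`.
* `isZero_HZsh_of_dim_lt`: locally Noetherian `X`, `dim O_{X,x} < i` for `x ∈ Y` ⇒ `ℋ^i_Y(M) = 0`.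
-/

set_option autoImplicit false
universe u
open AlgebraicGeometry CategoryTheory CategoryTheory.Limits Opposite TopologicalSpace Abelian

namespace Groth.Agent.Lib.Helper41.LCSheafDim

open Groth.Agent.Lib.Helper41 Groth.Agent.Lib.Helper41.AffOpenLC Groth.Agent.Lib.QCoh
  Groth.Agent.Lib.QCoh.Hartogs Groth.Agent.Lib.Helper41.LCSheafDepth

section Algebra

/-- `H^i_I(N) = 0` when `dim R_p < i` for all primes `p ⊇ I`. -/
theorem subsingleton_H_of_forall_dim_lt (R : Type u) [CommRing R] [IsNoetherianRing R] (I : Ideal R)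
    (N : Type u) [AddCommGroup N] [Module R N] (i : ℕ)
    (h : ∀ p : PrimeSpectrum R, I ≤ p.asIdeal →
      ringKrullDim (Localization.AtPrime p.asIdeal) < (i : WithBot ℕ∞)) :
    Subsingleton (LocCoh.H I i N) := by
  rw [← Module.support_eq_empty_iff (R := R), Set.eq_empty_iff_forall_notMem]
  intro p
  rw [Module.notMem_support_iff]
  by_cases hIp : I ≤ p.asIdeal
  · obtain ⟨e⟩ := Groth.Agent.S11618.result R I p.asIdeal.primeCompl N i
    have : Subsingleton (LocCoh.H (Ideal.map (algebraMap R (Localization p.asIdeal.primeCompl)) I) i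
        (LocalizedModule p.asIdeal.primeCompl N)) := by
      apply LC.subsingleton_of_supportDim_lt
      exact lt_of_le_of_lt (Module.supportDim_le_ringKrullDim _ _) (h p hIp)
    exact e.toEquiv.subsingleton
  · obtain ⟨s, hsI, hsp⟩ := SetLike.not_le_iff_exists.1 hIp
    rw [LocalizedModule.subsingleton_iff]
    intro m
    obtain ⟨n, hn⟩ := LC.isTorsion_H I i (ModuleCat.of R N) m
    exact ⟨s ^ n, p.asIdeal.primeCompl.pow_mem hsp n, hn _ (Ideal.pow_mem_pow hsI n)⟩

end Algebra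

section Top

open Groth.Agent.Lib.Cohomology Groth.Agent.Lib.Cohomology.OpenAdj
  Groth.Agent.Lib.Cohomology.Leray Groth.Agent.Lib.Cohomology.LocCohSh
  Groth.Agent.Lib.Cohomology.RDerFunSES Groth.Agent.Lib.Helper19.LocalVanish
  Groth.Agent.Lib.Helper19.LocCohVanish Groth.Agent.Lib.Helper19

/-- `ℋ^1_Z(F) = 0` as soon as sections of `F` over `U ∩ W` extend locally on `W`. -/
theorem isZero_HZsh_one_of_locSurj {Y : TopCat.{u}} (U : Opens Y) (F : CohTop.Ab Y)
    (h : ∀ (W : Opens Y) (t : F.obj.obj (op (jj U W))) (x : Y), x ∈ W →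
      ∃ (W' : Opens Y) (hW' : W' ≤ W), x ∈ W' ∧ ∃ s : F.obj.obj (op W'),
        F.obj.map (homOfLE (jj_le U W')).op s = F.obj.map (homOfLE (jj_mono U hW')).op t) :
    IsZero ((LocCohZ.HZsh U 1).obj F) := by
  have he' : Epi ((adj' U).unit.app F) := by
    refine (TopCat.Sheaf.isLocallySurjective_iff_epi (X := Y) (C := AddCommGrpCat.{u}) _).1 ?_
    rw [TopCat.Presheaf.isLocallySurjective_iff]
    intro W t x hx
    obtain ⟨W', hW', hxW', s, hs⟩ := h W t x hx
    exact ⟨W', hW', ⟨s, hs⟩, hxW'⟩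
  have he : Epi ((adj U).unit.app F) := by
    rw [unit_eq]; infer_instance
  have h0 : (π' U).app F = 0 := by
    rw [← cancel_epi ((adj U).unit.app F), unit_π'_app, comp_zero]
  rw [IsZero.iff_id_eq_zero, ← cancel_epi ((π' U).app F), h0, zero_comp, zero_comp]

variable {X : Scheme.{u}} (M : X.Modules) [M.IsQuasicoherent] (U : X.Opens)

theorem isZero_HZsh_zero_of_affine
    (h : ∀ W' : X.Opens, IsAffineOpen W' →
      Subsingleton (LocCohZ.HZ (Coh.toAb M) 0 (inf_le_left : W' ⊓ U ≤ W'))) :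
    IsZero ((LocCohZ.HZsh (X := X.carrier) U 0).obj (Coh.toAb M)) := by
  apply LocCohVanish.isZero_HZsh_zero U (Coh.toAb M)
  intro W
  have haff : ∀ (W' : X.Opens), IsAffineOpen W' → Function.Injective
      ((Coh.toAb M).obj.map (homOfLE (inf_le_left : W' ⊓ U ≤ W')).op) := by
    intro W' hW'
    apply LocCohVanish.map_injective_of_res
    exact LocCohIff.res_injective_of_HZ (Coh.toAb M) _ 0 (h W' hW')
  intro s t hst
  apply TopCat.Presheaf.IsSheaf.section_ext (Coh.toAb M).2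
  intro x hx
  obtain ⟨W', hW'aff, hxW', hW'W⟩ := Opens.isBasis_iff_nbhd.1 (X.isBasis_affineOpens) hx
  refine ⟨W', hW'W, hxW', ?_⟩
  apply haff W' hW'aff
  have hle : W' ⊓ U ≤ jj U W := by
    rw [LocCohVanish.jj_eq]; exact inf_le_inf_right U hW'W
  have key : ∀ r, (Coh.toAb M).obj.map (homOfLE (inf_le_left : W' ⊓ U ≤ W')).op
      ((Coh.toAb M).obj.map (homOfLE hW'W).op r) =
      (Coh.toAb M).obj.map (homOfLE hle).op ((Coh.toAb M).obj.map (homOfLE (jj_le U W)).op r) := by
    intro r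
    rw [← ConcreteCategory.comp_apply, ← ConcreteCategory.comp_apply, ← Functor.map_comp,
      ← Functor.map_comp]
    rfl
  rw [key, key, hst]

theorem isZero_HZsh_one_of_affine
    (h : ∀ W' : X.Opens, IsAffineOpen W' →
      Subsingleton (LocCohZ.HZ (Coh.toAb M) 1 (inf_le_left : W' ⊓ U ≤ W'))) :
    IsZero ((LocCohZ.HZsh (X := X.carrier) U 1).obj (Coh.toAb M)) := by
  apply isZero_HZsh_one_of_locSurj U (Coh.toAb M)
  intro W t x hx
  obtain ⟨W', hW'aff, hxW', hW'W⟩ := Opens.isBasis_iff_nbhd.1 (X.isBasis_affineOpens) hx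
  refine ⟨W', hW'W, hxW', ?_⟩
  have hs : Function.Surjective
      ((Coh.toAb M).obj.map (homOfLE (inf_le_left : W' ⊓ U ≤ W')).op) := by
    apply LocCohVanish.map_surjective_of_res
    exact LocCohIff.res_surjective_of_HZ (Coh.toAb M) _ 0 (h W' hW'aff)
  have tr : ∀ (A A' : X.Opens) (_ : A = A') (hA : A ≤ W') (hA' : A' ≤ W'),
      Function.Surjective ((Coh.toAb M).obj.map (homOfLE hA).op) →
      Function.Surjective ((Coh.toAb M).obj.map (homOfLE hA').op) := by
    intro A A' e hA hA' h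
    subst e
    exact h
  exact tr _ _ (LocCohVanish.jj_eq U W').symm inf_le_left (jj_le U W') hs _

lemma locZero_of_affine (k : ℕ)
    (h : ∀ W' : X.Opens, IsAffineOpen W' →
      Subsingleton (LocCohZ.HZ (Coh.toAb M) (k + 2) (inf_le_left : W' ⊓ U ≤ W'))) :
    LocZero U (Coh.toAb M) (k + 1) := by
  intro W ξ x hx
  obtain ⟨W', hW'aff, hxW', hW'W⟩ := Opens.isBasis_iff_nbhd.1 (X.isBasis_affineOpens) hx
  refine ⟨W', hW'W, hxW', ?_⟩
  have hsub : Subsingleton (CohTop.HU (Coh.toAb M) (k + 1) (jj U W')) := by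
    rw [LocCohVanish.jj_eq]
    have h1 := LocCohIff.res_surjective_of_HZ (Coh.toAb M) (inf_le_left : W' ⊓ U ≤ W') (k + 1)
      (h W' hW'aff)
    have h2 := HU_succ_subsingleton_of_isAffineOpen M W' hW'aff k
    exact h1.subsingleton
  exact Subsingleton.elim _ _

/-- For quasi-coherent `M`: `ℋ^i_Y(M) = 0` as soon as `H^i_{Y ∩ V}(V, M) = 0` for all affine `V`. -/
theorem isZero_HZsh_of_affine (i : ℕ)
    (h : ∀ W' : X.Opens, IsAffineOpen W' →
      Subsingleton (LocCohZ.HZ (Coh.toAb M) i (inf_le_left : W' ⊓ U ≤ W'))) :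
    IsZero ((LocCohZ.HZsh (X := X.carrier) U i).obj (Coh.toAb M)) := by
  match i, h with
  | 0, h => exact isZero_HZsh_zero_of_affine M U h
  | 1, h => exact isZero_HZsh_one_of_affine M U h
  | k + 2, h => exact isZero_HZsh_succ_of_locZero U (Coh.toAb M) k (locZero_of_affine M U k h)

end Top

section Dim

variable {X : Scheme.{u}} [IsLocallyNoetherian X] (M : X.Modules) [M.IsQuasicoherent] (U : X.Opens)

lemma ringKrullDim_stalk_eq {V : X.Opens} (hV : IsAffineOpen V) (x : X) (hx : x ∈ V) :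
    ringKrullDim (X.presheaf.stalk x) =
      ringKrullDim (Localization.AtPrime (hV.primeIdealOf ⟨x, hx⟩).asIdeal) := by
  let _ : Algebra Γ(X, V) (X.presheaf.stalk x) := X.presheaf.algebra_section_stalk ⟨x, hx⟩
  have := hV.isLocalization_stalk ⟨x, hx⟩
  exact ringKrullDim_eq_of_ringEquiv
    (IsLocalization.algEquiv (hV.primeIdealOf ⟨x, hx⟩).asIdeal.primeCompl (X.presheaf.stalk x)
      (Localization.AtPrime (hV.primeIdealOf ⟨x, hx⟩).asIdeal)).toRingEquiv

/-- `ℋ^i_Y(M) = 0` when `dim O_{X,x} < i` for all `x ∈ Y`. -/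
theorem isZero_HZsh_of_dim_lt (i : ℕ)
    (hi : ∀ x : X, x ∉ U → ringKrullDim (X.presheaf.stalk x) < (i : WithBot ℕ∞)) :
    IsZero ((LocCohZ.HZsh (X := X.carrier) U i).obj (Coh.toAb M)) := by
  apply isZero_HZsh_of_affine M U i
  intro V hV
  have hN : IsNoetherianRing Γ(X, V) := IsLocallyNoetherian.component_noetherian ⟨V, hV⟩
  obtain ⟨e⟩ := nonempty_HZ_equiv_affineOpen M U hV i
  have : Subsingleton (LocCoh.H (idealOf U hV) i (NV M hV)) := by
    apply subsingleton_H_of_forall_dim_lt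
    intro y hIy
    have hxV : hV.fromSpec y ∈ V := fromSpec_mem V hV y
    have hxU : hV.fromSpec y ∉ U := (idealOf_le_iff U hV y).1 hIy
    have hy : hV.primeIdealOf ⟨hV.fromSpec y, hxV⟩ = y := by
      apply hV.fromSpec.isOpenEmbedding.injective
      exact hV.fromSpec_primeIdealOf ⟨_, hxV⟩
    have := hi _ hxU
    rw [ringKrullDim_stalk_eq hV _ hxV, hy] at this
    exact this
  exact e.toEquiv.subsingleton

end Dim

end Groth.Agent.Lib.Helper41.LCSheafDim
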