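import Groth.Agent.Lib.Helper41.LCChar

/-!
# Cohomological dimension of a sum of ideals: `cd(I + J) ≤ cd(I) + cd(J)`

Dimension-shifting substitute for the Grothendieck spectral sequence of `Γ_{I+J} = Γ_I ∘ Γ_J`.
-/

set_option autoImplicit false
universe u
open CategoryTheory CategoryTheory.Limits Opposite CategoryTheory.Abelian

namespace Groth.Agent.Lib.Helper41.LC

variable {R : Type u} [CommRing R] (I J : Ideal R)

lemma torsion_sup_iff {M : Type u} [AddCommGroup M] [Module R M] (m : M) :
    (∃ n : ℕ, ∀ a ∈ (I ⊔ J) ^ n, a • m = 0) ↔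
      (∃ n : ℕ, ∀ a ∈ I ^ n, a • m = 0) ∧ (∃ n : ℕ, ∀ a ∈ J ^ n, a • m = 0) := by
  constructor
  · rintro ⟨n, hn⟩
    exact ⟨⟨n, fun a ha => hn a (Ideal.pow_right_mono le_sup_left n ha)⟩,
      ⟨n, fun a ha => hn a (Ideal.pow_right_mono le_sup_right n ha)⟩⟩
  · rintro ⟨⟨n, hn⟩, ⟨k, hk⟩⟩
    refine ⟨n + k, fun a ha => ?_⟩
    have ha' : a ∈ I ^ n ⊔ J ^ k := Ideal.sup_pow_add_le_pow_sup_pow ha
    obtain ⟨a₁, ha₁, a₂, ha₂, rfl⟩ := Submodule.mem_sup.1 ha'
    rw [add_smul, hn a₁ ha₁, hk a₂ ha₂, add_zero]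

/-- `Γ_J` on morphisms. -/
noncomputable def gammaMap {M N : ModuleCat.{u} R} (f : M ⟶ N) :
    ModuleCat.of R (powTorsion J M) ⟶ ModuleCat.of R (powTorsion J N) :=
  ModuleCat.ofHom (f.hom.restrict (p := powTorsion J M) (q := powTorsion J N) (fun m hm => by
    obtain ⟨n, hn⟩ := hm
    exact ⟨n, fun a ha => by rw [← map_smul, hn a ha, map_zero]⟩))

lemma gammaMap_apply {M N : ModuleCat.{u} R} (f : M ⟶ N) (x : powTorsion J M) :
    ((gammaMap J f).hom x : N) = f.hom x.1 := rfl

/-- `Γ_J` of a short complex. -/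
noncomputable def gammaSC (S : ShortComplex (ModuleCat.{u} R)) : ShortComplex (ModuleCat.{u} R) :=
  ShortComplex.mk (gammaMap J S.f) (gammaMap J S.g) (by
    apply ModuleCat.hom_ext
    apply LinearMap.ext
    intro x
    apply Subtype.ext
    change S.g.hom (S.f.hom x.1) = 0
    have := congrArg (fun φ => φ.hom x.1) S.zero
    exact this)

/-- `Γ_J` of a short exact sequence is short exact as soon as it is right exact. -/
lemma gammaSC_shortExact {S : ShortComplex (ModuleCat.{u} R)} (hS : S.ShortExact)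
    (hsurj : ∀ c : S.X₃, (∃ n : ℕ, ∀ a ∈ J ^ n, a • c = 0) →
      ∃ e : S.X₂, (∃ n : ℕ, ∀ a ∈ J ^ n, a • e = 0) ∧ S.g.hom e = c) :
    (gammaSC J S).ShortExact := by
  have hinj : Function.Injective S.f.hom := (ModuleCat.mono_iff_injective _).1 hS.mono_f
  have hex : Function.Exact S.f.hom S.g.hom :=
    (ShortComplex.ShortExact.moduleCat_exact_iff_function_exact S).1 hS.exact
  apply ModuleCat.shortComplex_shortExact
  · intro y
    constructor
    · intro hy
      have hy' : S.g.hom y.1 = 0 := congrArg Subtype.val hy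
      obtain ⟨x, hx⟩ := (hex y.1).1 hy'
      have hxt : x ∈ powTorsion J S.X₁ := by
        obtain ⟨n, hn⟩ := y.2
        refine ⟨n, fun a ha => hinj ?_⟩
        rw [map_smul, hx, hn a ha, map_zero]
      exact ⟨⟨x, hxt⟩, Subtype.ext hx⟩
    · rintro ⟨x, rfl⟩
      apply Subtype.ext
      change S.g.hom (S.f.hom x.1) = 0
      exact (hex _).2 ⟨x.1, rfl⟩
  · intro x y hxy
    apply Subtype.ext
    apply hinj
    exact congrArg Subtype.val hxy
  · intro c
    obtain ⟨e, he, hec⟩ := hsurj c.1 c.2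
    exact ⟨⟨e, he⟩, Subtype.ext hec⟩

lemma torsion_subtype_iff {M : Type u} [AddCommGroup M] [Module R M] (P : Submodule R M) (x : P) :
    (∃ n : ℕ, ∀ a ∈ I ^ n, a • x = 0) ↔ (∃ n : ℕ, ∀ a ∈ I ^ n, a • (x : M) = 0) := by
  constructor
  · rintro ⟨n, hn⟩
    exact ⟨n, fun a ha => by rw [← Submodule.coe_smul, hn a ha, Submodule.coe_zero]⟩
  · rintro ⟨n, hn⟩
    exact ⟨n, fun a ha => Subtype.ext (by rw [Submodule.coe_smul, hn a ha, Submodule.coe_zero])⟩

/-- For a `Γ_J`-acyclic module `M`: `H^n_I(Γ_J M) = 0` implies `H^n_{I+J}(M) = 0`. -/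
theorem subsingleton_sup_of_acyclic [IsNoetherianRing R] (n : ℕ) : ∀ M : ModuleCat.{u} R,
    (∀ q, 0 < q → Subsingleton ((localCohomology J q).obj M)) →
    Subsingleton ((localCohomology I n).obj (ModuleCat.of R (powTorsion J M))) →
    Subsingleton ((localCohomology (I ⊔ J) n).obj M) := by
  induction n using Nat.strong_induction_on with
  | _ n ih =>
    intro M hac hn
    rcases Nat.eq_zero_or_pos n with rfl | hpos
    · rw [subsingleton_zero_iff] at hn ⊢
      intro m hm
      obtain ⟨hmI, hmJ⟩ := (torsion_sup_iff I J m).1 hm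
      have := hn ⟨m, hmJ⟩ ((torsion_subtype_iff I (powTorsion J M) ⟨m, hmJ⟩).2 hmI)
      exact congrArg Subtype.val this
    · obtain ⟨k, rfl⟩ : ∃ k, n = k + 1 := ⟨n - 1, by omega⟩
      let E := Injective.under M
      let ι : M ⟶ E := Injective.ι M
      have hS := shortExact_of_mono ι
      set S := ShortComplex.mk ι (cokernel.π ι) (cokernel.condition ι) with hSdef
      have hEJ : ∀ q, 0 < q → Subsingleton ((localCohomology J q).obj S.X₂) :=
        fun q hq => subsingleton_of_injective J E q hq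
      have hEIJ : ∀ q, 0 < q → Subsingleton ((localCohomology (I ⊔ J) q).obj S.X₂) :=
        fun q hq => subsingleton_of_injective (I ⊔ J) E q hq
      have hsurjJ := (subsingleton_one_iff J hS (hEJ 1 one_pos)).1 (hac 1 one_pos)
      have hΓS := gammaSC_shortExact J hS hsurjJ
      have hΓEinj : Injective (ModuleCat.of R (powTorsion J E)) := injective_powTorsion J E
      have hΓE : ∀ q, 0 < q → Subsingleton ((localCohomology I q).obj (gammaSC J S).X₂) :=
        fun q hq => subsingleton_of_injective I (ModuleCat.of R (powTorsion J E)) q hq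
      rcases Nat.eq_zero_or_pos k with rfl | hk
      · have hn' : Subsingleton ((localCohomology I 1).obj (gammaSC J S).X₁) := hn
        have h1 := (subsingleton_one_iff I hΓS (hΓE 1 one_pos)).1 hn'
        rw [subsingleton_one_iff (I ⊔ J) hS (hEIJ 1 one_pos)]
        intro c hc
        obtain ⟨hcI, hcJ⟩ := (torsion_sup_iff I J c).1 hc
        obtain ⟨e, he, hec⟩ := h1 ⟨c, hcJ⟩ ((torsion_subtype_iff I (powTorsion J S.X₃) ⟨c, hcJ⟩).2 hcI)
        refine ⟨e.1, (torsion_sup_iff I J e.1).2
          ⟨(torsion_subtype_iff I (powTorsion J S.X₂) e).1 he, e.2⟩, ?_⟩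
        exact congrArg Subtype.val hec
      · have hCac : ∀ q, 0 < q → Subsingleton ((localCohomology J q).obj S.X₃) := by
          intro q hq
          rw [← subsingleton_succ_iff J hS q (hEJ q hq) (hEJ (q + 1) (by omega))]
          exact hac (q + 1) (by omega)
        have hn' : Subsingleton ((localCohomology I (k + 1)).obj (gammaSC J S).X₁) := hn
        have h1 : Subsingleton ((localCohomology I k).obj (gammaSC J S).X₃) :=
          (subsingleton_succ_iff I hΓS k (hΓE k hk) (hΓE (k + 1) (by omega))).1 hn'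
        have h2 := ih k (by omega) S.X₃ hCac h1
        exact (subsingleton_succ_iff (I ⊔ J) hS k (hEIJ k hk) (hEIJ (k + 1) (by omega))).2 h2

/-- If `H^i_I = 0` on all modules for `i > a` and `H^q_J(M) = 0` for `q > b`, then
`H^n_{I+J}(M) = 0` for `n > a + b`. -/
theorem subsingleton_sup_of_cd [IsNoetherianRing R] (a : ℕ)
    (hI : ∀ (N : ModuleCat.{u} R) (i : ℕ), a < i → Subsingleton ((localCohomology I i).obj N))
    (b : ℕ) : ∀ M : ModuleCat.{u} R,
    (∀ q, b < q → Subsingleton ((localCohomology J q).obj M)) →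
    ∀ n, a + b < n → Subsingleton ((localCohomology (I ⊔ J) n).obj M) := by
  induction b with
  | zero =>
    intro M hM n hn
    exact subsingleton_sup_of_acyclic I J n M hM (hI _ n (by omega))
  | succ b ih =>
    intro M hM n hn
    let E := Injective.under M
    let ι : M ⟶ E := Injective.ι M
    have hS := shortExact_of_mono ι
    set S := ShortComplex.mk ι (cokernel.π ι) (cokernel.condition ι) with hSdef
    have hEJ : ∀ q, 0 < q → Subsingleton ((localCohomology J q).obj S.X₂) :=
      fun q hq => subsingleton_of_injective J E q hq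
    have hEIJ : ∀ q, 0 < q → Subsingleton ((localCohomology (I ⊔ J) q).obj S.X₂) :=
      fun q hq => subsingleton_of_injective (I ⊔ J) E q hq
    have hC : ∀ q, b < q → Subsingleton ((localCohomology J q).obj S.X₃) := by
      intro q hq
      rw [← subsingleton_succ_iff J hS q (hEJ q (by omega)) (hEJ (q + 1) (by omega))]
      exact hM (q + 1) (by omega)
    obtain ⟨m, rfl⟩ : ∃ m, n = m + 1 := ⟨n - 1, by omega⟩
    have h2 := ih S.X₃ hC m (by omega)
    exact (subsingleton_succ_iff (I ⊔ J) hS m (hEIJ m (by omega)) (hEIJ (m + 1) (by omega))).2 h2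

end Groth.Agent.Lib.Helper41.LC
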