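import Groth.Prelude.Def_W4bk5brsh16IT
import Groth.Agent.Lib.Helper58.DTLib
import Mathlib.AlgebraicGeometry.AffineScheme
import Mathlib.AlgebraicGeometry.Morphisms.Affine
import Mathlib.Topology.Sheaves.SheafCondition.UniqueGluing

/-!
# If `I · D_I(A) = D_I(A)` then `Spec A ∖ V(I)` is affine

A homomorphism `h : I^n → A` glues to a section `b` of the structure sheaf over `U = Spec A ∖ V(I)` with
`f^n b = h(f^n)` on `D(f)` (`f ∈ I`).  If `I · D_I(A) = D_I(A)`, this produces a relation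
`1 = ∑ f_j b_j` in `Γ(U, O)` with `f_j ∈ I`, hence `U` is affine.
-/

set_option autoImplicit false
universe u
open CategoryTheory Opposite TopologicalSpace AlgebraicGeometry

namespace Groth.Agent.Lib.Helper41.PuncAffine

open LocCoh Groth.Agent.Lib.Helper58.DTLib

variable {A : Type u} [CommRing A]

/-- The canonical map `A → Γ(Spec A, V)`. -/
noncomputable def am (V : (Spec (CommRingCat.of A)).Opens) :
    A →+* Γ(Spec (CommRingCat.of A), V) :=
  ((Scheme.ΓSpecIso (CommRingCat.of A)).inv ≫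
    (Spec (CommRingCat.of A)).presheaf.map (homOfLE le_top).op).hom

lemma res_am {V W : (Spec (CommRingCat.of A)).Opens} (h : W ⟶ V) (a : A) :
    (Spec (CommRingCat.of A)).presheaf.map h.op (am V a) = am W a := by
  change ((Scheme.ΓSpecIso (CommRingCat.of A)).inv ≫
    (Spec (CommRingCat.of A)).presheaf.map (homOfLE le_top).op ≫
      (Spec (CommRingCat.of A)).presheaf.map h.op) a =
    ((Scheme.ΓSpecIso (CommRingCat.of A)).inv ≫
      (Spec (CommRingCat.of A)).presheaf.map (homOfLE le_top).op) a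
  rw [← Functor.map_comp]
  rfl

/-- The basic open `D(f)` as an open of `Spec A`. -/
abbrev D (f : A) : (Spec (CommRingCat.of A)).Opens := PrimeSpectrum.basicOpen f

lemma isUnit_aux (R : CommRingCat.{u}) (f : R) :
    IsUnit (((Scheme.ΓSpecIso R).inv ≫
      (Spec R).presheaf.map (homOfLE (le_top : PrimeSpectrum.basicOpen f ≤ ⊤)).op).hom f) :=
  IsLocalization.Away.algebraMap_isUnit (S := Γ(Spec R, PrimeSpectrum.basicOpen f)) f

lemma isUnit_am_D (f : A) : IsUnit (am (D f) f) :=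
  isUnit_aux (CommRingCat.of A) f

lemma isUnit_am_of_le {V : (Spec (CommRingCat.of A)).Opens} (f : A) (h : V ≤ D f) :
    IsUnit (am V f) := by
  rw [← res_am (homOfLE h) f]
  exact (isUnit_am_D f).map ((Spec (CommRingCat.of A)).presheaf.map (homOfLE h).op).hom

lemma D_le_puncturedOpen (I : Ideal A) {f : A} (hf : f ∈ I) : D f ≤ puncturedOpen A I := by
  intro p hp hpI
  exact hp (hpI hf)

lemma puncturedOpen_le_iSup (I : Ideal A) :
    puncturedOpen A I ≤ ⨆ f : {f : A // f ∈ I}, D f.1 := by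
  intro p hp
  have hp' : ¬ ((I : Set A) ⊆ p.asIdeal) := hp
  obtain ⟨f, hfI, hfp⟩ := Set.not_subset.1 hp'
  exact Opens.mem_iSup.2 ⟨⟨f, hfI⟩, hfp⟩

/-- Gluing: a homomorphism `h : I^n → A` defines a section `b` over `Spec A ∖ V(I)` with
`f^n b = h(f^n)` on `D(f)` for all `f ∈ I`. -/
theorem exists_glue (I : Ideal A) (n : ℕ) (h : ↥(I ^ n) →ₗ[A] A) :
    ∃ b : Γ(Spec (CommRingCat.of A), puncturedOpen A I), ∀ (f : A) (hf : f ∈ I),
      am (D f) f ^ n * (Spec (CommRingCat.of A)).presheaf.map (homOfLE (D_le_puncturedOpen I hf)).op b =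
        am (D f) (h ⟨f ^ n, Ideal.pow_mem_pow hf n⟩) := by
  let ι := {f : A // f ∈ I}
  let Uι : ι → (Spec (CommRingCat.of A)).Opens := fun f => D f.1
  let sf : ∀ f : ι, Γ(Spec (CommRingCat.of A), Uι f) := fun f =>
    (((isUnit_am_D f.1).unit⁻¹ : (Γ(Spec (CommRingCat.of A), D f.1))ˣ) :
      Γ(Spec (CommRingCat.of A), D f.1)) ^ n * am (D f.1) (h ⟨f.1 ^ n, Ideal.pow_mem_pow f.2 n⟩)
  have hsf : ∀ f : ι, am (D f.1) f.1 ^ n * sf f =
      am (D f.1) (h ⟨f.1 ^ n, Ideal.pow_mem_pow f.2 n⟩) := by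
    intro f
    change am (D f.1) f.1 ^ n * (_ ^ n * _) = _
    rw [← mul_assoc, ← mul_pow]
    have : am (D f.1) f.1 * (((isUnit_am_D f.1).unit⁻¹ : (Γ(Spec (CommRingCat.of A), D f.1))ˣ) :
        Γ(Spec (CommRingCat.of A), D f.1)) = 1 := (isUnit_am_D f.1).mul_val_inv
    rw [this, one_pow, one_mul]
  have hcompat : TopCat.Presheaf.IsCompatible (Spec (CommRingCat.of A)).presheaf Uι sf := by
    intro f g
    set T : (Spec (CommRingCat.of A)).Opens := Uι f ⊓ Uι g with hT
    have hFu : IsUnit (am T f.1) := isUnit_am_of_le f.1 inf_le_left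
    have hGu : IsUnit (am T g.1) := isUnit_am_of_le g.1 inf_le_right
    have h1 : am T f.1 ^ n * (Spec (CommRingCat.of A)).presheaf.map (Opens.infLELeft (Uι f) (Uι g)).op (sf f) =
        am T (h ⟨f.1 ^ n, Ideal.pow_mem_pow f.2 n⟩) := by
      have := congrArg ((Spec (CommRingCat.of A)).presheaf.map (Opens.infLELeft (Uι f) (Uι g)).op) (hsf f)
      rw [map_mul, map_pow, res_am, res_am] at this
      exact this
    have h2 : am T g.1 ^ n * (Spec (CommRingCat.of A)).presheaf.map (Opens.infLERight (Uι f) (Uι g)).op (sf g) =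
        am T (h ⟨g.1 ^ n, Ideal.pow_mem_pow g.2 n⟩) := by
      have := congrArg ((Spec (CommRingCat.of A)).presheaf.map (Opens.infLERight (Uι f) (Uι g)).op) (hsf g)
      rw [map_mul, map_pow, res_am, res_am] at this
      exact this
    have hswap : g.1 ^ n * h ⟨f.1 ^ n, Ideal.pow_mem_pow f.2 n⟩ =
        f.1 ^ n * h ⟨g.1 ^ n, Ideal.pow_mem_pow g.2 n⟩ := by
      rw [← smul_eq_mul, ← smul_eq_mul, ← map_smul, ← map_smul]
      congr 1
      exact Subtype.ext (mul_comm _ _)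
    have hu : IsUnit (am T f.1 ^ n * am T g.1 ^ n) := (hFu.pow n).mul (hGu.pow n)
    apply hu.mul_left_cancel
    calc am T f.1 ^ n * am T g.1 ^ n *
          (Spec (CommRingCat.of A)).presheaf.map (Opens.infLELeft (Uι f) (Uι g)).op (sf f)
        = am T g.1 ^ n * (am T f.1 ^ n *
          (Spec (CommRingCat.of A)).presheaf.map (Opens.infLELeft (Uι f) (Uι g)).op (sf f)) := by ring
      _ = am T (g.1 ^ n * h ⟨f.1 ^ n, Ideal.pow_mem_pow f.2 n⟩) := by
          rw [h1, map_mul, map_pow]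
      _ = am T (f.1 ^ n * h ⟨g.1 ^ n, Ideal.pow_mem_pow g.2 n⟩) := by rw [hswap]
      _ = am T f.1 ^ n * (am T g.1 ^ n *
          (Spec (CommRingCat.of A)).presheaf.map (Opens.infLERight (Uι f) (Uι g)).op (sf g)) := by
          rw [h2, map_mul, map_pow]
      _ = _ := by ring
  obtain ⟨b, hb, -⟩ := TopCat.Sheaf.existsUnique_gluing' (Spec (CommRingCat.of A)).sheaf Uι
    (puncturedOpen A I) (fun f => homOfLE (D_le_puncturedOpen I f.2)) (puncturedOpen_le_iSup I) sf hcompat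
  refine ⟨b, fun f hf => ?_⟩
  have := hb ⟨f, hf⟩
  have h3 : (Spec (CommRingCat.of A)).presheaf.map (homOfLE (D_le_puncturedOpen I hf)).op b = sf ⟨f, hf⟩ :=
    this
  rw [h3]
  exact hsf ⟨f, hf⟩

lemma basicOpen_am (I : Ideal A) {f : A} (hf : f ∈ I) :
    (Spec (CommRingCat.of A)).basicOpen (am (puncturedOpen A I) f) = D f := by
  change (Spec (CommRingCat.of A)).basicOpen
    ((Spec (CommRingCat.of A)).presheaf.map (homOfLE le_top).op
      ((Scheme.ΓSpecIso (CommRingCat.of A)).inv f)) = _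
  rw [Scheme.basicOpen_res, basicOpen_eq_of_affine]
  exact inf_eq_right.2 (D_le_puncturedOpen I hf)

/-- If `I · D_I(A) = D_I(A)` then `Spec A ∖ V(I)` is affine. -/
theorem isAffineOpen_puncturedOpen (I : Ideal A)
    (hI : I • (⊤ : Submodule A (DT I A)) = ⊤) : IsAffineOpen (puncturedOpen A I) := by
  set U := puncturedOpen A I with hU
  let J : Ideal Γ(Spec (CommRingCat.of A), U) := Ideal.span (am U '' (I : Set A))
  -- the predicate
  let P : DT I A → Prop := fun d => ∃ b ∈ J, ∃ (n : ℕ) (h : ↥(I ^ n) →ₗ[A] A), ιDT I A n h = d ∧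
    ∀ (f : A) (hf : f ∈ I),
      am (D f) f ^ n * (Spec (CommRingCat.of A)).presheaf.map (homOfLE (D_le_puncturedOpen I hf)).op b =
        am (D f) (h ⟨f ^ n, Ideal.pow_mem_pow hf n⟩)
  have hP : ∀ d ∈ I • (⊤ : Submodule A (DT I A)), P d := by
    intro d hd
    refine Submodule.smul_induction_on hd ?_ ?_
    · intro r hr d _
      obtain ⟨n, h, rfl⟩ := exists_rep I A d
      obtain ⟨b₀, hb₀⟩ := exists_glue I n h
      refine ⟨am U r * b₀, Ideal.mul_mem_right _ _ (Ideal.subset_span ⟨r, hr, rfl⟩), n, r • h,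
        map_smul _ _ _, fun f hf => ?_⟩
      rw [map_mul, res_am, LinearMap.smul_apply, smul_eq_mul, map_mul, ← hb₀ f hf]
      ring
    · rintro d₁ d₂ ⟨b₁, hb₁J, n₁, h₁, rfl, hb₁⟩ ⟨b₂, hb₂J, n₂, h₂, rfl, hb₂⟩
      refine ⟨b₁ + b₂, J.add_mem hb₁J hb₂J, n₁ + n₂,
        h₁ ∘ₗ Submodule.inclusion (Ideal.pow_le_pow_right (Nat.le_add_right n₁ n₂)) +
          h₂ ∘ₗ Submodule.inclusion (Ideal.pow_le_pow_right (Nat.le_add_left n₂ n₁)), ?_, fun f hf => ?_⟩
      · rw [map_add, ιDT_comp_inclusion I A (Nat.le_add_right n₁ n₂) h₁,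
          ιDT_comp_inclusion I A (Nat.le_add_left n₂ n₁) h₂]
      · have e₁ : h₁ (Submodule.inclusion (Ideal.pow_le_pow_right (Nat.le_add_right n₁ n₂))
            ⟨f ^ (n₁ + n₂), Ideal.pow_mem_pow hf (n₁ + n₂)⟩) =
            f ^ n₂ * h₁ ⟨f ^ n₁, Ideal.pow_mem_pow hf n₁⟩ := by
          rw [← smul_eq_mul, ← map_smul]
          congr 1
          exact Subtype.ext (by simp [pow_add, mul_comm])
        have e₂ : h₂ (Submodule.inclusion (Ideal.pow_le_pow_right (Nat.le_add_left n₂ n₁))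
            ⟨f ^ (n₁ + n₂), Ideal.pow_mem_pow hf (n₁ + n₂)⟩) =
            f ^ n₁ * h₂ ⟨f ^ n₂, Ideal.pow_mem_pow hf n₂⟩ := by
          rw [← smul_eq_mul, ← map_smul]
          congr 1
          exact Subtype.ext (by simp [pow_add])
        rw [LinearMap.add_apply, LinearMap.comp_apply, LinearMap.comp_apply, e₁, e₂, map_add,
          map_add, map_mul, map_mul, map_pow, map_pow, ← hb₁ f hf, ← hb₂ f hf, pow_add]
        ring
  obtain ⟨b, hbJ, n, h, hh, hb⟩ := hP (toDT I A 1) (by rw [hI]; exact Submodule.mem_top)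
  -- `h` is eventually the inclusion
  have hev : ∃ m : ℕ, n ≤ m ∧ ∀ (x : A) (hx : x ∈ I ^ m) (hx' : x ∈ I ^ n), h ⟨x, hx'⟩ = x := by
    rw [toDT_eq, ← ιDT_comp_inclusion I A (Nat.zero_le n), ← sub_eq_zero, ← map_sub,
      ιDT_eq_zero_iff] at hh
    obtain ⟨m, hnm, hm⟩ := hh
    refine ⟨m, hnm, fun x hx hx' => ?_⟩
    have := congrArg (fun φ => φ ⟨x, hx⟩) hm
    simp only [LinearMap.comp_apply, LinearMap.sub_apply, LinearMap.zero_apply,
      LinearMap.flip_apply, LinearMap.domRestrict_apply, LinearMap.lsmul_apply] at this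
    rw [sub_eq_zero] at this
    refine Eq.trans ?_ (this.trans ?_)
    · rfl
    · change x • (1 : A) = x
      rw [smul_eq_mul, mul_one]
  obtain ⟨m, hnm, hm⟩ := hev
  have hb1 : b = 1 := by
    refine TopCat.Sheaf.eq_of_locally_eq' (Spec (CommRingCat.of A)).sheaf
      (fun f : {f : A // f ∈ I} => D f.1) U (fun f => homOfLE (D_le_puncturedOpen I f.2))
      (puncturedOpen_le_iSup I) b 1 (fun f => ?_)
    have hu : IsUnit (am (D f.1) f.1 ^ m) := (isUnit_am_D f.1).pow m
    apply hu.mul_left_cancel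
    obtain ⟨k, rfl⟩ := Nat.exists_eq_add_of_le hnm
    have e : h ⟨f.1 ^ (n + k), Ideal.pow_le_pow_right (Nat.le_add_right n k)
        (Ideal.pow_mem_pow f.2 (n + k))⟩ = f.1 ^ k * h ⟨f.1 ^ n, Ideal.pow_mem_pow f.2 n⟩ := by
      rw [← smul_eq_mul, ← map_smul]
      congr 1
      exact Subtype.ext (by simp [pow_add, mul_comm])
    have h1 := hm (f.1 ^ (n + k)) (Ideal.pow_mem_pow f.2 (n + k))
      (Ideal.pow_le_pow_right (Nat.le_add_right n k) (Ideal.pow_mem_pow f.2 (n + k)))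
    rw [e] at h1
    have h2 := hb f.1 f.2
    change am (D f.1) f.1 ^ (n + k) *
        (Spec (CommRingCat.of A)).presheaf.map (homOfLE (D_le_puncturedOpen I f.2)).op b =
      am (D f.1) f.1 ^ (n + k) *
        (Spec (CommRingCat.of A)).presheaf.map (homOfLE (D_le_puncturedOpen I f.2)).op 1
    rw [map_one, mul_one]
    calc am (D f.1) f.1 ^ (n + k) *
          (Spec (CommRingCat.of A)).presheaf.map (homOfLE (D_le_puncturedOpen I f.2)).op b
        = am (D f.1) f.1 ^ k * (am (D f.1) f.1 ^ n *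
          (Spec (CommRingCat.of A)).presheaf.map (homOfLE (D_le_puncturedOpen I f.2)).op b) := by
          rw [pow_add]; ring
      _ = am (D f.1) (f.1 ^ k * h ⟨f.1 ^ n, Ideal.pow_mem_pow f.2 n⟩) := by
          rw [h2, map_mul, map_pow]
      _ = am (D f.1) f.1 ^ (n + k) := by rw [h1, map_pow]
  have hJ : J = ⊤ := by
    rw [Ideal.eq_top_iff_one, ← hb1]
    exact hbJ
  refine isAffineOpen_of_isAffineOpen_basicOpen U (am U '' (I : Set A)) hJ ?_
  rintro _ ⟨f, hf, rfl⟩
  rw [basicOpen_am I hf]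
  exact IsAffineOpen.Spec_basicOpen (R := CommRingCat.of A) f

end Groth.Agent.Lib.Helper41.PuncAffine
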