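import Groth.Agent.Lib.Helper41.PuncLin
import Groth.Agent.Lib.Helper41.LCArtinian
import Groth.Agent.Lib.Helper41.AffOpenLC
import Groth.Agent.Lib.QCoh.Helper66_SubExt3
import Groth.Agent.Lib.QCoh.Helper43_PushQcqs
import Groth.Agent.Lib.QCoh.AffineOpen
import Groth.Prelude.Def_Formal

/-!
# Cohomology of coherent modules on `Spec A ∖ V(I)` as local cohomology of a finite module

For `A` Noetherian, `U = Spec A ∖ V(I)` and `F` coherent on `U`, there is a finite `A`-module `N`
with `H^{k+1}(U, F) ≃ₗ[A] H^{k+2}_I(N)`.  Consequence: `H^i(U, F)` is Artinian for `i > 0` when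
`(A, m)` is local and `I = m`.
-/

set_option autoImplicit false
set_option linter.style.haveILetI false
universe u
open AlgebraicGeometry CategoryTheory CategoryTheory.Limits Opposite TopologicalSpace Abelian

namespace Groth.Agent.Lib.Helper41.PuncArtinian

open Groth.Agent.Lib.Helper41 Groth.Agent.Lib.Helper41.AffOpenLC Groth.Agent.Lib.QCoh
  Groth.Agent.Lib.Helper41.PuncLin Groth.Agent.Lib.Helper41.AffLCLin Groth.Agent.Lib.Cohomology.HHLES

variable {A : Type u} [CommRing A] [IsNoetherianRing A] (I : Ideal A)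

/-- isomorphic modules have linearly isomorphic cohomology -/
theorem exists_equiv_of_iso {Y : Scheme.{u}} [Y.Over (Spec (CommRingCat.of A))] {F G : Y.Modules}
    (ε : G ≅ F) (n : ℕ) :
    ∃ E : Coh.HH Y F n ≃+ Coh.HH Y G n, ∀ (a : A) (x : Coh.HH Y F n), E (a • x) = a • E x := by
  let e' := (SheafOfModules.toSheaf Y.ringCatSheaf).mapIso ε
  have hfg : ∀ x, Canon.HHlin A ε.hom n (Canon.HHlin A ε.inv n x) = x := by
    intro x
    change Sheaf.H.map e'.hom n (Sheaf.H.map e'.inv n x) = x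
    rw [← Sheaf.H.map_comp_apply, Iso.inv_hom_id, Sheaf.H.map_id_apply]
  have hgf : ∀ x, Canon.HHlin A ε.inv n (Canon.HHlin A ε.hom n x) = x := by
    intro x
    change Sheaf.H.map e'.inv n (Sheaf.H.map e'.hom n x) = x
    rw [← Sheaf.H.map_comp_apply, Iso.hom_inv_id, Sheaf.H.map_id_apply]
  refine ⟨{ (Canon.HHlin A ε.inv n).toAddMonoidHom with
    invFun := Canon.HHlin A ε.hom n, left_inv := hfg, right_inv := hgf }, fun a x => ?_⟩
  exact (Canon.HHlin A ε.inv n).map_smul a x

theorem exists_linearEquiv (F : (↑(LocCoh.puncturedOpen A I) : Scheme.{u}).Modules)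
    (hF : Coh.IsCoh F) (k : ℕ) :
    ∃ (N : ModuleCat.{u} A) (_ : Module.Finite A N),
      Nonempty (Coh.HH (↑(LocCoh.puncturedOpen A I) : Scheme.{u}) F (k + 1) ≃ₗ[A]
        (localCohomology I (k + 2)).obj N) := by
  haveI : F.IsQuasicoherent := hF.1
  haveI : F.IsFiniteType := hF.2
  have hX : ∀ x : (Spec (CommRingCat.of A)), ∃ V : (Spec (CommRingCat.of A)).Opens, x ∈ V ∧
      NoetherianSpace (V : Set (Spec (CommRingCat.of A))) := by
    intro x
    obtain ⟨_, ⟨V, hV : IsAffineOpen V, rfl⟩, hxV, -⟩ :=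
      ((Spec (CommRingCat.of A)).isBasis_affineOpens).exists_subset_of_mem_open
        (Set.mem_univ x) isOpen_univ
    have := IsLocallyNoetherian.component_noetherian (X := Spec (CommRingCat.of A)) ⟨V, hV⟩
    exact ⟨V, hxV, noetherianSpace_of_isAffineOpen V hV⟩
  haveI hE : ((Scheme.Modules.pushforward (LocCoh.puncturedOpen A I).ι).obj F).IsQuasicoherent :=
    isQuasicoherent_pushforward_of_qcqs (LocCoh.puncturedOpen A I).ι F
  obtain ⟨F', i', e, hmono, hq, hft, -⟩ :=
    SubExt.master_locallyNoetherian hX (LocCoh.puncturedOpen A I)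
      ((Scheme.Modules.pushforward (LocCoh.puncturedOpen A I).ι).obj F) F
      ((Scheme.Modules.restrictFunctorAdjCounitIso (LocCoh.puncturedOpen A I).ι).inv.app F)
  haveI := hq
  haveI := hft
  have hN : Module.Finite A (NΓ (CommRingCat.of A) F') := finite_Γ_Spec F'
  let ε : (tilde (R := CommRingCat.of A) (NΓ (CommRingCat.of A) F')).restrict
      (LocCoh.puncturedOpen A I).ι ≅ F :=
    (Scheme.Modules.restrictFunctor (LocCoh.puncturedOpen A I).ι).mapIso
      (tildeIso (CommRingCat.of A) F') ≪≫ e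
  obtain ⟨E1, hE1⟩ := exists_equiv_of_iso (A := A) ε (k + 1)
  obtain ⟨E2, hE2⟩ := exists_equiv_HH I (NΓ (CommRingCat.of A) F') k
  refine ⟨NΓ (CommRingCat.of A) F', hN, ⟨(E1.trans E2).toLinearEquiv fun a x => ?_⟩⟩
  change E2 (E1 (a • x)) = a • E2 (E1 x)
  rw [hE1, hE2]

/-- **`H^i(U, F)` is Artinian** for `U` the punctured spectrum of a Noetherian local ring, `F`
coherent on `U`, and `i > 0`. -/
theorem isArtinian_HH [IsLocalRing A]
    (F : (↑(LocCoh.puncturedOpen A (IsLocalRing.maximalIdeal A)) : Scheme.{u}).Modules)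
    (hF : Coh.IsCoh F) (i : ℕ) (hi : 0 < i) :
    IsArtinian A (Coh.HH (↑(LocCoh.puncturedOpen A (IsLocalRing.maximalIdeal A)) : Scheme.{u}) F i) := by
  obtain ⟨k, rfl⟩ : ∃ k, i = k + 1 := ⟨i - 1, by omega⟩
  obtain ⟨N, hN, ⟨E⟩⟩ := exists_linearEquiv (IsLocalRing.maximalIdeal A) F hF k
  haveI : IsArtinian A ((localCohomology (IsLocalRing.maximalIdeal A) (k + 2)).obj N) :=
    LC.isArtinian_maximalIdeal (k + 2) N
  exact isArtinian_of_linearEquiv E.symm


/-- ranges of the transition maps on cohomology, as `A`-submodules -/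
noncomputable def rangeSub {Y : Scheme.{u}} [Y.Over (Spec (CommRingCat.of A))]
    (G : ℕᵒᵖ ⥤ Y.Modules) (i n s : ℕ) (h : n ≤ s) : Submodule A (Coh.HH Y (G.obj (op n)) i) :=
  LinearMap.range (Canon.HHlin A (G.map (homOfLE h).op) i)

lemma rangeSub_le {Y : Scheme.{u}} [Y.Over (Spec (CommRingCat.of A))]
    (G : ℕᵒᵖ ⥤ Y.Modules) (i n s s' : ℕ) (h : n ≤ s) (hss' : s ≤ s') :
    rangeSub (A := A) G i n s' (h.trans hss') ≤ rangeSub (A := A) G i n s h := by
  rintro _ ⟨x, rfl⟩
  refine ⟨Canon.HHlin A (G.map (homOfLE hss').op) i x, ?_⟩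
  change Sheaf.H.map ((SheafOfModules.toSheaf _).map (G.map (homOfLE h).op)) i
    (Sheaf.H.map ((SheafOfModules.toSheaf _).map (G.map (homOfLE hss').op)) i x) =
    Sheaf.H.map ((SheafOfModules.toSheaf _).map (G.map (homOfLE (h.trans hss')).op)) i x
  have hc : G.map (homOfLE hss').op ≫ G.map (homOfLE h).op = G.map (homOfLE (h.trans hss')).op := by
    rw [← G.map_comp]
    rfl
  rw [Formal.HHmap_comp]
  exact congrArg (fun φ => Sheaf.H.map ((SheafOfModules.toSheaf Y.ringCatSheaf).map φ) i x) hc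

/-- **Mittag-Leffler** for an inverse system whose cohomology at stage `n` is Artinian. -/
theorem mittagLeffler {Y : Scheme.{u}} [Y.Over (Spec (CommRingCat.of A))]
    (G : ℕᵒᵖ ⥤ Y.Modules) (i n : ℕ) [IsArtinian A (Coh.HH Y (G.obj (op n)) i)] :
    ∃ (r : ℕ) (hnr : n ≤ r), ∀ (s : ℕ) (hrs : r ≤ s),
      Set.range (Sheaf.H.map ((SheafOfModules.toSheaf _).map
        (G.map (homOfLE (hnr.trans hrs : n ≤ s)).op)) i) =
      Set.range (Sheaf.H.map ((SheafOfModules.toSheaf _).map
        (G.map (homOfLE (hnr : n ≤ r)).op)) i) := by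
  let f : ℕ →o (Submodule A (Coh.HH Y (G.obj (op n)) i))ᵒᵈ :=
    { toFun := fun t => OrderDual.toDual (rangeSub (A := A) G i n (n + t) (Nat.le_add_right n t))
      monotone' := fun t t' htt' =>
        rangeSub_le (A := A) G i n (n + t) (n + t') (Nat.le_add_right n t)
          (Nat.add_le_add_left htt' n) }
  obtain ⟨m, hm⟩ := IsArtinian.monotone_stabilizes f
  refine ⟨n + m, Nat.le_add_right n m, fun s hrs => ?_⟩
  obtain ⟨t, rfl⟩ : ∃ t, s = n + t := ⟨s - n, by omega⟩
  have h := hm t (by omega)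
  have h' : rangeSub (A := A) G i n (n + m) (Nat.le_add_right n m) =
      rangeSub (A := A) G i n (n + t) (Nat.le_add_right n t) := h
  exact (SetLike.ext'_iff.mp h').symm

end Groth.Agent.Lib.Helper41.PuncArtinian
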