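import Groth.Agent.Lib.Helper41.ExtCanon
import Groth.Agent.Lib.Cohomology.helper5_Restr
import Groth.Agent.Lib.Cohomology.Helper1_SerreVanishing
import Groth.Prelude.Def_LocCohZ

/-!
# Comparison maps for the cohomology of an open subspace / open subscheme

Split off from `PuncLin` (kernel-checking time): `ΦB : H^n(U, F) ≃ H^n(U, F|_U)`, the connecting map
`δZ : H^i(W, F) → H^{i+1}_{V∖W}(V, F)`, and the module-sheaf version `ΦM` with its compatibility with
multiplication by global functions.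
-/

set_option autoImplicit false
universe u
open AlgebraicGeometry CategoryTheory CategoryTheory.Limits Opposite TopologicalSpace Abelian

namespace Groth.Agent.Lib.Helper41.PuncLin

open Groth.Agent.Lib.Cohomology.Restr Groth.Agent.Lib.Helper41

section Top

variable {X : TopCat.{u}} (U : Opens X)

/-- the canonical map `ℤ_U ⟶ (j_! ℤ)|_U` on the subspace `U` -/
noncomputable def uB : constZ (TopCat.of U) ⟶
    (CohTop.restrFunctor U).obj (CohCx.freeSheaf (Opens.grothendieckTopology X) U) :=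
  eHom U _ (𝟙 _)

/-- the canonical comparison `H^n(U, F) ⟶ H^n(U, F|_U)` -/
noncomputable def ΦB (F : CohTop.Ab X) (n : ℕ) :
    CohTop.HU F n U →+ CohTop.H (CohTop.restr F U) n :=
  ExtCanon.Φ (CohTop.restrFunctor U) (uB U) F n

lemma ΦB_comp (F G : CohTop.Ab X) (g : F ⟶ G) (n : ℕ) (x : CohTop.HU F n U) :
    ΦB U G n (Ext.comp (X := CohCx.freeSheaf (Opens.grothendieckTopology X) U) x (Ext.mk₀ g)
      (add_zero n)) =
      Sheaf.H.map ((CohTop.restrFunctor U).map g) n (ΦB U F n x) :=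
  ExtCanon.Φ_comp_mk₀ (CohTop.restrFunctor U) (uB U) g n x

theorem ΦB_bijective (F : CohTop.Ab X) (n : ℕ) : Function.Bijective (ΦB U F n) := by
  apply ExtCanon.Φ_bijective (CohTop.restrFunctor U) (uB U)
  · intro G
    have : (fun φ : CohCx.freeSheaf (Opens.grothendieckTopology X) U ⟶ G =>
        uB U ≫ (CohTop.restrFunctor U).map φ) = eHom U G := by
      funext φ
      have := eHom_naturality U (𝟙 _) φ
      rw [Category.id_comp] at this
      exact this.symm
    rw [this]
    exact (eHom U G).bijective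
  · intro I _ m x
    have h1 : TopCat.Sheaf.IsFlasque I := Groth.Agent.Lib.Cohomology.isFlasque_of_injective I
    have h2 : TopCat.Sheaf.IsFlasque (CohTop.restr I U) := isFlasque_restr U I
    have h3 := Groth.Agent.Lib.Cohomology.H_succ_subsingleton_of_flasque (CohTop.restr I U) m
    exact Subsingleton.elim (α := CohTop.H (CohTop.restr I U) (m + 1)) x 0

variable {W V : Opens X} (h : W ≤ V)

/-- the connecting map `H^i(W, F) ⟶ H^{i+1}_{V∖W}(V, F)` -/
noncomputable def δZ (F : CohTop.Ab X) (i : ℕ) : CohTop.HU F i W →+ LocCohZ.HZ F (i + 1) h :=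
  (LocCohZ.zqSeq_shortExact h).extClass.precomp F (show 1 + i = i + 1 by omega)

lemma δZ_apply (F : CohTop.Ab X) (i : ℕ) (x : CohTop.HU F i W) :
    δZ h F i x = (LocCohZ.zqSeq_shortExact h).extClass.comp x (show 1 + i = i + 1 by omega) := rfl

lemma δZ_comp (F G : CohTop.Ab X) (g : F ⟶ G) (i : ℕ) (x : CohTop.HU F i W) :
    δZ h G i (Ext.comp (X := CohCx.freeSheaf (Opens.grothendieckTopology X) W) x (Ext.mk₀ g)
      (add_zero i)) = (δZ h F i x).comp (Ext.mk₀ g) (add_zero (i + 1)) := by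
  rw [δZ_apply, δZ_apply]
  exact (Ext.comp_assoc _ _ _ (show 1 + i = i + 1 by omega) (add_zero i) (by omega)).symm

theorem δZ_bijective (F : CohTop.Ab X) (i : ℕ) (h1 : Subsingleton (CohTop.HU F i V))
    (h2 : Subsingleton (CohTop.HU F (i + 1) V)) : Function.Bijective (δZ h F i) := by
  constructor
  · rw [injective_iff_map_eq_zero]
    intro x hx
    obtain ⟨x₂, hx₂⟩ := Ext.contravariant_sequence_exact₁ (LocCohZ.zqSeq_shortExact h) F x
      (show 1 + i = i + 1 by omega) hx
    have : x₂ = 0 := Subsingleton.elim (α := CohTop.HU F i V) _ _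
    rw [← hx₂, this, Ext.comp_zero]
    rfl
  · intro y
    have h0 : (Ext.mk₀ (LocCohZ.zqSeq h).g).comp y (zero_add (i + 1)) = 0 :=
      Subsingleton.elim (α := CohTop.HU F (i + 1) V) _ _
    obtain ⟨x₁, hx₁⟩ := Ext.contravariant_sequence_exact₃ (LocCohZ.zqSeq_shortExact h) F y h0
      (show 1 + i = i + 1 by omega)
    exact ⟨x₁, hx₁⟩

end Top


section Scheme

variable {X : Scheme.{u}} (U : X.Opens) (M : X.Modules)

lemma appIso_resTop (r : Γ(X, ⊤)) (W : (↑U : Scheme.{u}).Opens) :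
    (U.ι.appIso W).inv.hom (((↑U : Scheme.{u}).presheaf.map (homOfLE (le_top : W ≤ ⊤)).op).hom
      ((U.ι.appTop).hom r)) = (X.presheaf.map (homOfLE (le_top : U.ι ''ᵁ W ≤ ⊤)).op).hom r := by
  rw [Scheme.Opens.ι_appIso]
  simp only [Iso.refl_inv]
  change ((U.ι.appTop ≫ (↑U : Scheme.{u}).presheaf.map (homOfLE (le_top : W ≤ ⊤)).op)).hom r = _
  rw [Scheme.Opens.ι_appTop]
  change ((X.presheaf.map _ ≫ X.presheaf.map _)).hom r = _
  rw [← Functor.map_comp]
  rfl

/-- restriction to an open of multiplication by a global function -/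
lemma restr_smulAb (r : Coh.Γtop X) (r' : Coh.Γtop (↑U : Scheme.{u}))
    (hr : r' = (U.ι.appTop).hom r) :
    (CohTop.restrFunctor U).map (Coh.smulAb M r) = Coh.smulAb (M.restrict U.ι) r' := by
  subst hr
  ext W m
  change (Coh.smulAb M r).hom.app (op (U.ι ''ᵁ W.unop)) m =
    (Coh.smulAb (M.restrict U.ι) _).hom.app W m
  rw [Coh.smulAb_app, Coh.smulAb_app]
  change _ = @HSMul.hSMul (X.ringCatSheaf.obj.obj (op (U.ι ''ᵁ W.unop)))
    (M.val.obj (op (U.ι ''ᵁ W.unop))) (M.val.obj (op (U.ι ''ᵁ W.unop))) _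
    ((U.ι.appIso W.unop).inv.hom (Coh.resTop (↑U : Scheme.{u}) W ((U.ι.appTop).hom r))) m
  congr 1
  exact (appIso_resTop U r W.unop).symm


/-- the comparison `H^n(U, M) ⟶ H^n(U, M|_U)` for a module `M` -/
noncomputable def ΦM (n : ℕ) :
    CohTop.HU (Coh.toAb M) n U →+ Coh.HH (↑U : Scheme.{u}) (M.restrict U.ι) n :=
  ΦB U (Coh.toAb M) n

theorem ΦM_bijective (n : ℕ) : Function.Bijective (ΦM U M n) :=
  ΦB_bijective U (Coh.toAb M) n

/-- `ΦM` is compatible with multiplication by a global function -/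
lemma ΦM_smul (r : Coh.Γtop X) (n : ℕ) (x : CohTop.HU (Coh.toAb M) n U) :
    ΦM U M n (Ext.comp (X := CohCx.freeSheaf (Opens.grothendieckTopology X) U) x
      (Ext.mk₀ (Coh.smulAb M r)) (add_zero n)) =
      Sheaf.H.map (Coh.smulAb (M.restrict U.ι) ((U.ι.appTop).hom r)) n (ΦM U M n x) := by
  have h := ΦB_comp U _ _ (Coh.smulAb M r) n x
  rw [restr_smulAb U M r _ rfl] at h
  exact h

end Scheme

end Groth.Agent.Lib.Helper41.PuncLin
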