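import Groth.Agent.Lib.Helper41.AffLCLin
import Groth.Agent.Lib.Helper41.PuncLinA

/-!
# Cohomology of the punctured spectrum as local cohomology, linearly

For `A` Noetherian, `I` an ideal, `U = Spec A ∖ V(I)`, `N` an `A`-module and `i ≥ 1`:
`H^i(U, N~|_U) ≃ H^{i+1}_I(N)` compatibly with the action of `A`.
(The general comparison maps live in `PuncLinA`.)
-/

set_option autoImplicit false
universe u
open AlgebraicGeometry CategoryTheory CategoryTheory.Limits Opposite TopologicalSpace Abelian

namespace Groth.Agent.Lib.Helper41.PuncLin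

open Groth.Agent.Lib.Cohomology.Restr Groth.Agent.Lib.Helper41

section Punctured

open Groth.Agent.Lib.Helper41.AffLC Groth.Agent.Lib.Helper41.AffLCLin
  Groth.Agent.Lib.Cohomology

variable {A : Type u} [CommRing A]

lemma toGlobal_eq (I : Ideal A) (a : A) :
    Coh.toGlobal ((↑(LocCoh.puncturedOpen A I) : Scheme.{u}) ↘ Spec (CommRingCat.of A)) a =
      ((LocCoh.puncturedOpen A I).ι.appTop).hom (rr a) :=
  RingHom.comp_apply _ _ _

variable [IsNoetherianRing A] (I : Ideal A)

/-- **Cohomology of `Spec A ∖ V(I)` with coefficients in `N~` is local cohomology, `A`-linearly.** -/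
theorem exists_equiv_HH (N : ModuleCat.{u} A) (k : ℕ) :
    ∃ E : Coh.HH (↑(LocCoh.puncturedOpen A I) : Scheme.{u})
        ((tilde (R := CommRingCat.of A) N).restrict (LocCoh.puncturedOpen A I).ι) (k + 1) ≃+
        (localCohomology I (k + 2)).obj N,
      ∀ (a : A) (x : Coh.HH (↑(LocCoh.puncturedOpen A I) : Scheme.{u})
        ((tilde (R := CommRingCat.of A) N).restrict (LocCoh.puncturedOpen A I).ι) (k + 1)),
        E (a • x) = a • E x := by
  have hq : (tilde (R := CommRingCat.of A) N).IsQuasicoherent :=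
    (fun (R : CommRingCat.{u}) (M : ModuleCat.{u} R) =>
      (inferInstance : (tilde M).IsQuasicoherent)) (CommRingCat.of A) N
  have hv1 := HU_succ_subsingleton_of_isAffineOpen (tilde (R := CommRingCat.of A) N) ⊤
    (isAffineOpen_top _) k
  have hv2 := HU_succ_subsingleton_of_isAffineOpen (tilde (R := CommRingCat.of A) N) ⊤
    (isAffineOpen_top _) (k + 1)
  let eB := AddEquiv.ofBijective
    (ΦM (LocCoh.puncturedOpen A I) (tilde (R := CommRingCat.of A) N) (k + 1))
    (ΦM_bijective (LocCoh.puncturedOpen A I) (tilde (R := CommRingCat.of A) N) (k + 1))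
  let eC := AddEquiv.ofBijective
    (δZ (le_top : LocCoh.puncturedOpen A I ≤ ⊤) ((shF A).obj N) (k + 1))
    (δZ_bijective (le_top : LocCoh.puncturedOpen A I ≤ ⊤) ((shF A).obj N) (k + 1) hv1 hv2)
  obtain ⟨e, he⟩ := exists_equiv_lin I (k + 2) N
  refine ⟨eB.symm.trans (eC.trans e), fun a x => ?_⟩
  set y := eB.symm x with hy
  have hxy : eB y = x := eB.apply_symm_apply x
  have h1 : a • x = eB (Ext.comp
      (X := CohCx.freeSheaf (Opens.grothendieckTopology _) (LocCoh.puncturedOpen A I)) y
      (Ext.mk₀ (sm N a)) (add_zero (k + 1))) := by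
    have h2 := ΦM_smul (LocCoh.puncturedOpen A I) (tilde (R := CommRingCat.of A) N) (rr a) (k + 1) y
    have h0 : a • x = Sheaf.H.map (Coh.smulAb
        ((tilde (R := CommRingCat.of A) N).restrict (LocCoh.puncturedOpen A I).ι)
        (((LocCoh.puncturedOpen A I).ι.appTop).hom (rr a))) (k + 1) x := by
      rw [← toGlobal_eq I a]
      rfl
    rw [h0, ← hxy]
    exact h2.symm
  rw [h1]
  change e (eC (eB.symm (eB _))) = a • e (eC y)
  rw [eB.symm_apply_apply]
  have h4 : eC (Ext.comp
      (X := CohCx.freeSheaf (Opens.grothendieckTopology _) (LocCoh.puncturedOpen A I)) y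
      (Ext.mk₀ (sm N a)) (add_zero (k + 1))) = (eC y).comp (Ext.mk₀ (sm N a)) (add_zero (k + 2)) :=
    δZ_comp (le_top : LocCoh.puncturedOpen A I ≤ ⊤) _ _ (sm N a) (k + 1) y
  rw [h4]
  exact he a (eC y)

end Punctured

end Groth.Agent.Lib.Helper41.PuncLin
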