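import Groth.Prelude
import Mathlib

/-!
# `SGA2.relCodim`: order-theoretic unpacking

`relCodim I p = ⨅ q ⊇ p + I, ht(q/p)`.  We show the height of `q` in `Set.Ici p` is the ideal height
of `q/p` in `A/p`, and that if `relCodim I p = k + 1` then there is a chain `p ≤ p' ⋖ q ⊇ I` with
`ht(p'/p) = k`, `p' ⊉ I` and `relCodim I p' = 1`.
-/

set_option autoImplicit false
universe u

namespace Groth.Agent.Lib.Helper41.RelCodim

variable {A : Type u} [CommRing A]

/-- The height of `q` in `Set.Ici p` is the height of `q/p` in `A/p`. -/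
theorem height_Ici_eq (p q : PrimeSpectrum A) (h : p ≤ q) :
    Order.height (⟨q, h⟩ : Set.Ici p) =
      (q.asIdeal.map (Ideal.Quotient.mk p.asIdeal)).height := by
  have hset : Set.Ici p = PrimeSpectrum.zeroLocus (p.asIdeal : Set A) := by
    ext x
    simp only [Set.mem_Ici, PrimeSpectrum.mem_zeroLocus, SetLike.coe_subset_coe]
    exact Iff.rfl
  let e1 : Set.Ici p ≃o PrimeSpectrum.zeroLocus (p.asIdeal : Set A) := OrderIso.setCongr _ _ hset
  let e2 := p.asIdeal.primeSpectrumQuotientOrderIsoZeroLocus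
  have hprime : (q.asIdeal.map (Ideal.Quotient.mk p.asIdeal)).IsPrime :=
    Ideal.map_isPrime_of_surjective Ideal.Quotient.mk_surjective (by rw [Ideal.mk_ker]; exact h)
  rw [← Order.height_orderIso (e1.trans e2.symm)]
  exact (PrimeSpectrum.height_eq_orderHeight
    (⟨q.asIdeal.map (Ideal.Quotient.mk p.asIdeal), hprime⟩ : PrimeSpectrum (A ⧸ p.asIdeal))).symm

/-- `relCodim I p ≤ ht(q/p)` for `q ⊇ p + I`. -/
theorem relCodim_le (I : Ideal A) (p q : PrimeSpectrum A) (h : p ≤ q) (hI : I ≤ q.asIdeal) :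
    SGA2.relCodim I p ≤ Order.height (⟨q, h⟩ : Set.Ici p) := by
  unfold SGA2.relCodim
  exact iInf_le (fun q : {q : PrimeSpectrum A // p ≤ q ∧ I ≤ q.asIdeal} =>
    Order.height (⟨q.1, q.2.1⟩ : Set.Ici p)) ⟨q, h, hI⟩

/-- If `p ⊉ I` then `relCodim I p ≥ 1`. -/
theorem one_le_relCodim (I : Ideal A) (p : PrimeSpectrum A) (hp : ¬ I ≤ p.asIdeal) :
    1 ≤ SGA2.relCodim I p := by
  unfold SGA2.relCodim
  refine le_iInf fun q => ?_
  rw [Order.one_le_iff_pos, Order.height_pos]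
  intro hmin
  have hle : (⟨q.1, q.2.1⟩ : Set.Ici p) ≤ ⟨p, le_refl p⟩ := hmin (show (⟨p, le_refl p⟩ : Set.Ici p) ≤ ⟨q.1, q.2.1⟩ from q.2.1)
  have hqp : q.1 ≤ p := hle
  exact hp (q.2.2.trans hqp)

/-- If `relCodim I p = k + 1`, there are primes `p ≤ p' ⋖ q` with `q ⊇ I`, `p' ⊉ I`,
`relCodim I p' = 1` and `ht(p'/p) = k`. -/
theorem exists_covBy_of_relCodim_eq (I : Ideal A) (p : PrimeSpectrum A) (k : ℕ)
    (hc : SGA2.relCodim I p = ((k + 1 : ℕ) : ℕ∞)) :
    ∃ (p' q : PrimeSpectrum A) (hpp' : p ≤ p'), p' ⋖ q ∧ I ≤ q.asIdeal ∧ ¬ I ≤ p'.asIdeal ∧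
      SGA2.relCodim I p' = 1 ∧ Order.height (⟨p', hpp'⟩ : Set.Ici p) = k := by
  have hc' := hc
  unfold SGA2.relCodim at hc'
  rw [ENat.iInf_eq_natCast_iff] at hc'
  obtain ⟨⟨⟨q, hpq, hIq⟩, hq⟩, hmin⟩ := hc'
  have hq' : Order.height (⟨q, hpq⟩ : Set.Ici p) = (k : ℕ∞) + 1 := by
    rw [hq]; push_cast; rfl
  rw [Order.height_eq_coe_add_one_iff] at hq'
  obtain ⟨hfin, ⟨⟨p', hpp'⟩, hlt, hht⟩, hall⟩ := hq'
  have hp'q : p' < q := hlt
  have hcov : p' ⋖ q := by
    refine ⟨hp'q, fun r hp'r hrq => ?_⟩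
    have hpr : p ≤ r := hpp'.trans hp'r.le
    have h1 : Order.height (⟨p', hpp'⟩ : Set.Ici p) + 1 ≤ Order.height (⟨r, hpr⟩ : Set.Ici p) :=
      Order.height_add_one_le (show (⟨p', hpp'⟩ : Set.Ici p) < ⟨r, hpr⟩ from hp'r)
    have h2 := hall ⟨r, hpr⟩ (show (⟨r, hpr⟩ : Set.Ici p) < ⟨q, hpq⟩ from hrq)
    rw [hht] at h1
    have : (k : ℕ∞) + 1 ≤ k := h1.trans h2
    exact absurd this (by
      rw [not_le]
      exact_mod_cast Nat.lt_succ_self k)
  have hnI : ¬ I ≤ p'.asIdeal := by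
    intro hI
    have := relCodim_le I p p' hpp' hI
    rw [hc, hht] at this
    exact absurd this (by rw [not_le]; exact_mod_cast Nat.lt_succ_self k)
  refine ⟨p', q, hpp', hcov, hIq, hnI, ?_, hht⟩
  refine le_antisymm ?_ (one_le_relCodim I p' hnI)
  refine (relCodim_le I p' q hp'q.le hIq).trans ?_
  have : Order.height (⟨q, hp'q.le⟩ : Set.Ici p') ≤ ((1 : ℕ) : ℕ∞) := by
    rw [Order.height_le_coe_iff]
    rintro ⟨y, hy⟩ hyq
    have hyq' : y < q := hyq
    have hy' : p' ≤ y := hy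
    have hyp : y = p' := by
      by_contra hne
      exact hcov.2 (lt_of_le_of_ne hy' (Ne.symm hne)) hyq'
    subst hyp
    have : Order.height (⟨y, hy⟩ : Set.Ici y) = 0 := by
      rw [Order.height_eq_zero]
      intro z _
      exact z.2
    rw [this]
    exact_mod_cast Nat.zero_lt_one
  simpa using this

end Groth.Agent.Lib.Helper41.RelCodim
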