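import Groth.Agent.Lib.Helper46.TildePunctured
import Groth.Agent.Lib.Helper41.LCTorsion
import Groth.Prelude.Def_Coh
import Groth.Prelude.Def_CohTop

/-!
# `M~` is flasque for an injective module `M` over a Noetherian ring
-/

set_option autoImplicit false
universe u
open AlgebraicGeometry CategoryTheory Opposite TopologicalSpace

namespace Groth.Agent.Lib.Helper41.TildeFlasque

open Groth.Agent.Lib.Helper46.TildePunctured Groth.Agent.Lib.Helper41.LC

variable {R : Type u} [CommRing R]

/-- `ker (E → Γ(U, E~))` is the `a`-power torsion. -/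
lemma ker_toU_eq_powTorsion [IsNoetherianRing R] (a : Ideal R) (E : Type u) [AddCommGroup E] [Module R E] :
    LinearMap.ker (toU (M := E) (LocCoh.puncturedOpen R a)) = powTorsion a E := by
  rw [ker_toU_puncturedOpen]
  ext m
  constructor
  · intro hm
    rw [Submodule.mem_iSup_of_directed] at hm
    · obtain ⟨n, hn⟩ := hm
      rw [Submodule.mem_torsionBySet_iff] at hn
      exact ⟨n, fun x hx => hn ⟨x, hx⟩⟩
    · intro n m
      refine ⟨max n m, ?_, ?_⟩
      · intro x hx
        rw [Submodule.mem_torsionBySet_iff] at hx ⊢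
        exact fun y => hx ⟨y, Ideal.pow_le_pow_right (le_max_left n m) y.2⟩
      · intro x hx
        rw [Submodule.mem_torsionBySet_iff] at hx ⊢
        exact fun y => hx ⟨y, Ideal.pow_le_pow_right (le_max_right n m) y.2⟩
  · rintro ⟨n, hn⟩
    refine Submodule.mem_iSup_of_mem n ?_
    rw [Submodule.mem_torsionBySet_iff]
    exact fun x => hn x x.2

/-- For an injective module `E` over a Noetherian ring, `E → Γ(U, E~)` is surjective. -/
theorem toU_surjective_of_injective [IsNoetherianRing R] (a : Ideal R) (E : Type u) [AddCommGroup E]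
    [Module R E] [Module.Injective R E] :
    Function.Surjective (toU (M := E) (LocCoh.puncturedOpen R a)) := by
  set U := LocCoh.puncturedOpen R a with hU
  set P := powTorsion a E with hPdef
  have hP : Module.Baer R P := baer_powTorsion a E
  obtain ⟨r, hr⟩ := hP.extension_property P.subtype P.injective_subtype LinearMap.id
  have hr' : ∀ p : P, r p.1 = p := fun p => LinearMap.congr_fun hr p
  set E' := LinearMap.ker r with hE'def
  -- `E'` is injective
  have hE : Module.Baer R E := Module.Baer.of_injective inferInstance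
  have hE' : Module.Baer R E' := by
    intro J g
    obtain ⟨ψ, hψ⟩ := hE J (E'.subtype ∘ₗ g)
    refine ⟨LinearMap.codRestrict E' (ψ - P.subtype ∘ₗ r ∘ₗ ψ) (fun x => ?_), fun x hx => ?_⟩
    · rw [LinearMap.mem_ker, LinearMap.sub_apply, map_sub, LinearMap.comp_apply, LinearMap.comp_apply,
        Submodule.subtype_apply, hr', sub_self]
    · apply Subtype.ext
      rw [LinearMap.codRestrict_apply, LinearMap.sub_apply, LinearMap.comp_apply, LinearMap.comp_apply,
        hψ x hx, LinearMap.comp_apply, Submodule.subtype_apply]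
      have : r (g ⟨x, hx⟩ : E) = 0 := (g ⟨x, hx⟩).2
      rw [this, map_zero, sub_zero]
  -- `toU` restricted to `E'` is injective
  let f : E' →ₗ[R] ((F R E).presheaf.obj (op U)) := (toU (M := E) U) ∘ₗ E'.subtype
  have hf : Function.Injective f := by
    rw [injective_iff_map_eq_zero]
    intro e he
    have h1 : (e : E) ∈ LinearMap.ker (toU (M := E) U) := he
    rw [ker_toU_eq_powTorsion] at h1
    have h2 := hr' ⟨(e : E), h1⟩
    have h3 : r (e : E) = 0 := e.2
    apply Subtype.ext
    have : (⟨(e : E), h1⟩ : P) = 0 := by rw [← h2]; exact h3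
    exact congrArg (Subtype.val : P → E) this
  obtain ⟨ρ, hρ⟩ := hE'.extension_property f hf LinearMap.id
  have hρ' : ∀ e : E', ρ (f e) = e := fun e => LinearMap.congr_fun hρ e
  -- the image of `toU` is the image of `f`
  have himg : ∀ e : E, ∃ e' : E', f e' = toU (M := E) U e := by
    intro e
    refine ⟨⟨e - (r e : E), ?_⟩, ?_⟩
    · rw [LinearMap.mem_ker, map_sub, hr', sub_self]
    · change toU (M := E) U (e - (r e : E)) = _
      rw [map_sub]
      have : (r e : E) ∈ LinearMap.ker (toU (M := E) U) := by
        rw [ker_toU_eq_powTorsion]; exact (r e).2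
      rw [LinearMap.mem_ker.1 this, sub_zero]
  intro s
  let e := ρ s
  refine ⟨(e : E), ?_⟩
  have hfe : f e = toU (M := E) U (e : E) := rfl
  -- `s' = s - f e` is killed by `ρ` and is torsion modulo the image
  have hs' : ρ (s - f e) = 0 := by rw [map_sub, hρ', sub_self]
  obtain ⟨n, hn⟩ := isPowerTorsion_coker_toU (M := E) a (Submodule.Quotient.mk (s - f e))
  have hzero : s - f e = 0 := by
    have hmem : s - f e ∈ (⨆ n : ℕ, LocCoh.torsionBy (a ^ n) ((F R E).presheaf.obj (op U))) := by
      refine Submodule.mem_iSup_of_mem n ?_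
      rw [Submodule.mem_torsionBySet_iff]
      intro x
      have h1 := hn x x.2
      rw [← Submodule.Quotient.mk_smul, Submodule.Quotient.mk_eq_zero] at h1
      obtain ⟨e₁, he₁⟩ := h1
      obtain ⟨e₁', he₁'⟩ := himg e₁
      have h2 : ρ ((x : R) • (s - f e)) = 0 := by rw [map_smul, hs', smul_zero]
      rw [← he₁, ← he₁', hρ'] at h2
      rw [← he₁, ← he₁', h2, map_zero]
    rw [torsion_sections_puncturedOpen] at hmem
    exact (Submodule.mem_bot R).1 hmem
  rw [← hfe]
  exact (sub_eq_zero.1 hzero).symm

end Groth.Agent.Lib.Helper41.TildeFlasque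

namespace Groth.Agent.Lib.Helper41.TildeFlasque

open Groth.Agent.Lib.Helper46.TildePunctured Groth.Agent.Lib.Helper41.LC

variable {R : Type u} [CommRing R]

/-- Every open of `Spec R` is a punctured open. -/
lemma exists_eq_puncturedOpen (U : (Spec (CommRingCat.of R)).Opens) :
    ∃ a : Ideal R, U = LocCoh.puncturedOpen R a := by
  refine ⟨PrimeSpectrum.vanishingIdeal (U.1 : Set (PrimeSpectrum R))ᶜ, ?_⟩
  apply Opens.ext
  change (U.1 : Set (PrimeSpectrum R)) = (PrimeSpectrum.zeroLocus _)ᶜ
  rw [PrimeSpectrum.zeroLocus_vanishingIdeal_eq_closure]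
  have hc : IsClosed (U.1 : Set (PrimeSpectrum R))ᶜ := U.2.isClosed_compl
  exact (by rw [hc.closure_eq, compl_compl] :
    (U.1 : Set (PrimeSpectrum R)) = (closure (U.1 : Set (PrimeSpectrum R))ᶜ)ᶜ)

/-- For an injective module `E` over a Noetherian ring, `E → Γ(U, E~)` is surjective for every open
`U`. -/
theorem toU_surjective_of_injective' [IsNoetherianRing R] (E : Type u) [AddCommGroup E]
    [Module R E] [Module.Injective R E] (U : (Spec (CommRingCat.of R)).Opens) :
    Function.Surjective (toU (M := E) U) := by
  obtain ⟨a, rfl⟩ := exists_eq_puncturedOpen U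
  exact toU_surjective_of_injective a E

/-- The abelian sheaf of `E~`. -/
noncomputable abbrev shf (R : Type u) [CommRing R] (E : Type u) [AddCommGroup E] [Module R E] :
    CohTop.Ab (Spec (CommRingCat.of R)).carrier :=
  Coh.toAb (tilde (R := CommRingCat.of R) (ModuleCat.of R E))

/-- **Hartshorne III.3.4**: `E~` is flasque for `E` injective over a Noetherian ring. -/
theorem isFlasque_tilde_of_injective [IsNoetherianRing R] (E : Type u) [AddCommGroup E]
    [Module R E] [Module.Injective R E] : TopCat.Sheaf.IsFlasque (shf R E) := by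
  constructor
  intro V W i
  rw [AddCommGrpCat.epi_iff_surjective]
  intro s
  obtain ⟨e, he⟩ := toU_surjective_of_injective' E W.unop s
  refine ⟨toU (M := E) V.unop e, ?_⟩
  have h := res_toU (M := E) (leOfHom i.unop) e
  rw [← he, ← h]
  rfl

end Groth.Agent.Lib.Helper41.TildeFlasque
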